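import Cfsg.Agent.Lib.KnownA.FischerOut.Basic

/-!
Automorphisms preserving the transpositions are determined by a diagram tuple.
-/

set_option autoImplicit false
set_option linter.unusedSectionVars false

namespace CfsgLib.KnownA.FischerOut

open CfsgLib.InvChar.Coset

variable {T : Table} {G : Type*} [Group G] (A : Act T G)

/-- Two words with the same rows are equal in the group. -/
theorem Act.wprod_ext {L M : List ℕ} (hL : ∀ x ∈ L, x < T.g) (hM : ∀ x ∈ M, x < T.g)
    (h : ∀ i < T.n, T.follow L i = T.follow M i) : wprod A.gen L = wprod A.gen M := by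
  refine A.inj (inv_injective (Equiv.ext fun i => Fin.ext ?_))
  rw [← A.follow L hL, ← A.follow M hM, h i i.2]

theorem pal_lt {g : ℕ} (hg : 0 < g) {L : List ℕ} (hL : ∀ x ∈ L, x < g) : ∀ x ∈ pal L, x < g := by
  intro x hx
  simp only [pal, List.mem_append, List.mem_reverse, List.mem_cons] at hx
  rcases hx with hx | rfl | hx
  · exact hL x hx
  · exact hg
  · exact hL x hx

/-- The standard tuple from a check of the table. -/
theorem std_of_check (hg : 0 < T.g) (S : List (List ℕ)) (hl : ∀ i < T.g, ∀ x ∈ S.getD i [], x < T.g)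
    (h : ∀ i < T.g, ∀ y < T.n, T.follow [i] y = T.follow (pal (S.getD i [])) y) : Std A S := by
  refine fun i hi => ⟨hl i hi, fun p hp => ?_⟩
  rw [A.d_pw (hl i hi) hp, ← A.wprod_ext (L := [i]) (by simp [hi]) (pal_lt hg (hl i hi)) (h i hi)]
  simp [wprod]

variable {S : List (List ℕ)} (hS : Std A S)
include hS

theorem std_point (i : ℕ) (hi : i < T.g) : ∃ p : Fin T.n, (p : ℕ) = pw T (S.getD i []) ∧ A.d p = A.gen i := by
  refine ⟨A.rep (wprod A.gen (S.getD i []).reverse) A.o, A.pt_eq (hS i hi).1, ?_⟩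
  exact (hS i hi).2 _ (A.pt_eq (hS i hi).1)

/-- An automorphism mapping the first generator to a transposition moves the generators to a diagram
tuple. -/
theorem exists_tuple (φ : MulAut G) (h0 : ∃ p, φ (A.gen 0) = A.d p)
    (hdist : ∀ i < T.g, ∀ j < T.g, pw T (S.getD i []) = pw T (S.getD j []) → i = j) :
    ∃ x : ℕ → Fin T.n, Pat A S x ∧ ∀ i < T.g, φ (A.gen i) = A.d (x i) := by
  classical
  obtain ⟨p, hp⟩ := h0
  have hex : ∀ i, ∃ q : Fin T.n, i < T.g → φ (A.gen i) = A.d q := by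
    intro i
    by_cases hi : i < T.g
    · obtain ⟨q, -, hq⟩ := std_point A hS i hi
      obtain ⟨u, hu⟩ := A.trans q
      rw [← hu, show (⟨0, A.hn⟩ : Fin T.n) = A.o from rfl, A.d_eq] at hq
      refine ⟨A.rep (φ u) p, fun _ => ?_⟩
      rw [← hq, map_mul, map_mul, map_inv, hp, A.conj_d]
    · exact ⟨A.o, fun h => absurd h hi⟩
  choose x hx using hex
  refine ⟨x, fun i hi j hj hij => ?_, hx⟩
  obtain ⟨pi, hpi, hdi⟩ := std_point A hS i hi
  obtain ⟨pj, hpj, hdj⟩ := std_point A hS j hj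
  refine ⟨fun h => hij (hdist i hi j hj ?_), ?_⟩
  · have h1 : A.gen i = A.gen j := φ.injective (by rw [hx i hi, hx j hj, h])
    rw [← hdi, ← hdj] at h1
    rw [← hpi, ← hpj, A.d_injective h1]
  · rw [← A.commute_iff, ← hx i hi, ← hx j hj, Commute, SemiconjBy, ← map_mul, ← map_mul,
      φ.injective.eq_iff]
    refine (show Commute (A.gen j) (A.gen i) ↔ _ from ?_)
    rw [← hdj, ← hdi, A.commute_iff, hdj]
    have hf := A.follow [j] (by simp [hj]) pi
    rw [show wprod A.gen [j] = A.gen j by simp [wprod], ← hpi] at *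
    rw [hf, Fin.val_inj, Equiv.Perm.inv_eq_iff_eq]
    exact eq_comm

/-- Up to inner automorphisms an automorphism fixing the class sends the generators to a target. -/
theorem exists_conj (φ : MulAut G) (h0 : ∃ p, φ (A.gen 0) = A.d p)
    (hdist : ∀ i < T.g, ∀ j < T.g, pw T (S.getD i []) = pw T (S.getD j []) → i = j)
    {tg : List (List (List ℕ))}
    (hall : ∀ x : ℕ → Fin T.n, Pat A S x →
      ∃ g : G, ∃ t ∈ tg, ∀ i < T.g, (A.rep g (x i) : ℕ) = pw T (t.getD i []))
    (hlt : ∀ t ∈ tg, ∀ i < T.g, ∀ y ∈ t.getD i [], y < T.g) :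
    ∃ g : G, ∃ t ∈ tg, ∀ i < T.g, g * φ (A.gen i) * g⁻¹ = wprod A.gen (pal (t.getD i [])) := by
  obtain ⟨x, hx, hφ⟩ := exists_tuple A hS φ h0 hdist
  obtain ⟨g, t, ht, hg⟩ := hall x hx
  exact ⟨g, t, ht, fun i hi => by rw [hφ i hi, A.conj_d, A.d_pw (hlt t ht i hi) (hg i hi)]⟩

end CfsgLib.KnownA.FischerOut
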