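import Cfsg.Agent.Lib.KnownA.FischerOut.T22OutBase

/-!
Kernel check: a word of Fi22 has order dividing 11.
-/

set_option autoImplicit false
set_option maxRecDepth 100000

namespace CfsgLib.KnownA.FischerOut.T22

open CfsgLib.InvChar.Coset

/-- A word of order 11 fixing only the base point. -/
def xw : List ℕ := [0, 7, 3, 6, 5, 4, 4, 8, 0, 1, 2, 3, 4, 7, 0, 1, 2, 3, 4, 7, 0, 1, 2, 3, 4, 7, 0, 1, 2, 3, 4,
  7, 0, 1, 2, 3, 4, 7, 2, 0, 4, 3]

theorem xw_pow_low : allFrom (fun i => Nat.beq (FiA.table.follow (List.replicate 11 xw).flatten i) i) 0 1755 =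
    true := by decide +kernel

end CfsgLib.KnownA.FischerOut.T22
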