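import Cfsg.Agent.Lib.KnownA.FischerOut.T22ElevenCheck

/-!
Kernel check: a word of Fi22 has order dividing 11.
-/

set_option autoImplicit false
set_option maxRecDepth 100000

namespace CfsgLib.KnownA.FischerOut.T22

open CfsgLib.InvChar.Coset

theorem xw_pow_high : allFrom (fun i => Nat.beq (FiA.table.follow (List.replicate 11 xw).flatten i) i) 1755 1755 =
    true := by decide +kernel

end CfsgLib.KnownA.FischerOut.T22
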