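import Cfsg.Agent.Lib.InvChar.SporFi22Trans
import Cfsg.Agent.Lib.KnownA.FischerOut.Auto
import Cfsg.Agent.Lib.KnownA.FischerOut.T22ElevenCheck
import Cfsg.Agent.Lib.KnownA.FischerOut.T22ElevenCheckHigh
import Cfsg.Agent.Lib.Trans3.Fi.U6Eleven

/-!
An involution of the presented Fi22 whose centraliser is that of a transposition is a transposition.
-/

set_option autoImplicit false
set_option maxRecDepth 100000
set_option linter.unusedSectionVars false

namespace CfsgLib.KnownA.FischerOut.T22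

open CfsgLib.InvChar CfsgLib.InvChar.Coset Cfsg.Spor

local notation "z₀" => (SporFi22.gen 0 : Fi22)

/-- The action on the 3510 transpositions. -/
noncomputable def act : Act FiA.table Fi22 where
  gen := SporFi22.gen
  gg := SporFi22.gen_mul_self
  closure := SporFi22.closure_gen
  rep := SporFi22.rep
  inj := SporFi22.card_eq.2
  hn := FiA.covered.hn
  follow L hL i := by
    rw [← SporFi22.rep_inv_wprod L hL i, map_inv]
  trans p := by
    obtain ⟨-, e, he0, he⟩ := SporFi22.index_H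
    obtain ⟨g, hg⟩ := QuotientGroup.mk_surjective (e p)
    refine ⟨g, e.injective ?_⟩
    rw [← he, he0, ← hg]
    show ((g * 1 : Fi22) : Fi22 ⧸ SporFi22.H) = g
    rw [mul_one]
  stab g := by
    obtain ⟨-, e, he0, he⟩ := SporFi22.index_H
    have h1 : g ∈ SporFi22.H ↔ g * z₀ * g⁻¹ = z₀ := by
      rw [← SporFi22.centralizer_gen_zero, Subgroup.mem_centralizer_singleton_iff,
        mul_inv_eq_iff_eq_mul]
    rw [← h1, ← e.injective.eq_iff, ← he, he0]
    show ((g * 1 : Fi22) : Fi22 ⧸ SporFi22.H) = ((1 : Fi22) : Fi22 ⧸ SporFi22.H) ↔ _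
    rw [mul_one, QuotientGroup.eq, mul_one, inv_mem_iff]

theorem xw_lt : ∀ x ∈ xw, x < 9 := by decide

theorem xw_pow_at (i : ℕ) (hi : i < 3510) :
    Nat.beq (FiA.table.follow (List.replicate 11 xw).flatten i) i = true := by
  rcases Nat.lt_or_ge i 1755 with h | h
  · exact allFrom_get _ xw_pow_low i (Nat.zero_le _) (by omega)
  · exact allFrom_get _ xw_pow_high i h (by omega)

theorem xw_fix : allFrom (fun i => beqB (Nat.beq (FiA.table.follow xw i) i) (Nat.beq i 0)) 0 3510 = true := by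
  decide +kernel

/-- The element of order 11. -/
noncomputable def xe : Fi22 := wprod SporFi22.gen xw

theorem rep_xe_fix (i : Fin FiA.table.n) : SporFi22.rep xe i = i ↔ i = act.o := by
  have hi : (i : ℕ) < 0 + 3510 := by have h : (i : ℕ) < 3510 := i.2; omega
  have h := eq_of_beqB (allFrom_get _ xw_fix i (Nat.zero_le _) hi)
  rw [SporFi22.rep_inv_wprod xw xw_lt i |>.symm] at h
  change (Nat.beq ((SporFi22.rep xe⁻¹ i : Fin FiA.table.n) : ℕ) i) = _ at h
  rw [map_inv] at h
  constructor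
  · intro e
    rw [Equiv.Perm.inv_eq_iff_eq.2 e.symm, Nat.beq_refl] at h
    exact Fin.ext (Nat.eq_of_beq_eq_true h.symm)
  · intro e
    rw [show (i : ℕ) = 0 from congrArg Fin.val e, Nat.beq_refl] at h
    have h' := Nat.eq_of_beq_eq_true h
    rw [show (0 : ℕ) = (i : ℕ) from (congrArg Fin.val e).symm] at h'
    exact (Equiv.Perm.inv_eq_iff_eq.1 (Fin.ext h')).symm

theorem orderOf_xe : orderOf xe = 11 := by
  haveI : Fact (Nat.Prime 11) := ⟨by norm_num⟩
  refine orderOf_eq_prime (inv_injective ?_) fun h => ?_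
  · rw [inv_one]
    apply SporFi22.card_eq.2
    rw [map_one]
    ext i
    have hlt : ∀ x ∈ (List.replicate 11 xw).flatten, x < 9 := by decide +kernel
    have hw : xe ^ 11 = wprod SporFi22.gen (List.replicate 11 xw).flatten := by
      simp [xe, wprod, List.map_flatten, List.prod_flatten, pow_succ', mul_assoc]
    rw [hw, SporFi22.rep_inv_wprod _ hlt i, Equiv.Perm.one_apply]
    have hi : (i : ℕ) < 3510 := i.2
    exact Nat.eq_of_beq_eq_true (xw_pow_at i (by omega))
  · have h1 := (rep_xe_fix ⟨1, by decide +kernel⟩).1 (by rw [h, map_one, Equiv.Perm.one_apply])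
    exact absurd (congrArg Fin.val h1) (show (1 : ℕ) ≠ 0 by omega)

theorem xe_mem : xe ∈ SporFi22.H := by
  rw [← SporFi22.centralizer_gen_zero, Subgroup.mem_centralizer_singleton_iff]
  exact mul_inv_eq_iff_eq_mul.1 ((act.stab xe).1 ((rep_xe_fix act.o).2 rfl))

/-- The central involution of `H`. -/
noncomputable def Z : ↥SporFi22.H := ⟨z₀, SporFi22.gen_zero_mem⟩

theorem Z_mem : Z ∈ Subgroup.center ↥SporFi22.H := by
  rw [Subgroup.mem_center_iff]
  exact fun k => Subtype.ext (SporFi22.gen_zero_central k k.2)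

theorem Z_ne : Z ≠ 1 := fun h => by
  have := congrArg Subtype.val h
  rw [show (Z : Fi22) = z₀ from rfl] at this
  simpa [this] using SporFi22.orderOf_gen_zero

theorem mem_center {w : ↥SporFi22.H} (hw : w ∈ Subgroup.center ↥SporFi22.H) : w = 1 ∨ w = Z := by
  haveI : Finite Fi22 := SporFi22.card_le.1
  obtain ⟨hc2, -, -⟩ := SporFi22U6.isNonsplitDoubleCover
  have hZ := Z_mem
  have hZ1 := Z_ne
  by_contra hne
  push Not at hne
  have hsub : ({1, Z, w} : Set ↥SporFi22.H) ⊆ (Subgroup.center ↥SporFi22.H : Set ↥SporFi22.H) := by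
    rintro v (rfl | rfl | rfl)
    exacts [one_mem _, hZ, hw]
  have h3 : ({1, Z, w} : Set ↥SporFi22.H).ncard = 3 := by
    rw [Set.ncard_insert_of_notMem, Set.ncard_pair (Ne.symm hne.2)]
    rintro (h | h)
    · exact hZ1 h.symm
    · exact hne.1 h.symm
  have h4 := Set.ncard_le_ncard hsub (Set.toFinite _)
  rw [h3] at h4
  change 3 ≤ Nat.card (Subgroup.center ↥SporFi22.H) at h4
  omega

/-- The quotient by the centre is a group of 3-transpositions isomorphic to `PSU₆(2)`. -/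
theorem quotient_u6 : CfsgLib.Trans3.Fi.IsU6 (↥SporFi22.H ⧸ Subgroup.center ↥SporFi22.H) ∧
    ∃ D : Set (↥SporFi22.H ⧸ Subgroup.center ↥SporFi22.H), Cfsg.IsThreeTranspositionGroup D := by
  haveI : Finite Fi22 := SporFi22.card_le.1
  obtain ⟨K, hK⟩ : ∃ K, K = Subgroup.center ↥SporFi22.H := ⟨_, rfl⟩
  haveI hn : K.Normal := by rw [hK]; infer_instance
  obtain ⟨-, ⟨e⟩, -⟩ := SporFi22U6.isNonsplitDoubleCover
  have hK2 : ∀ w ∈ K, w = 1 ∨ w = Z := fun w hw => mem_center (hK ▸ hw)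
  let D : Set (↥SporFi22.H ⧸ K) := (QuotientGroup.mk : ↥SporFi22.H → _) ''
    {k : ↥SporFi22.H | (k : Fi22) ∈ conjugatesOf z₀ ∧ k ∉ K}
  have hS := SporFi22.isThreeTranspositionClass.1
  have hone : ∀ k : ↥SporFi22.H, k ∉ K → ((k : ↥SporFi22.H ⧸ K) ≠ 1) := fun k hk h =>
    hk ((QuotientGroup.eq_one_iff k).1 h)
  have hD : Cfsg.IsThreeTranspositionGroup D := by
    refine ⟨⟨?_, ?_⟩, ?_, ?_⟩
    · rintro _ ⟨k, ⟨hk, hkK⟩, rfl⟩
      refine orderOf_eq_prime ?_ (hone k hkK)
      rw [← QuotientGroup.mk_pow, show k ^ 2 = 1 from Subtype.ext (by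
        rw [Subgroup.coe_pow, Subgroup.coe_one, ← hS.1 _ hk, pow_orderOf_eq_one]), QuotientGroup.mk_one]
    · rintro _ ⟨k, ⟨hk, -⟩, rfl⟩ _ ⟨l, ⟨hl, -⟩, rfl⟩
      rcases hS.2 _ hk _ hl with h | h
      · left
        rw [← QuotientGroup.mk_mul, ← QuotientGroup.mk_pow,
          show (k * l) ^ 2 = 1 from Subtype.ext (by simpa using h), QuotientGroup.mk_one]
      · right
        rw [← QuotientGroup.mk_mul, ← QuotientGroup.mk_pow,
          show (k * l) ^ 3 = 1 from Subtype.ext (by simpa using h), QuotientGroup.mk_one]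
    · intro q
      induction q using QuotientGroup.induction_on with
      | _ a =>
        rintro _ ⟨k, ⟨hk, hkK⟩, rfl⟩
        refine ⟨a * k * a⁻¹, ⟨?_, fun h => hkK ?_⟩, by simp⟩
        · obtain ⟨u, hu⟩ := isConj_iff.1 hk
          exact isConj_iff.2 ⟨(a : Fi22) * u, by simp [← hu, mul_assoc]⟩
        · have := hn.conj_mem _ h a⁻¹
          simpa [mul_assoc] using this
    · haveI hsimp : IsSimpleGroup (Cfsg.PSU 6 FQ4 2) :=
        CfsgLib.Classical.isSimpleGroup_psu (n := 6) (F := FQ4) (q := 2) SporFi22U6.hF (by norm_num)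
          (by omega)
      subst hK
      haveI : IsSimpleGroup (↥SporFi22.H ⧸ Subgroup.center ↥SporFi22.H) := by
        haveI : Nontrivial (↥SporFi22.H ⧸ Subgroup.center ↥SporFi22.H) := e.toEquiv.nontrivial
        exact IsSimpleGroup.isSimpleGroup_of_surjective e.symm.toMonoidHom e.symm.surjective
      have hDn : (Subgroup.closure D).Normal := by
        refine ⟨fun x hx g => ?_⟩
        induction hx using Subgroup.closure_induction with
        | mem y hy =>
          obtain ⟨k, ⟨hk, hkK⟩, rfl⟩ := hy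
          induction g using QuotientGroup.induction_on with
          | _ a =>
            refine Subgroup.subset_closure ⟨a * k * a⁻¹, ⟨?_, fun h => hkK ?_⟩, by simp⟩
            · obtain ⟨u, hu⟩ := isConj_iff.1 hk
              exact isConj_iff.2 ⟨(a : Fi22) * u, by simp [← hu, mul_assoc]⟩
            · have := hn.conj_mem _ h a⁻¹
              simpa [mul_assoc] using this
        | one => simp
        | mul u v _ _ hu hv => rw [← conj_mul]; exact mul_mem hu hv
        | inv u _ hu => rw [← conj_inv]; exact inv_mem hu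
      refine (hDn.eq_bot_or_eq_top).resolve_left fun hb => ?_
      obtain ⟨u, hu⟩ := act.trans ⟨6, by decide +kernel⟩
      have h6 : act.d ⟨6, by decide +kernel⟩ = SporFi22.gen 2 := by
        rw [act.d_pw (L := [1, 0, 2, 1]) (by decide) (by decide +kernel)]
        exact act.wprod_ext (M := [2]) (by decide) (by decide)
          (fun i hi => Nat.eq_of_beq_eq_true (allFrom_get (q := fun i => Nat.beq
            (FiA.table.follow (pal [1, 0, 2, 1]) i) (FiA.table.follow [2] i)) 3510 (by decide +kernel) i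
            (Nat.zero_le _) (by have h : i < 3510 := hi; omega))) |>.trans (by simp [wprod]; rfl)
      rw [← hu, show (⟨0, act.hn⟩ : Fin FiA.table.n) = act.o from rfl, act.d_eq] at h6
      have hk : SporFi22.gen 2 ∈ SporFi22.H := by
        rw [SporFi22.H]
        have := mem_wordsClosure SporFi22.gen (show [2] ∈ FiA.subs by decide +kernel)
        simpa [wprod] using this
      have hkK : (⟨_, hk⟩ : ↥SporFi22.H) ∉ Subgroup.center ↥SporFi22.H := by
        intro h
        rcases hK2 _ h with h3 | h3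
        · have h4 : SporFi22.gen 2 = 1 := congrArg Subtype.val h3
          have h5 : u * z₀ * u⁻¹ = 1 := h6.trans h4
          have h7 : z₀ = 1 := by simpa using h5
          simpa [h7] using SporFi22.orderOf_gen_zero
        · exact SporFi22.gen_ne 2 0 (by omega) (by omega) ⟨2, by decide +kernel⟩ (by decide +kernel)
            (congrArg Subtype.val h3)
      have hm : ((⟨_, hk⟩ : ↥SporFi22.H) : ↥SporFi22.H ⧸ Subgroup.center ↥SporFi22.H) ∈ Subgroup.closure D :=
        Subgroup.subset_closure ⟨⟨_, hk⟩, ⟨isConj_iff.2 ⟨u, h6⟩, hkK⟩, rfl⟩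
      rw [hb, Subgroup.mem_bot] at hm
      exact hone _ hkK hm
  have hU : CfsgLib.Trans3.Fi.IsU6 (↥SporFi22.H ⧸ K) := by
    subst hK
    exact ⟨FQ4, inferInstance, inferInstance, by rw [SporFi22U6.hF]; norm_num, ⟨e⟩⟩
  subst hK
  exact ⟨hU, D, hD⟩

/-- The image of an element of order 11 of `H`. -/
theorem orderOf_image {y : ↥SporFi22.H} (hy : orderOf y = 11) :
    orderOf (y : ↥SporFi22.H ⧸ Subgroup.center ↥SporFi22.H) = 11 := by
  haveI : Finite Fi22 := SporFi22.card_le.1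
  haveI : Fact (Nat.Prime 11) := ⟨by norm_num⟩
  refine orderOf_eq_prime (by rw [← QuotientGroup.mk_pow, ← hy, pow_orderOf_eq_one, QuotientGroup.mk_one]) ?_
  intro h
  rcases mem_center ((QuotientGroup.eq_one_iff y).1 h) with h' | h'
  · simp [h'] at hy
  · rw [h', ← Subgroup.orderOf_coe, show (Z : Fi22) = z₀ from rfl, SporFi22.orderOf_gen_zero] at hy
    omega

theorem mem_H {g : Fi22} (h : SporFi22.rep g act.o = act.o) : g ∈ SporFi22.H := by
  rw [← SporFi22.centralizer_gen_zero, Subgroup.mem_centralizer_singleton_iff]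
  exact mul_inv_eq_iff_eq_mul.1 ((act.stab g).1 h)

/-- An involution centralising the element of order 11 is the transposition `z₀`. -/
theorem eq_of_commute {t : Fi22} (ht : orderOf t = 2) (hc : Commute t xe) : t = z₀ := by
  haveI : Finite Fi22 := SporFi22.card_le.1
  have htH : t ∈ SporFi22.H := mem_H (by
    refine (rep_xe_fix _).1 ?_
    rw [← Equiv.Perm.mul_apply, ← map_mul, ← hc.eq, map_mul, Equiv.Perm.mul_apply,
      (rep_xe_fix act.o).2 rfl])
  obtain ⟨hU, D, hD⟩ := quotient_u6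
  obtain ⟨xq, hxq⟩ : ∃ xq : ↥SporFi22.H ⧸ Subgroup.center ↥SporFi22.H,
      xq = ((⟨xe, xe_mem⟩ : ↥SporFi22.H) : _) := ⟨_, rfl⟩
  have hxo : orderOf xq = 11 := hxq ▸ orderOf_image (by rw [Subgroup.orderOf_mk, orderOf_xe])
  have h11 := CfsgLib.Trans3.Fi.u6_centralizer_eleven hU hD hxo
  obtain ⟨tq, htq⟩ : ∃ tq : ↥SporFi22.H ⧸ Subgroup.center ↥SporFi22.H,
      tq = ((⟨t, htH⟩ : ↥SporFi22.H) : _) := ⟨_, rfl⟩
  have htC : tq ∈ Subgroup.centralizer ({xq} : Set (↥SporFi22.H ⧸ Subgroup.center ↥SporFi22.H)) := by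
    rw [Subgroup.mem_centralizer_singleton_iff, htq, hxq, ← QuotientGroup.mk_mul, ← QuotientGroup.mk_mul,
      show (⟨t, htH⟩ : ↥SporFi22.H) * ⟨xe, xe_mem⟩ = ⟨xe, xe_mem⟩ * ⟨t, htH⟩ from Subtype.ext hc.eq]
  have h1 := orderOf_dvd_natCard (⟨tq, htC⟩ : ↥(Subgroup.centralizer ({xq} : Set _)))
  rw [h11, Subgroup.orderOf_mk] at h1
  have h2 : orderOf tq ∣ 2 := by
    rw [htq, orderOf_dvd_iff_pow_eq_one, ← QuotientGroup.mk_pow,
      show (⟨t, htH⟩ : ↥SporFi22.H) ^ 2 = 1 from Subtype.ext (by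
        rw [Subgroup.coe_pow, Subgroup.coe_one, ← ht, pow_orderOf_eq_one]), QuotientGroup.mk_one]
  have ht1 : tq = 1 := orderOf_eq_one_iff.1 (Nat.dvd_one.1 (Nat.dvd_gcd h1 h2))
  have htK : (⟨t, htH⟩ : ↥SporFi22.H) ∈ Subgroup.center ↥SporFi22.H := (QuotientGroup.eq_one_iff _).1 (htq ▸ ht1)
  rcases mem_center htK with h | h
  · have h' : t = 1 := congrArg Subtype.val h
    simp [h'] at ht
  · exact congrArg Subtype.val h

/-- An element of order 11 fixes at most one transposition. -/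
theorem fix_unique {y : Fi22} (hy : orderOf y = 11) {p q : Fin FiA.table.n}
    (hp : SporFi22.rep y p = p) (hq : SporFi22.rep y q = q) :
    p = q ∧ ∀ s : Fi22, orderOf s = 2 → Commute s y → s = act.d p := by
  haveI : Finite Fi22 := SporFi22.card_le.1
  haveI : Fact (Nat.Prime 11) := ⟨by norm_num⟩
  have hcard : 11 ^ (Nat.card Fi22).factorization 11 = 11 := by
    rw [SporFi22.card_eq.1, show (64561751654400 : ℕ) = 11 ^ 1 * 5869250150400 by norm_num,
      Nat.factorization_mul (by norm_num) (by norm_num), Finsupp.add_apply,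
      Nat.Prime.factorization_pow (by norm_num : Nat.Prime 11), Finsupp.single_eq_same,
      Nat.factorization_eq_zero_of_not_dvd (by norm_num), pow_one]
  let P : Sylow 11 Fi22 := Sylow.ofCard (Subgroup.zpowers y) (by rw [Nat.card_zpowers, hy, hcard])
  let Q : Sylow 11 Fi22 := Sylow.ofCard (Subgroup.zpowers xe) (by rw [Nat.card_zpowers, orderOf_xe, hcard])
  obtain ⟨g, hg⟩ := MulAction.exists_smul_eq Fi22 P Q
  have hmem : xe ∈ (Q : Subgroup Fi22) := by simp [Q]
  rw [← hg, Sylow.coe_subgroup_smul, Subgroup.mem_smul_pointwise_iff_exists] at hmem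
  obtain ⟨w, hw, hwx⟩ := hmem
  have hw' : w ∈ Subgroup.zpowers y := by simpa [P] using hw
  obtain ⟨k, rfl⟩ := Subgroup.mem_zpowers_iff.1 hw'
  have hx : xe = g * y ^ k * g⁻¹ := hwx.symm
  have hmove : ∀ r, SporFi22.rep y r = r → SporFi22.rep g r = act.o := fun r hr => by
    refine (rep_xe_fix _).1 ?_
    rw [hx, map_mul, map_mul, map_zpow, Equiv.Perm.mul_apply, Equiv.Perm.mul_apply, map_inv]
    simp [Equiv.Perm.zpow_apply_eq_self_of_apply_eq_self hr]
  refine ⟨(SporFi22.rep g).injective ((hmove p hp).trans (hmove q hq).symm), fun s hs hc => ?_⟩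
  have h := eq_of_commute (t := g * s * g⁻¹)
    (by rw [show g * s * g⁻¹ = MulAut.conj g s from rfl, MulEquiv.orderOf_eq, hs])
    (by rw [hx]; exact (hc.zpow_right k).map (MulAut.conj g).toMonoidHom)
  have h2 := act.conj_d g p
  rw [show act.rep g p = act.o from hmove p hp] at h2
  have h3 : act.d act.o = z₀ := by
    have := act.d_eq 1
    simp [Equiv.Perm.one_apply] at this
    exact this
  rw [h3, ← h] at h2
  exact (mul_left_cancel (mul_right_cancel h2)).symm

/-- No element of order 11 with a fixed point is inverted. -/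
theorem not_inverted {y w : Fi22} (hy : orderOf y = 11) (hfix : ∃ p, SporFi22.rep y p = p)
    (hw : w * y * w⁻¹ = y⁻¹) : False := by
  haveI : Finite Fi22 := SporFi22.card_le.1
  obtain ⟨p, hp⟩ := hfix
  obtain ⟨g, hg⟩ := act.trans p
  -- move the fixed point to the base point
  obtain ⟨y', hy'⟩ : ∃ y', y' = g⁻¹ * y * g := ⟨_, rfl⟩
  obtain ⟨w', hw'⟩ : ∃ w', w' = g⁻¹ * w * g := ⟨_, rfl⟩
  have hyo : orderOf y' = 11 := by
    rw [hy', show g⁻¹ * y * g = MulAut.conj g⁻¹ y by simp, MulEquiv.orderOf_eq, hy]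
  have hinv : w' * y' * w'⁻¹ = y'⁻¹ := by
    rw [hw', hy']
    calc g⁻¹ * w * g * (g⁻¹ * y * g) * (g⁻¹ * w * g)⁻¹ = g⁻¹ * (w * y * w⁻¹) * g := by group
      _ = (g⁻¹ * y * g)⁻¹ := by rw [hw]; group
  have hy0 : SporFi22.rep y' act.o = act.o := by
    rw [hy', map_mul, map_mul, Equiv.Perm.mul_apply, Equiv.Perm.mul_apply,
      show SporFi22.rep g act.o = p from hg, hp, map_inv, Equiv.Perm.inv_eq_iff_eq]
    exact hg.symm
  have hw0 : SporFi22.rep w' act.o = act.o := by
    refine ((fix_unique (y := y'⁻¹) (by rw [orderOf_inv, hyo]) ?_ ?_).1).symm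
    · rw [map_inv, Equiv.Perm.inv_eq_iff_eq]; exact hy0.symm
    · rw [← hinv, map_mul, map_mul, Equiv.Perm.mul_apply, Equiv.Perm.mul_apply, map_inv,
        show (SporFi22.rep w')⁻¹ (SporFi22.rep w' act.o) = act.o from Equiv.symm_apply_apply _ _, hy0]
  obtain ⟨Y, hY⟩ : ∃ Y : ↥SporFi22.H, (Y : Fi22) = y' := ⟨⟨y', mem_H hy0⟩, rfl⟩
  obtain ⟨W, hW⟩ : ∃ W : ↥SporFi22.H, (W : Fi22) = w' := ⟨⟨w', mem_H hw0⟩, rfl⟩
  obtain ⟨hU, D, hD⟩ := quotient_u6
  obtain ⟨yq, hyq⟩ : ∃ yq : ↥SporFi22.H ⧸ Subgroup.center ↥SporFi22.H, yq = (Y : _) := ⟨_, rfl⟩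
  obtain ⟨wq, hwq⟩ : ∃ wq : ↥SporFi22.H ⧸ Subgroup.center ↥SporFi22.H, wq = (W : _) := ⟨_, rfl⟩
  have hyqo : orderOf yq = 11 := hyq ▸ orderOf_image (by rw [← Subgroup.orderOf_coe, hY, hyo])
  have hq : wq * yq * wq⁻¹ = yq⁻¹ := by
    rw [hwq, hyq, ← QuotientGroup.mk_inv, ← QuotientGroup.mk_mul, ← QuotientGroup.mk_mul, ← QuotientGroup.mk_inv]
    refine congrArg _ (Subtype.ext ?_)
    simp only [Subgroup.coe_mul, Subgroup.coe_inv, hY, hW, hinv]
  have hL := CfsgLib.Trans3.Fi.u6_eleven hU hD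
  have hX : Nat.card (Subgroup.zpowers yq) = 11 := by rw [Nat.card_zpowers, hyqo]
  have hN := hL.card_norm _ hX
  have h0 := hL.ncard _ hX
  rw [Set.ncard_eq_zero] at h0
  rw [h0] at hN
  have hmem : wq ∈ Subgroup.normalizer (Subgroup.zpowers yq : Set _) ⊓ Subgroup.centralizer (∅ : Set _) := by
    refine ⟨?_, Subgroup.mem_centralizer_iff.2 fun h hh => absurd hh (Set.notMem_empty h)⟩
    have hmap : (Subgroup.zpowers yq).map (MulAut.conj wq).toMonoidHom = Subgroup.zpowers yq := by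
      rw [MonoidHom.map_zpowers, MulEquiv.coe_toMonoidHom, MulAut.conj_apply, hq, Subgroup.zpowers_inv]
    show wq ∈ Subgroup.normalizer (Subgroup.zpowers yq : Set _)
    rw [Subgroup.mem_normalizer_iff]
    intro h
    constructor
    · intro hh
      rw [← hmap]; exact ⟨h, hh, rfl⟩
    · intro hh
      rw [← hmap] at hh
      obtain ⟨h', hh', he⟩ := hh
      have : h' = h := (MulAut.conj wq).injective he
      exact this ▸ hh'
  have hdvd := orderOf_dvd_natCard (⟨wq, hmem⟩ : ↥(Subgroup.normalizer (Subgroup.zpowers yq : Set _) ⊓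
    Subgroup.centralizer (∅ : Set _)))
  rw [Subgroup.orderOf_mk, hN] at hdvd
  have hpow : ∀ n : ℕ, wq ^ (2 * n + 1) * yq * (wq ^ (2 * n + 1))⁻¹ = yq⁻¹ := by
    intro n
    induction n with
    | zero => simpa using hq
    | succ n ih =>
      rw [show 2 * (n + 1) + 1 = 2 + (2 * n + 1) by omega, pow_add]
      calc wq ^ 2 * wq ^ (2 * n + 1) * yq * (wq ^ 2 * wq ^ (2 * n + 1))⁻¹
          = wq ^ 2 * (wq ^ (2 * n + 1) * yq * (wq ^ (2 * n + 1))⁻¹) * (wq ^ 2)⁻¹ := by group
        _ = wq * (wq * yq⁻¹ * wq⁻¹) * wq⁻¹ := by rw [ih, pow_two]; group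
        _ = wq * yq * wq⁻¹ := by
          rw [show wq * yq⁻¹ * wq⁻¹ = (wq * yq * wq⁻¹)⁻¹ by group, hq, inv_inv]
          exact hq
        _ = yq⁻¹ := hq
  have h55 : wq ^ (2 * 27 + 1) = 1 := orderOf_dvd_iff_pow_eq_one.1 (hdvd.trans (by norm_num))
  have h := hpow 27
  rw [h55, one_mul, inv_one, mul_one] at h
  have h2 : yq ^ 2 = 1 := by rw [pow_two]; nth_rewrite 2 [h]; exact mul_inv_cancel _
  have h3 := orderOf_dvd_of_pow_eq_one h2
  rw [hyqo] at h3
  exact absurd h3 (by norm_num)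

/-- An automorphism maps `z₀` to a transposition. -/
theorem apply_zero (φ : MulAut Fi22) : ∃ p, φ z₀ = act.d p := by
  haveI : Finite Fi22 := SporFi22.card_le.1
  haveI : Fact (Nat.Prime 11) := ⟨by norm_num⟩
  have hcard : 11 ^ (Nat.card Fi22).factorization 11 = 11 := by
    rw [SporFi22.card_eq.1, show (64561751654400 : ℕ) = 11 ^ 1 * 5869250150400 by norm_num,
      Nat.factorization_mul (by norm_num) (by norm_num), Finsupp.add_apply,
      Nat.Prime.factorization_pow (by norm_num : Nat.Prime 11), Finsupp.single_eq_same,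
      Nat.factorization_eq_zero_of_not_dvd (by norm_num), pow_one]
  have ho : orderOf (φ xe) = 11 := by rw [MulEquiv.orderOf_eq, orderOf_xe]
  let P : Sylow 11 Fi22 := Sylow.ofCard (Subgroup.zpowers (φ xe)) (by rw [Nat.card_zpowers, ho, hcard])
  let Q : Sylow 11 Fi22 := Sylow.ofCard (Subgroup.zpowers xe) (by rw [Nat.card_zpowers, orderOf_xe, hcard])
  obtain ⟨g, hg⟩ := MulAction.exists_smul_eq Fi22 P Q
  have hmem : xe ∈ (Q : Subgroup Fi22) := by simp [Q]
  rw [← hg, Sylow.coe_subgroup_smul, Subgroup.mem_smul_pointwise_iff_exists] at hmem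
  obtain ⟨y, hy, hyx⟩ := hmem
  have hy' : y ∈ Subgroup.zpowers (φ xe) := by simpa [P] using hy
  obtain ⟨k, rfl⟩ := Subgroup.mem_zpowers_iff.1 hy'
  have hz : Commute (φ z₀) ((φ xe) ^ k) := by
    refine Commute.zpow_right ?_ k
    exact (show Commute z₀ xe from (SporFi22.gen_zero_central xe xe_mem).symm).map φ
  have h := eq_of_commute (t := g * φ z₀ * g⁻¹) (by
    rw [show g * φ z₀ * g⁻¹ = MulAut.conj g (φ z₀) from rfl, MulEquiv.orderOf_eq, MulEquiv.orderOf_eq,
      SporFi22.orderOf_gen_zero]) (by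
    rw [← hyx]
    exact hz.map (MulAut.conj g).toMonoidHom)
  refine ⟨act.rep g⁻¹ act.o, ?_⟩
  rw [act.d_eq, show act.gen 0 = z₀ from rfl, inv_inv]
  calc φ z₀ = g⁻¹ * (g * φ z₀ * g⁻¹) * g := by group
    _ = g⁻¹ * z₀ * g := by rw [h]

end CfsgLib.KnownA.FischerOut.T22
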