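import Cfsg.Agent.Lib.KnownA.FischerOut.T22OutBase

/-!
Kernel checks for the diagram automorphism of Fi22: the standard words.
-/

set_option autoImplicit false
set_option maxRecDepth 100000

namespace CfsgLib.KnownA.FischerOut.T22

open CfsgLib.InvChar.Coset

theorem std_rows : allFrom (fun k => Nat.beq (FiA.table.follow [k % 9] (k / 9))
    (FiA.table.follow (pal (std.getD (k % 9) [])) (k / 9))) 0 31590 = true := by decide +kernel

end CfsgLib.KnownA.FischerOut.T22
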