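import Cfsg.Agent.Lib.KnownA.FischerOut.T22OutBase

/-!
Kernel checks for the diagram automorphism of Fi22: equivariance of the induced permutation.
-/

set_option autoImplicit false
set_option maxRecDepth 100000

namespace CfsgLib.KnownA.FischerOut.T22

open CfsgLib.InvChar.Coset

theorem tau_sq_rows : allFrom (fun i => Nat.beq (FiA.table.follow (tauW 7 ++ tauW 7) i) i) 0 3510 = true := by
  decide +kernel

theorem pi_step : allFrom (fun k => Nat.beq (field piT 128 20 (FiA.table.app (k / 9) (k % 9)))
    (FiA.table.follow (tauW (k % 9)).reverse (field piT 128 20 (k / 9)))) 0 31590 = true := by decide +kernel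

end CfsgLib.KnownA.FischerOut.T22
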