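import Cfsg.Agent.Lib.KnownA.FischerOut.T22OutBase

/-!
Kernel checks for the diagram automorphism of Fi22: the two targets.
-/

set_option autoImplicit false
set_option maxRecDepth 100000

namespace CfsgLib.KnownA.FischerOut.T22

open CfsgLib.InvChar.Coset

theorem target0_rows : ∀ i < 9, allFrom (fun p => Nat.beq (FiA.table.follow (pal (target0.getD i [])) p)
    (FiA.table.follow [i] p)) 0 3510 = true := by decide +kernel

theorem target1_rows : ∀ i < 9, allFrom (fun p => Nat.beq (FiA.table.follow (pal (target1.getD i [])) p)
    (FiA.table.follow (tauW i) p)) 0 3510 = true := by decide +kernel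

end CfsgLib.KnownA.FischerOut.T22
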