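import Cfsg.Agent.Lib.KnownA.FischerOut.T22Data

/-!
The search tree: every diagram tuple of transpositions is conjugate to a target.
-/

set_option autoImplicit false
set_option maxRecDepth 100000

namespace CfsgLib.KnownA.FischerOut.T22

open CfsgLib.InvChar.Coset 

theorem r_fix : chkFix FiA.table std r_pre r = true := by decide +kernel
theorem r_mem0 : allFrom (chkMember FiA.table r) 0 3510 = true := by decide +kernel
theorem r_cand0 : allFrom (chkPoint FiA.table std r_pre r) 0 3510 = true := by decide +kernel

theorem r0_fix : chkFix FiA.table std r0_pre r0 = true := by decide +kernel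
theorem r0_mem0 : allFrom (chkMember FiA.table r0) 0 2816 = true := by decide +kernel
theorem r0_cand0 : allFrom (chkPoint FiA.table std r0_pre r0) 0 3510 = true := by decide +kernel

theorem r00_fix : chkFix FiA.table std r00_pre r00 = true := by decide +kernel
theorem r00_mem0 : allFrom (chkMember FiA.table r00) 0 567 = true := by decide +kernel
theorem r00_cand0 : allFrom (chkPoint FiA.table std r00_pre r00) 0 3510 = true := by decide +kernel

theorem r000_fix : chkFix FiA.table std r000_pre r000 = true := by decide +kernel
theorem r000_mem0 : allFrom (chkMember FiA.table r000) 0 96 = true := by decide +kernel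
theorem r000_cand0 : allFrom (chkPoint FiA.table std r000_pre r000) 0 3510 = true := by decide +kernel

theorem r0000_fix : chkFix FiA.table std r0000_pre r0000 = true := by decide +kernel
theorem r0000_mem0 : allFrom (chkMember FiA.table r0000) 0 20 = true := by decide +kernel
theorem r0000_cand0 : allFrom (chkPoint FiA.table std r0000_pre r0000) 0 3510 = true := by decide +kernel

theorem r00000_fix : chkFix FiA.table std r00000_pre r00000 = true := by decide +kernel
theorem r00000_mem0 : allFrom (chkMember FiA.table r00000) 0 4 = true := by decide +kernel
theorem r00000_cand0 : allFrom (chkPoint FiA.table std r00000_pre r00000) 0 3510 = true := by decide +kernel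

theorem r000000_fix : chkFix FiA.table std r000000_pre r000000 = true := by decide +kernel
theorem r000000_mem0 : allFrom (chkMember FiA.table r000000) 0 3 = true := by decide +kernel
theorem r000000_cand0 : allFrom (chkPoint FiA.table std r000000_pre r000000) 0 3510 = true := by decide +kernel

theorem r0000000_fix : chkFix FiA.table std r0000000_pre r0000000 = true := by decide +kernel
theorem r0000000_mem0 : allFrom (chkMember FiA.table r0000000) 0 2 = true := by decide +kernel
theorem r0000000_cand0 : allFrom (chkPoint FiA.table std r0000000_pre r0000000) 0 3510 = true := by decide +kernel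

theorem r00000000_fix : chkFix FiA.table std r00000000_pre r00000000 = true := by decide +kernel
theorem r00000000_mem0 : allFrom (chkMember FiA.table r00000000) 0 1 = true := by decide +kernel
theorem r00000000_cand0 : allFrom (chkPoint FiA.table std r00000000_pre r00000000) 0 3510 = true := by decide +kernel

theorem r00001_fix : chkFix FiA.table std r00001_pre r00001 = true := by decide +kernel
theorem r00001_mem0 : allFrom (chkMember FiA.table r00001) 0 6 = true := by decide +kernel
theorem r00001_cand0 : allFrom (chkPoint FiA.table std r00001_pre r00001) 0 3510 = true := by decide +kernel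

theorem r000010_fix : chkFix FiA.table std r000010_pre r000010 = true := by decide +kernel
theorem r000010_mem0 : allFrom (chkMember FiA.table r000010) 0 5 = true := by decide +kernel
theorem r000010_cand0 : allFrom (chkPoint FiA.table std r000010_pre r000010) 0 3510 = true := by decide +kernel

theorem r0000100_fix : chkFix FiA.table std r0000100_pre r0000100 = true := by decide +kernel
theorem r0000100_mem0 : allFrom (chkMember FiA.table r0000100) 0 1 = true := by decide +kernel
theorem r0000100_cand0 : allFrom (chkPoint FiA.table std r0000100_pre r0000100) 0 3510 = true := by decide +kernel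

theorem r00001000_fix : chkFix FiA.table std r00001000_pre r00001000 = true := by decide +kernel
theorem r00001000_mem0 : allFrom (chkMember FiA.table r00001000) 0 0 = true := by decide +kernel
theorem r00001000_cand0 : allFrom (chkPoint FiA.table std r00001000_pre r00001000) 0 3510 = true := by decide +kernel

theorem r0000101_fix : chkFix FiA.table std r0000101_pre r0000101 = true := by decide +kernel
theorem r0000101_mem0 : allFrom (chkMember FiA.table r0000101) 0 1 = true := by decide +kernel
theorem r0000101_cand0 : allFrom (chkPoint FiA.table std r0000101_pre r0000101) 0 3510 = true := by decide +kernel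

theorem r00001010_fix : chkFix FiA.table std r00001010_pre r00001010 = true := by decide +kernel
theorem r00001010_mem0 : allFrom (chkMember FiA.table r00001010) 0 0 = true := by decide +kernel
theorem r00001010_cand0 : allFrom (chkPoint FiA.table std r00001010_pre r00001010) 0 3510 = true := by decide +kernel

theorem r0000102_fix : chkFix FiA.table std r0000102_pre r0000102 = true := by decide +kernel
theorem r0000102_mem0 : allFrom (chkMember FiA.table r0000102) 0 0 = true := by decide +kernel
theorem r0000102_cand0 : allFrom (chkPoint FiA.table std r0000102_pre r0000102) 0 3510 = true := by decide +kernel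

theorem r00002_fix : chkFix FiA.table std r00002_pre r00002 = true := by decide +kernel
theorem r00002_mem0 : allFrom (chkMember FiA.table r00002) 0 4 = true := by decide +kernel
theorem r00002_cand0 : allFrom (chkPoint FiA.table std r00002_pre r00002) 0 3510 = true := by decide +kernel

theorem r000020_fix : chkFix FiA.table std r000020_pre r000020 = true := by decide +kernel
theorem r000020_mem0 : allFrom (chkMember FiA.table r000020) 0 3 = true := by decide +kernel
theorem r000020_cand0 : allFrom (chkPoint FiA.table std r000020_pre r000020) 0 3510 = true := by decide +kernel

theorem r0000200_fix : chkFix FiA.table std r0000200_pre r0000200 = true := by decide +kernel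
theorem r0000200_mem0 : allFrom (chkMember FiA.table r0000200) 0 2 = true := by decide +kernel
theorem r0000200_cand0 : allFrom (chkPoint FiA.table std r0000200_pre r0000200) 0 3510 = true := by decide +kernel

theorem r00002000_fix : chkFix FiA.table std r00002000_pre r00002000 = true := by decide +kernel
theorem r00002000_mem0 : allFrom (chkMember FiA.table r00002000) 0 1 = true := by decide +kernel
theorem r00002000_cand0 : allFrom (chkPoint FiA.table std r00002000_pre r00002000) 0 3510 = true := by decide +kernel

variable {G : Type*} [Group G] (A : Act FiA.table G) (hS : Std A std)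
include hS

omit hS in
theorem r000000000_good : Good A std targets r000000000_pre :=
  good_leaf A target0 (by decide) (by decide +kernel)

omit hS in
theorem r000020000_good : Good A std targets r000020000_pre :=
  good_leaf A target1 (by decide) (by decide +kernel)

theorem r00002000_good : Good A std targets r00002000_pre := by
  refine good_step A hS r00002000 r00002000_fix (fun i hi => ?_) (fun i hi => ?_) ?_
  · replace hi : i < 1 := hi
    exact allFrom_get _ r00002000_mem0 i (by omega) (by omega)
  · replace hi : i < 3510 := hi
    exact allFrom_get _ r00002000_cand0 i (by omega) (by omega)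
  · exact List.forall_mem_cons.2 ⟨r000020000_good A, List.forall_mem_nil _⟩

theorem r0000200_good : Good A std targets r0000200_pre := by
  refine good_step A hS r0000200 r0000200_fix (fun i hi => ?_) (fun i hi => ?_) ?_
  · replace hi : i < 2 := hi
    exact allFrom_get _ r0000200_mem0 i (by omega) (by omega)
  · replace hi : i < 3510 := hi
    exact allFrom_get _ r0000200_cand0 i (by omega) (by omega)
  · exact List.forall_mem_cons.2 ⟨r00002000_good A hS, List.forall_mem_nil _⟩

theorem r000020_good : Good A std targets r000020_pre := by
  refine good_step A hS r000020 r000020_fix (fun i hi => ?_) (fun i hi => ?_) ?_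
  · replace hi : i < 3 := hi
    exact allFrom_get _ r000020_mem0 i (by omega) (by omega)
  · replace hi : i < 3510 := hi
    exact allFrom_get _ r000020_cand0 i (by omega) (by omega)
  · exact List.forall_mem_cons.2 ⟨r0000200_good A hS, List.forall_mem_nil _⟩

theorem r00002_good : Good A std targets r00002_pre := by
  refine good_step A hS r00002 r00002_fix (fun i hi => ?_) (fun i hi => ?_) ?_
  · replace hi : i < 4 := hi
    exact allFrom_get _ r00002_mem0 i (by omega) (by omega)
  · replace hi : i < 3510 := hi
    exact allFrom_get _ r00002_cand0 i (by omega) (by omega)
  · exact List.forall_mem_cons.2 ⟨r000020_good A hS, List.forall_mem_nil _⟩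

theorem r0000102_good : Good A std targets r0000102_pre := by
  refine good_step A hS r0000102 r0000102_fix (fun i hi => ?_) (fun i hi => ?_) ?_
  · replace hi : i < 0 := hi
    omega
  · replace hi : i < 3510 := hi
    exact allFrom_get _ r0000102_cand0 i (by omega) (by omega)
  · exact List.forall_mem_nil _

theorem r00001010_good : Good A std targets r00001010_pre := by
  refine good_step A hS r00001010 r00001010_fix (fun i hi => ?_) (fun i hi => ?_) ?_
  · replace hi : i < 0 := hi
    omega
  · replace hi : i < 3510 := hi
    exact allFrom_get _ r00001010_cand0 i (by omega) (by omega)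
  · exact List.forall_mem_nil _

theorem r0000101_good : Good A std targets r0000101_pre := by
  refine good_step A hS r0000101 r0000101_fix (fun i hi => ?_) (fun i hi => ?_) ?_
  · replace hi : i < 1 := hi
    exact allFrom_get _ r0000101_mem0 i (by omega) (by omega)
  · replace hi : i < 3510 := hi
    exact allFrom_get _ r0000101_cand0 i (by omega) (by omega)
  · exact List.forall_mem_cons.2 ⟨r00001010_good A hS, List.forall_mem_nil _⟩

theorem r00001000_good : Good A std targets r00001000_pre := by
  refine good_step A hS r00001000 r00001000_fix (fun i hi => ?_) (fun i hi => ?_) ?_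
  · replace hi : i < 0 := hi
    omega
  · replace hi : i < 3510 := hi
    exact allFrom_get _ r00001000_cand0 i (by omega) (by omega)
  · exact List.forall_mem_nil _

theorem r0000100_good : Good A std targets r0000100_pre := by
  refine good_step A hS r0000100 r0000100_fix (fun i hi => ?_) (fun i hi => ?_) ?_
  · replace hi : i < 1 := hi
    exact allFrom_get _ r0000100_mem0 i (by omega) (by omega)
  · replace hi : i < 3510 := hi
    exact allFrom_get _ r0000100_cand0 i (by omega) (by omega)
  · exact List.forall_mem_cons.2 ⟨r00001000_good A hS, List.forall_mem_nil _⟩

theorem r000010_good : Good A std targets r000010_pre := by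
  refine good_step A hS r000010 r000010_fix (fun i hi => ?_) (fun i hi => ?_) ?_
  · replace hi : i < 5 := hi
    exact allFrom_get _ r000010_mem0 i (by omega) (by omega)
  · replace hi : i < 3510 := hi
    exact allFrom_get _ r000010_cand0 i (by omega) (by omega)
  · exact List.forall_mem_cons.2 ⟨r0000100_good A hS, List.forall_mem_cons.2 ⟨r0000101_good A hS, List.forall_mem_cons.2 ⟨r0000102_good A hS, List.forall_mem_nil _⟩⟩⟩

theorem r00001_good : Good A std targets r00001_pre := by
  refine good_step A hS r00001 r00001_fix (fun i hi => ?_) (fun i hi => ?_) ?_
  · replace hi : i < 6 := hi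
    exact allFrom_get _ r00001_mem0 i (by omega) (by omega)
  · replace hi : i < 3510 := hi
    exact allFrom_get _ r00001_cand0 i (by omega) (by omega)
  · exact List.forall_mem_cons.2 ⟨r000010_good A hS, List.forall_mem_nil _⟩

theorem r00000000_good : Good A std targets r00000000_pre := by
  refine good_step A hS r00000000 r00000000_fix (fun i hi => ?_) (fun i hi => ?_) ?_
  · replace hi : i < 1 := hi
    exact allFrom_get _ r00000000_mem0 i (by omega) (by omega)
  · replace hi : i < 3510 := hi
    exact allFrom_get _ r00000000_cand0 i (by omega) (by omega)
  · exact List.forall_mem_cons.2 ⟨r000000000_good A, List.forall_mem_nil _⟩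

theorem r0000000_good : Good A std targets r0000000_pre := by
  refine good_step A hS r0000000 r0000000_fix (fun i hi => ?_) (fun i hi => ?_) ?_
  · replace hi : i < 2 := hi
    exact allFrom_get _ r0000000_mem0 i (by omega) (by omega)
  · replace hi : i < 3510 := hi
    exact allFrom_get _ r0000000_cand0 i (by omega) (by omega)
  · exact List.forall_mem_cons.2 ⟨r00000000_good A hS, List.forall_mem_nil _⟩

theorem r000000_good : Good A std targets r000000_pre := by
  refine good_step A hS r000000 r000000_fix (fun i hi => ?_) (fun i hi => ?_) ?_
  · replace hi : i < 3 := hi
    exact allFrom_get _ r000000_mem0 i (by omega) (by omega)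
  · replace hi : i < 3510 := hi
    exact allFrom_get _ r000000_cand0 i (by omega) (by omega)
  · exact List.forall_mem_cons.2 ⟨r0000000_good A hS, List.forall_mem_nil _⟩

theorem r00000_good : Good A std targets r00000_pre := by
  refine good_step A hS r00000 r00000_fix (fun i hi => ?_) (fun i hi => ?_) ?_
  · replace hi : i < 4 := hi
    exact allFrom_get _ r00000_mem0 i (by omega) (by omega)
  · replace hi : i < 3510 := hi
    exact allFrom_get _ r00000_cand0 i (by omega) (by omega)
  · exact List.forall_mem_cons.2 ⟨r000000_good A hS, List.forall_mem_nil _⟩

theorem r0000_good : Good A std targets r0000_pre := by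
  refine good_step A hS r0000 r0000_fix (fun i hi => ?_) (fun i hi => ?_) ?_
  · replace hi : i < 20 := hi
    exact allFrom_get _ r0000_mem0 i (by omega) (by omega)
  · replace hi : i < 3510 := hi
    exact allFrom_get _ r0000_cand0 i (by omega) (by omega)
  · exact List.forall_mem_cons.2 ⟨r00000_good A hS, List.forall_mem_cons.2 ⟨r00001_good A hS, List.forall_mem_cons.2 ⟨r00002_good A hS, List.forall_mem_nil _⟩⟩⟩

theorem r000_good : Good A std targets r000_pre := by
  refine good_step A hS r000 r000_fix (fun i hi => ?_) (fun i hi => ?_) ?_
  · replace hi : i < 96 := hi
    exact allFrom_get _ r000_mem0 i (by omega) (by omega)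
  · replace hi : i < 3510 := hi
    exact allFrom_get _ r000_cand0 i (by omega) (by omega)
  · exact List.forall_mem_cons.2 ⟨r0000_good A hS, List.forall_mem_nil _⟩

theorem r00_good : Good A std targets r00_pre := by
  refine good_step A hS r00 r00_fix (fun i hi => ?_) (fun i hi => ?_) ?_
  · replace hi : i < 567 := hi
    exact allFrom_get _ r00_mem0 i (by omega) (by omega)
  · replace hi : i < 3510 := hi
    exact allFrom_get _ r00_cand0 i (by omega) (by omega)
  · exact List.forall_mem_cons.2 ⟨r000_good A hS, List.forall_mem_nil _⟩

theorem r0_good : Good A std targets r0_pre := by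
  refine good_step A hS r0 r0_fix (fun i hi => ?_) (fun i hi => ?_) ?_
  · replace hi : i < 2816 := hi
    exact allFrom_get _ r0_mem0 i (by omega) (by omega)
  · replace hi : i < 3510 := hi
    exact allFrom_get _ r0_cand0 i (by omega) (by omega)
  · exact List.forall_mem_cons.2 ⟨r00_good A hS, List.forall_mem_nil _⟩

theorem r_good : Good A std targets r_pre := by
  refine good_step A hS r r_fix (fun i hi => ?_) (fun i hi => ?_) ?_
  · replace hi : i < 3510 := hi
    exact allFrom_get _ r_mem0 i (by omega) (by omega)
  · replace hi : i < 3510 := hi
    exact allFrom_get _ r_cand0 i (by omega) (by omega)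
  · exact List.forall_mem_cons.2 ⟨r0_good A hS, List.forall_mem_nil _⟩

/-- Every diagram tuple is conjugate to a target. -/
theorem all_good (x : ℕ → Fin FiA.table.n) (hx : Pat A std x) :
    ∃ g : G, ∃ t ∈ targets, ∀ i < FiA.table.g, (A.rep g (x i) : ℕ) = pw FiA.table (t.getD i []) :=
  r_good A hS x hx (fun _ h => nomatch h)

end CfsgLib.KnownA.FischerOut.T22
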