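import Cfsg.Prelude.Def_KGroupFacts
import Cfsg.Agent.Lib.KnownA.FischerOut.T22Eleven
import Cfsg.Agent.Lib.KnownA.FischerOut.T22Tree
import Cfsg.Agent.Lib.KnownA.FischerOut.T22Pi
import Cfsg.Agent.Lib.KnownA.FischerOut.T22OutStd
import Cfsg.Agent.Lib.KnownA.FischerOut.T22OutStep
import Cfsg.Agent.Lib.KnownA.FischerOut.T22OutTargets
import Cfsg.Agent.Lib.KnownA.FischerOut.T22OutRels0
import Cfsg.Agent.Lib.KnownA.FischerOut.T22OutRels1
import Cfsg.Agent.Lib.KnownA.FischerOut.T22OutRels2
import Cfsg.Agent.Lib.KnownA.FischerOut.T22OutRels3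
import Cfsg.Agent.Lib.KnownA.FischerOut.T22OutRels4
import Mathlib.GroupTheory.Perm.Cycle.Type

/-!
The outer automorphism group of the presented Fi22 has order 2.
-/

set_option autoImplicit false
set_option maxRecDepth 100000
set_option linter.unusedSectionVars false

namespace CfsgLib.KnownA.FischerOut.T22

open CfsgLib.InvChar CfsgLib.InvChar.Coset Cfsg.Spor



theorem std_lt : ∀ i < 9, ∀ x ∈ std.getD i [], x < 9 := by decide +kernel

theorem targets_lt : ∀ t ∈ targets, ∀ i < 9, ∀ y ∈ t.getD i [], y < 9 := by decide +kernel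

theorem std_dist : ∀ i < 9, ∀ j < 9, pw FiA.table (std.getD i []) = pw FiA.table (std.getD j []) → i = j := by
  decide +kernel

theorem hStd : Std act std :=
  std_of_check act (by decide +kernel) std std_lt fun i hi y hy => by
    have hi : i < 9 := hi
    have hy : y < 3510 := hy
    have h := allFrom_get _ std_rows (y * 9 + i) (Nat.zero_le _) (by omega)
    rw [show (y * 9 + i) % 9 = i by omega, show (y * 9 + i) / 9 = y by omega] at h
    exact Nat.eq_of_beq_eq_true h



theorem tauW_lt : ∀ x < 9, ∀ y ∈ tauW x, y < 9 := by decide +kernel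

noncomputable def tauF (x : ℕ) : Fi22 := if x < 9 then wprod SporFi22.gen (tauW x) else 1



theorem tauF_sq (x : ℕ) : tauF x * tauF x = 1 := by
  unfold tauF
  split
  · rename_i hx
    by_cases h7 : x = 7
    · subst h7
      rw [← wprod_append]
      refine (act.wprod_ext (M := []) (fun y hy => ?_) (by simp) fun i hi => ?_).trans (by simp [wprod])
      · rcases List.mem_append.1 hy with hy | hy <;> exact tauW_lt 7 (by omega) y hy
      · have hi : i < 3510 := hi
        rw [Nat.eq_of_beq_eq_true (allFrom_get _ tau_sq_rows i (Nat.zero_le _) (by omega))]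
        rfl
    · have hb : Nat.beq x 7 = false := by
        cases h : Nat.beq x 7
        · rfl
        · exact absurd (Nat.eq_of_beq_eq_true h) h7
      simp [tauW, hb, wprod, SporFi22.gen_mul_self]
  · simp



theorem tau_rels_at {i : ℕ} (hi : i < 3510) {r : List ℕ} (hr : r ∈ FiA.rels) :
    FiA.table.follow (tauR r) i = i := by
  suffices h : tauChk i = true from Nat.eq_of_beq_eq_true (List.all_eq_true.1 h r hr)
  rcases Nat.lt_or_ge i 702 with h0 | h0
  · exact allFrom_get _ tau_rels_0 i (Nat.zero_le _) (by omega)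
  rcases Nat.lt_or_ge i 1404 with h1 | h1
  · exact allFrom_get _ tau_rels_1 i h0 (by omega)
  rcases Nat.lt_or_ge i 2106 with h2 | h2
  · exact allFrom_get _ tau_rels_2 i h1 (by omega)
  rcases Nat.lt_or_ge i 2808 with h3 | h3
  · exact allFrom_get _ tau_rels_3 i h2 (by omega)
  · exact allFrom_get _ tau_rels_4 i h3 (by omega)

theorem rels_lt : ∀ r ∈ FiA.rels, ∀ x ∈ r, x < 9 := by decide +kernel

theorem wprod_tauR : ∀ r : List ℕ, (∀ x ∈ r, x < 9) → wprod tauF r = wprod SporFi22.gen (tauR r) := by
  intro r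
  induction r with
  | nil => intro _; simp [tauR, wprod]
  | cons a r ih =>
    intro h
    obtain ⟨ha, hr⟩ := List.forall_mem_cons.1 h
    rw [show tauR (a :: r) = tauW a ++ tauR r by simp [tauR], wprod_append, ← ih hr]
    simp [wprod, tauF, ha]

theorem tauR_lt {r : List ℕ} (h : ∀ x ∈ r, x < 9) : ∀ y ∈ tauR r, y < 9 := by
  intro y hy
  simp only [tauR, List.mem_flatten, List.mem_map] at hy
  obtain ⟨L, ⟨x, hx, rfl⟩, hy⟩ := hy
  exact tauW_lt x (h x hx) y hy

/-- The diagram automorphism. -/
theorem exists_tau : ∃ τ : MulAut Fi22, ∀ x < 9, τ (SporFi22.gen x) = wprod SporFi22.gen (tauW x) := by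
  haveI : Finite Fi22 := SporFi22.card_le.1
  haveI := SporFi22.isSimpleGroup
  obtain ⟨φ, hφ⟩ := SporFi22.pres.exists_hom tauF tauF_sq fun r hr => by
    have hlt := rels_lt r hr
    rw [wprod_tauR r hlt]
    refine (act.wprod_ext (M := []) (tauR_lt hlt) (by simp) fun i hi => ?_).trans (by simp [wprod])
    have hi : i < 3510 := hi
    rw [tau_rels_at hi hr]
    rfl
  have hker : φ.ker = ⊥ := by
    refine ((MonoidHom.normal_ker φ).eq_bot_or_eq_top).resolve_right fun h => ?_
    have h0 : φ (SporFi22.gen 0) = 1 := MonoidHom.mem_ker.1 (h ▸ Subgroup.mem_top _)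
    rw [hφ 0 (by omega)] at h0
    have h1 : SporFi22.gen 0 = 1 := by
      rw [tauF, if_pos (by omega : (0 : ℕ) < 9), show tauW 0 = [0] from rfl] at h0
      simpa [wprod] using h0
    simpa [h1] using SporFi22.orderOf_gen_zero
  have hinj : Function.Injective φ := (MonoidHom.ker_eq_bot_iff φ).1 hker
  refine ⟨MulEquiv.ofBijective φ ⟨hinj, Finite.injective_iff_surjective.1 hinj⟩, fun x hx => ?_⟩
  show φ (SporFi22.gen x) = _
  rw [hφ x hx, tauF, if_pos hx]



theorem pi_range : allFrom (fun i => Nat.blt (field piT 128 20 i) 3510 &&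
    Nat.beq (field piT 128 20 (field piT 128 20 i)) i) 0 3510 = true := by decide +kernel

/-- The permutation induced on the transpositions by the diagram automorphism. -/
noncomputable def piP : Equiv.Perm (Fin FiA.table.n) :=
  Function.Involutive.toPerm
    (fun i => ⟨field piT 128 20 i, by
      have hi : (i : ℕ) < 3510 := i.2
      have h := allFrom_get _ pi_range i (Nat.zero_le _) (by omega)
      rw [Bool.and_eq_true] at h
      exact Nat.le_of_ble_eq_true h.1⟩)
    fun i => Fin.ext (by
      have hi : (i : ℕ) < 3510 := i.2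
      have h := allFrom_get _ pi_range i (Nat.zero_le _) (by omega)
      rw [Bool.and_eq_true] at h
      exact Nat.eq_of_beq_eq_true h.2)

theorem pi_support : ((List.finRange FiA.table.n).filter fun i : Fin FiA.table.n => !Nat.beq (field piT 128 20 i.val) i.val).length = 3150 := by
  decide +kernel

theorem sign_piP : Equiv.Perm.sign piP = -1 := by
  classical
  have hs : piP.support.card = 3150 := by
    refine Eq.trans ?_ pi_support
    rw [← List.toFinset_card_of_nodup (List.Nodup.filter _ (List.nodup_finRange _))]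
    refine congrArg Finset.card (Finset.ext fun i => ?_)
    simp only [Equiv.Perm.mem_support, List.mem_toFinset, List.mem_filter, List.mem_finRange, true_and,
      Bool.not_eq_true']
    constructor
    · intro h
      cases hb : Nat.beq (field piT 128 20 i) i
      · rfl
      · exact absurd (Fin.ext (Nat.eq_of_beq_eq_true hb)) h
    · intro h e
      exact Nat.ne_of_beq_eq_false h (congrArg Fin.val e)
  have hne : piP ≠ 1 := fun h => by rw [h, Equiv.Perm.support_one, Finset.card_empty] at hs; omega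
  have ho : orderOf piP = 2 := orderOf_eq_prime (Equiv.ext fun i => by
    rw [pow_two, Equiv.Perm.mul_apply, Equiv.Perm.one_apply]
    exact Function.Involutive.toPerm_involutive _ i) hne
  obtain ⟨m, hm⟩ := Equiv.Perm.cycleType_prime_order (σ := piP) (by rw [ho]; norm_num)
  have h2 : piP.cycleType.sum = 3150 := by rw [Equiv.Perm.sum_cycleType, hs]
  rw [hm, ho, Multiset.sum_replicate, smul_eq_mul] at h2
  rw [Equiv.Perm.sign_of_cycleType, hm, ho, Multiset.sum_replicate, Multiset.card_replicate, smul_eq_mul,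
    Odd.neg_one_pow (by rw [show m + 1 = 1575 by omega]; decide)]

/-- The diagram automorphism is outer. -/
theorem tau_outer (τ : MulAut Fi22) (hτ : ∀ x < 9, τ (SporFi22.gen x) = wprod SporFi22.gen (tauW x))
    (g : Fi22) : τ ≠ MulAut.conj g := by
  intro he
  haveI : Finite Fi22 := SporFi22.card_le.1
  haveI := SporFi22.isSimpleGroup
  have hg : ∀ x < 9, g * SporFi22.gen x * g⁻¹ = wprod SporFi22.gen (tauW x) := fun x hx => by
    rw [← hτ x hx, he]; rfl
  have h0 : SporFi22.rep g act.o = act.o := by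
    refine (act.stab g).2 ((hg 0 (by omega)).trans ?_)
    simp [tauW, wprod]
    rfl
  have key : ∀ u : Fi22, ∀ i, piP (SporFi22.rep u i) = SporFi22.rep (g * u * g⁻¹) (piP i) := by
    intro u
    induction (SporFi22.closure_gen ▸ Subgroup.mem_top u : u ∈ Subgroup.closure (SporFi22.gen '' Set.Iio 9))
      using Subgroup.closure_induction with
    | mem a ha =>
      obtain ⟨x, hx, rfl⟩ := ha
      have hx : x < 9 := hx
      intro i
      have hi : (i : ℕ) < 3510 := i.2
      have h := allFrom_get _ pi_step ((i : ℕ) * 9 + x) (Nat.zero_le _) (by omega)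
      rw [show ((i : ℕ) * 9 + x) % 9 = x by omega, show ((i : ℕ) * 9 + x) / 9 = (i : ℕ) by omega] at h
      refine Fin.ext ?_
      rw [SporFi22.rep_gen x hx, hg x hx]
      show field piT 128 20 (SporFi22.perm x i : ℕ) = _
      rw [show (SporFi22.perm x i : ℕ) = FiA.table.app i x from FiA.valid.toPerm_apply FiA.sq hx i,
        Nat.eq_of_beq_eq_true h]
      have hr : ∀ y ∈ (tauW x).reverse, y < 9 := fun y hy => tauW_lt x hx y (List.mem_reverse.1 hy)
      rw [show field piT 128 20 (i : ℕ) = (piP i : ℕ) from rfl, ← SporFi22.rep_inv_wprod _ hr (piP i),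
        show wprod SporFi22.gen (tauW x).reverse = (wprod SporFi22.gen (tauW x))⁻¹ from act.wprod_reverse _,
        inv_inv]
    | one => intro i; simp
    | mul a b _ _ ha hb =>
      intro i
      rw [map_mul, Equiv.Perm.mul_apply, ha, hb, ← Equiv.Perm.mul_apply, ← map_mul]
      congr 2
      group
    | inv a _ ha =>
      intro i
      have h := ha (SporFi22.rep a⁻¹ i)
      rw [show SporFi22.rep a (SporFi22.rep a⁻¹ i) = i by rw [map_inv]; exact Equiv.apply_symm_apply _ _] at h
      have hid : ∀ y, SporFi22.rep (g * a⁻¹ * g⁻¹) (SporFi22.rep (g * a * g⁻¹) y) = y := fun y => by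
        rw [← Equiv.Perm.mul_apply, ← map_mul, show g * a⁻¹ * g⁻¹ * (g * a * g⁻¹) = 1 by group, map_one,
          Equiv.Perm.one_apply]
      rw [h, hid]
  have hp0 : piP act.o = act.o := Fin.ext (by
    show field piT 128 20 0 = 0
    decide +kernel)
  have hpi : SporFi22.rep g = piP := by
    ext i
    obtain ⟨u, hu⟩ := act.trans i
    rw [← hu, show (⟨0, act.hn⟩ : Fin FiA.table.n) = act.o from rfl]
    show (SporFi22.rep g (SporFi22.rep u act.o) : ℕ) = (piP (SporFi22.rep u act.o) : ℕ)
    rw [key, hp0, ← Equiv.Perm.mul_apply, ← map_mul]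
    conv_rhs => rw [← h0, ← Equiv.Perm.mul_apply, ← map_mul, show g * u * g⁻¹ * g = g * u by group]
  let s : Fi22 →* ℤˣ := Equiv.Perm.sign.comp SporFi22.rep
  rcases (MonoidHom.normal_ker s).eq_bot_or_eq_top with h | h
  · have h1 := Nat.card_le_card_of_injective s ((MonoidHom.ker_eq_bot_iff s).1 h)
    rw [SporFi22.card_eq.1, Nat.card_eq_fintype_card, Fintype.card_units_int] at h1
    omega
  · have h1 : s g = 1 := MonoidHom.mem_ker.1 (h ▸ Subgroup.mem_top g)
    change Equiv.Perm.sign (SporFi22.rep g) = 1 at h1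
    rw [hpi, sign_piP] at h1
    exact absurd h1 (by decide)

/-- `Out(Fi22)` has order two. -/
theorem card_out : Nat.card (Cfsg.Out Fi22) = 2 := by
  obtain ⟨τ, hτ⟩ := exists_tau
  have h0 : wprod SporFi22.gen (pal (target0.getD 0 [])) = wprod SporFi22.gen [0] := rfl
  have htgt : ∀ t ∈ targets, ∃ ψ : MulAut Fi22, (ψ = 1 ∨ ψ = τ) ∧
      ∀ i < 9, wprod SporFi22.gen (pal (t.getD i [])) = ψ (SporFi22.gen i) := by
    have hext : ∀ (t : List (List ℕ)), t ∈ targets → ∀ i < 9, ∀ W : List ℕ, (∀ y ∈ W, y < 9) →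
        allFrom (fun p => Nat.beq (FiA.table.follow (pal (t.getD i [])) p) (FiA.table.follow W p)) 0 3510 = true →
        wprod SporFi22.gen (pal (t.getD i [])) = wprod SporFi22.gen W := fun t ht i hi W hW hc =>
      act.wprod_ext (pal_lt (g := 9) (by omega) (targets_lt t ht i hi)) hW fun p hp => by
        have hp : p < 3510 := hp
        exact Nat.eq_of_beq_eq_true (allFrom_get _ hc p (Nat.zero_le _) (by omega))
    intro t ht
    simp only [targets, List.mem_cons, List.not_mem_nil, or_false] at ht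
    rcases ht with rfl | rfl
    · refine ⟨1, Or.inl rfl, fun i hi => ?_⟩
      rw [hext target0 (by simp [targets]) i hi [i] (by simp [hi])
        (target0_rows i hi)]
      simp [wprod]
    · refine ⟨τ, Or.inr rfl, fun i hi => ?_⟩
      rw [hτ i hi, hext target1 (by simp [targets]) i hi (tauW i) (tauW_lt i hi)
        (target1_rows i hi)]
  have hdec : ∀ φ : MulAut Fi22, ∃ h : Fi22, φ = MulAut.conj h ∨ φ = MulAut.conj h * τ := by
    intro φ
    obtain ⟨g, t, ht, hg⟩ := exists_conj act hStd φ (apply_zero φ) std_dist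
      (fun x hx => all_good act hStd x hx) targets_lt
    obtain ⟨ψ, hψ, hψt⟩ := htgt t ht
    refine ⟨g⁻¹, ?_⟩
    have hφ : φ = MulAut.conj g⁻¹ * ψ := by
      refine MulEquiv.toMonoidHom_injective (MonoidHom.eq_of_eqOn_dense SporFi22.closure_gen ?_)
      rintro _ ⟨i, hi, rfl⟩
      have h := (hg i hi).trans (hψt i hi)
      show φ (SporFi22.gen i) = g⁻¹ * ψ (SporFi22.gen i) * (g⁻¹)⁻¹
      rw [← h, show act.gen i = SporFi22.gen i from rfl]
      group
    rcases hψ with rfl | rfl
    · exact Or.inl (by rw [hφ, mul_one])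
    · exact Or.inr hφ
  have hout : τ ∉ Cfsg.Inn Fi22 := by
    rintro ⟨g, hg⟩
    exact tau_outer τ hτ g hg.symm
  refine Nat.card_eq_two_iff.2 ⟨1, QuotientGroup.mk τ, fun h => hout ((QuotientGroup.eq_one_iff τ).1 h.symm), ?_⟩
  refine Set.eq_univ_of_forall fun q => ?_
  induction q using QuotientGroup.induction_on with
  | _ φ =>
    obtain ⟨h, rfl | rfl⟩ := hdec φ
    · exact Or.inl ((QuotientGroup.eq_one_iff _).2 (MonoidHom.mem_range.2 ⟨h, rfl⟩))
    · refine Or.inr (Set.mem_singleton_iff.2 ?_)
      rw [QuotientGroup.mk_mul, (QuotientGroup.eq_one_iff _).2 (MonoidHom.mem_range.2 ⟨h, rfl⟩ : MulAut.conj h ∈ Cfsg.Inn Fi22), one_mul]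

end CfsgLib.KnownA.FischerOut.T22
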