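import Cfsg.Agent.Lib.KnownA.FischerOut.Basic
import Cfsg.Agent.Lib.InvChar.CosetPerm
import Cfsg.Agent.Lib.InvChar.CosetGroup

/-!
Certificates classifying the diagram tuples of transpositions in a table action whose base point
is not the transposition of the first generator: points are given by a letter and a word.
-/

set_option autoImplicit false
set_option linter.unusedSectionVars false

namespace CfsgLib.KnownA.FischerOut.Based

open CfsgLib.InvChar.Coset

/-- A group acting faithfully through a table, with the stabiliser of the point `0` the centraliser of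
an element `z`. -/
structure Act (T : Table) (G : Type*) [Group G] where
  /-- generators -/
  gen : ℕ → G
  gg : ∀ x, gen x * gen x = 1
  closure : Subgroup.closure (gen '' Set.Iio T.g) = ⊤
  /-- the action -/
  rep : G →* Equiv.Perm (Fin T.n)
  inj : Function.Injective rep
  hn : 0 < T.n
  follow : ∀ L : List ℕ, (∀ x ∈ L, x < T.g) → ∀ i : Fin T.n,
    T.follow L i = (((rep (wprod gen L))⁻¹ : Equiv.Perm (Fin T.n)) i : ℕ)
  /-- the element of the base point -/
  z : G
  trans : ∀ p, ∃ g, rep g ⟨0, hn⟩ = p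
  stab : ∀ g, rep g ⟨0, hn⟩ = ⟨0, hn⟩ ↔ g * z * g⁻¹ = z

/-- An entry names a point by a letter and a word. -/
abbrev Spec := ℕ × List ℕ

variable (T : Table)

/-- The point of an entry. -/
noncomputable def pw (P : List ℕ) (e : Spec) : ℕ := T.follow e.2 (P.getD e.1 0)

/-- The word of the transposition of an entry. -/
def dw (e : Spec) : List ℕ := e.2.reverse ++ e.1 :: e.2

/-- The letters of an entry are in range. -/
def okSpec (g : ℕ) (e : Spec) : Bool := Nat.blt e.1 g && letters g e.2

/-- A level of the search tree. -/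
structure Node where
  /-- the next position -/
  idx : ℕ
  /-- representatives -/
  roots : List Spec
  /-- words fixing the prefix -/
  ws : List (List ℕ)
  /-- number of candidates -/
  m : ℕ
  /-- the candidates -/
  pts : Tr
  /-- parents -/
  par : Tr
  /-- words leading from the parents -/
  via : Tr
  /-- positions -/
  pos : Tr

/-- A candidate for the next position. -/
noncomputable def cand (P : List ℕ) (pre : List (ℕ × Spec)) (i y : ℕ) : Bool :=
  pre.all fun e => !Nat.beq y (pw T P e.2) &&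
    beqB (Nat.beq (T.follow (dw e.2) y) y) (Nat.beq (T.follow [e.1] (P.getD i 0)) (P.getD i 0))

/-- The group-theoretic part of the check of a node. -/
noncomputable def chkFix (P : List ℕ) (pre : List (ℕ × Spec)) (N : Node) : Bool :=
  Nat.blt N.idx T.g && pre.all (fun e => Nat.blt e.1 T.g && !Nat.beq e.1 N.idx && okSpec T.g e.2) &&
  N.roots.all (fun L => okSpec T.g L) &&
  N.ws.all (fun W => letters T.g W && pre.all fun e => Nat.beq (T.follow W (pw T P e.2)) (pw T P e.2))

/-- One member of the orbit list. -/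
noncomputable def chkMember (P : List ℕ) (N : Node) (k : ℕ) : Bool :=
  bif Nat.blt k N.roots.length then Nat.beq (field N.pts 128 20 k) (pw T P (N.roots.getD k (0, [])))
  else Nat.blt (field N.par 128 20 k) k && Nat.blt (field N.via 128 20 k) N.ws.length &&
    Nat.blt (field N.pts 128 20 (field N.par 128 20 k)) T.n &&
    Nat.beq (T.follow (N.ws.getD (field N.via 128 20 k) []) (field N.pts 128 20 (field N.par 128 20 k)))
      (field N.pts 128 20 k)

/-- One point: a candidate is listed. -/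
noncomputable def chkPoint (P : List ℕ) (pre : List (ℕ × Spec)) (N : Node) (y : ℕ) : Bool :=
  !cand T P pre N.idx y || (Nat.blt (field N.pos 128 20 y) N.m &&
    Nat.beq (field N.pts 128 20 (field N.pos 128 20 y)) y)

variable {T} {G : Type*} [Group G] (A : Act T G)

/-- The base point. -/
def Act.o : Fin T.n := ⟨0, A.hn⟩

/-- The transposition of a point. -/
noncomputable def Act.d (p : Fin T.n) : G :=
  (A.trans p).choose * A.z * ((A.trans p).choose)⁻¹

theorem Act.d_eq (g : G) : A.d (A.rep g A.o) = g * A.z * g⁻¹ := by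
  obtain ⟨u, hu⟩ : ∃ u, u = (A.trans (A.rep g A.o)).choose := ⟨_, rfl⟩
  have h : A.rep u A.o = A.rep g A.o := hu ▸ (A.trans (A.rep g A.o)).choose_spec
  have h2 : A.rep (g⁻¹ * u) A.o = A.o := by
    rw [map_mul, Equiv.Perm.mul_apply, h, ← Equiv.Perm.mul_apply, ← map_mul, inv_mul_cancel, map_one,
      Equiv.Perm.one_apply]
  have h3 := (A.stab _).1 h2
  rw [Act.d, ← hu]
  calc u * A.z * u⁻¹ = g * (g⁻¹ * u * A.z * (g⁻¹ * u)⁻¹) * g⁻¹ := by group
    _ = g * A.z * g⁻¹ := by rw [h3]

theorem Act.conj_d (g : G) (p : Fin T.n) : g * A.d p * g⁻¹ = A.d (A.rep g p) := by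
  obtain ⟨u, rfl⟩ := A.trans p
  rw [show (⟨0, A.hn⟩ : Fin T.n) = A.o from rfl, ← Equiv.Perm.mul_apply, ← map_mul, A.d_eq, A.d_eq]
  group

theorem Act.d_injective : Function.Injective A.d := by
  intro p q h
  obtain ⟨u, rfl⟩ := A.trans p
  obtain ⟨v, rfl⟩ := A.trans q
  rw [show (⟨0, A.hn⟩ : Fin T.n) = A.o from rfl] at h ⊢
  rw [A.d_eq, A.d_eq] at h
  have h1 : A.rep (u⁻¹ * v) A.o = A.o := by
    refine (A.stab _).2 ?_
    calc u⁻¹ * v * A.z * (u⁻¹ * v)⁻¹ = u⁻¹ * (v * A.z * v⁻¹) * u := by group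
      _ = A.z := by rw [← h]; group
  rw [map_mul, map_inv, Equiv.Perm.mul_apply, Equiv.Perm.inv_eq_iff_eq] at h1
  exact h1.symm

theorem Act.commute_iff (p q : Fin T.n) : Commute (A.d p) (A.d q) ↔ A.rep (A.d p) q = q := by
  constructor
  · intro h
    refine A.d_injective ?_
    rw [← A.conj_d, h.eq, mul_inv_cancel_right]
  · intro h
    have e := A.conj_d (A.d p) q
    rw [h] at e
    exact mul_inv_eq_iff_eq_mul.1 e

theorem Act.wprod_reverse (L : List ℕ) : wprod A.gen L.reverse = (wprod A.gen L)⁻¹ := by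
  induction L with
  | nil => simp [wprod]
  | cons a L ih =>
    rw [List.reverse_cons, wprod_append, ih]
    simp [wprod, mul_inv_rev, inv_eq_of_mul_eq_one_right (A.gg a)]

theorem Act.follow_mem {L : List ℕ} (hL : ∀ x ∈ L, x < T.g) (p : Fin T.n) :
    T.follow L p = (A.rep (wprod A.gen L)⁻¹ p : ℕ) := by
  rw [A.follow L hL, map_inv]

/-- Two words with the same rows are equal in the group. -/
theorem Act.wprod_ext {L M : List ℕ} (hL : ∀ x ∈ L, x < T.g) (hM : ∀ x ∈ M, x < T.g)
    (h : ∀ i < T.n, T.follow L i = T.follow M i) : wprod A.gen L = wprod A.gen M := by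
  refine A.inj (inv_injective (Equiv.ext fun i => Fin.ext ?_))
  rw [← A.follow L hL, ← A.follow M hM, h i i.2]

/-- `P` lists the points of the generators. -/
def Std (P : List ℕ) : Prop :=
  ∀ i < T.g, ∃ p : Fin T.n, (p : ℕ) = P.getD i 0 ∧ A.d p = A.gen i

theorem of_okSpec {g : ℕ} {e : Spec} (h : okSpec g e = true) : e.1 < g ∧ ∀ x ∈ e.2, x < g := by
  simp only [okSpec, Bool.and_eq_true] at h
  exact ⟨Nat.le_of_ble_eq_true h.1, of_letters h.2⟩

theorem dw_lt {g : ℕ} {e : Spec} (he : e.1 < g ∧ ∀ x ∈ e.2, x < g) : ∀ x ∈ dw e, x < g := by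
  intro x hx
  simp only [dw, List.mem_append, List.mem_reverse, List.mem_cons] at hx
  rcases hx with hx | rfl | hx
  · exact he.2 x hx
  · exact he.1
  · exact he.2 x hx

theorem Act.d_pw {P : List ℕ} (hP : Std A P) {e : Spec} (he : e.1 < T.g ∧ ∀ x ∈ e.2, x < T.g)
    {p : Fin T.n} (hp : (p : ℕ) = pw T P e) : A.d p = wprod A.gen (dw e) := by
  obtain ⟨q, hq, hd⟩ := hP e.1 he.1
  rw [show p = A.rep (wprod A.gen e.2)⁻¹ q from Fin.ext (by rw [hp, pw, ← hq, A.follow_mem he.2]),
    ← A.conj_d, hd, inv_inv, dw, wprod_append, A.wprod_reverse]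
  simp [wprod, mul_assoc]

/-- A tuple of points with the commuting pattern of the generators. -/
def Pat (P : List ℕ) (x : ℕ → Fin T.n) : Prop :=
  ∀ i < T.g, ∀ j < T.g, i ≠ j → x i ≠ x j ∧
    (A.rep (A.d (x j)) (x i) = x i ↔ T.follow [j] (P.getD i 0) = P.getD i 0)

theorem Pat.conj {P : List ℕ} {x : ℕ → Fin T.n} (h : Pat A P x) (g : G) :
    Pat A P fun i => A.rep g (x i) := by
  intro i hi j hj hij
  obtain ⟨h1, h2⟩ := h i hi j hj hij
  refine ⟨fun e => h1 ((A.rep g).injective e), ?_⟩
  rw [← A.commute_iff, ← A.conj_d, ← A.conj_d]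
  refine Iff.trans ⟨fun e => ?_, fun e => ?_⟩ h2
  · rw [← A.commute_iff]
    have := e.map (MulAut.conj g⁻¹).toMonoidHom
    simpa [mul_assoc] using this
  · rw [← A.commute_iff] at e
    exact e.map (MulAut.conj g).toMonoidHom

/-- Every tuple extending the prefix is conjugate to the standard one. -/
def Good (P : List ℕ) (pre : List (ℕ × Spec)) : Prop :=
  ∀ x : ℕ → Fin T.n, Pat A P x → (∀ e ∈ pre, (x e.1 : ℕ) = pw T P e.2) →
    ∃ g : G, ∀ i < T.g, (A.rep g (x i) : ℕ) = P.getD i 0

theorem good_leaf {P : List ℕ} {pre : List (ℕ × Spec)} (h : ∀ i < T.g, (i, (i, [])) ∈ pre) :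
    Good A P pre :=
  fun x _ hx => ⟨1, fun i hi => by
    rw [map_one, Equiv.Perm.one_apply]; exact hx _ (h i hi)⟩

/-- The first position can be moved anywhere. -/
theorem good_root {P : List ℕ} (hP : Std A P) (i : ℕ) (hi : i < T.g) (h : Good A P [(i, (i, []))]) :
    Good A P [] := by
  intro x hx _
  obtain ⟨p, hp, -⟩ := hP i hi
  obtain ⟨u, hu⟩ := A.trans (x i)
  obtain ⟨v, hv⟩ := A.trans p
  obtain ⟨g, hg⟩ := h (fun j => A.rep (v * u⁻¹) (x j)) (Pat.conj A hx _) (by
    intro e he
    rw [List.mem_singleton.1 he, ← hu]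
    show (A.rep (v * u⁻¹) (A.rep u _) : ℕ) = pw T P (i, [])
    rw [← Equiv.Perm.mul_apply, ← map_mul, inv_mul_cancel_right, hv, hp]
    rfl)
  exact ⟨g * (v * u⁻¹), fun j hj => by rw [map_mul, Equiv.Perm.mul_apply]; exact hg j hj⟩

theorem good_step {P : List ℕ} {pre : List (ℕ × Spec)}
    (hS : Std A P) (N : Node) (hf : chkFix T P pre N = true)
    (hm : ∀ k < N.m, chkMember T P N k = true) (hp : ∀ y < T.n, chkPoint T P pre N y = true)
    (hsub : ∀ L ∈ N.roots, Good A P (pre ++ [(N.idx, L)])) : Good A P pre := by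
  simp only [chkFix, Bool.and_eq_true, List.all_eq_true, Bool.not_eq_true'] at hf
  obtain ⟨⟨⟨hidx, hpre⟩, hroots⟩, hws⟩ := hf
  have hidx : N.idx < T.g := Nat.le_of_ble_eq_true hidx
  intro x hx hxp
  -- the next point is a candidate
  have hc : cand T P pre N.idx (x N.idx) = true := by
    simp only [cand, List.all_eq_true, Bool.and_eq_true, Bool.not_eq_true']
    intro e he
    obtain ⟨⟨he1, he2⟩, he3⟩ := hpre e he
    have he1 : e.1 < T.g := Nat.le_of_ble_eq_true he1
    have hne : N.idx ≠ e.1 := fun h => by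
      rw [h, Nat.beq_refl] at he2
      exact Bool.noConfusion he2
    obtain ⟨h1, h2⟩ := hx N.idx hidx e.1 he1 hne
    have hv : (x e.1 : ℕ) = pw T P e.2 := hxp e he
    refine ⟨?_, ?_⟩
    · cases hb : Nat.beq (x N.idx : ℕ) (pw T P e.2)
      · rfl
      · exact absurd (Fin.ext ((Nat.eq_of_beq_eq_true hb).trans hv.symm)) h1
    · have hL := of_okSpec he3
      have hd := A.d_pw hS hL hv
      have hfol : T.follow (dw e.2) (x N.idx) = (x N.idx : ℕ) ↔ A.rep (A.d (x e.1)) (x N.idx) = x N.idx := by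
        rw [A.follow _ (dw_lt hL), Fin.val_inj, Equiv.Perm.inv_eq_iff_eq, ← hd]
        exact eq_comm
      have key := hfol.trans h2
      cases hb : Nat.beq (T.follow (dw e.2) (x N.idx)) (x N.idx) <;>
        cases hb' : Nat.beq (T.follow [e.1] (P.getD N.idx 0)) (P.getD N.idx 0) <;>
        first
          | rfl
          | exact absurd (key.1 (Nat.eq_of_beq_eq_true hb)) (Nat.ne_of_beq_eq_false hb')
          | exact absurd (key.2 (Nat.eq_of_beq_eq_true hb')) (Nat.ne_of_beq_eq_false hb)
  -- it can be moved to a representative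
  have horb : ∀ k, k < N.m → ∀ p : Fin T.n, (p : ℕ) = field N.pts 128 20 k →
      ∃ g : G, (∀ e ∈ pre, A.rep g (x e.1) = x e.1) ∧ ∃ L ∈ N.roots, (A.rep g p : ℕ) = pw T P L := by
    intro k
    induction k using Nat.strong_induction_on with
    | _ k ih =>
      intro hk p hp'
      have h := hm k hk
      unfold chkMember at h
      cases hb : Nat.blt k N.roots.length
      · rw [hb, cond_false] at h
        simp only [Bool.and_eq_true] at h
        obtain ⟨⟨⟨hpar, hvia⟩, hlt⟩, hfol⟩ := h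
        have hpar : field N.par 128 20 k < k := Nat.le_of_ble_eq_true hpar
        have hvia : field N.via 128 20 k < N.ws.length := Nat.le_of_ble_eq_true hvia
        obtain ⟨W, hW⟩ : ∃ W, W = N.ws.getD (field N.via 128 20 k) [] := ⟨_, rfl⟩
        have hWmem : W ∈ N.ws := by
          rw [hW, List.getD_eq_getElem _ _ hvia]; exact List.getElem_mem _
        obtain ⟨hWl, hWfix⟩ := hws W hWmem
        have hWl := of_letters hWl
        have hfol := Nat.eq_of_beq_eq_true hfol
        rw [← hW] at hfol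
        obtain ⟨p', hpp⟩ : ∃ p' : Fin T.n, p' = A.rep (wprod A.gen W) p := ⟨_, rfl⟩
        have hp'' : (p' : ℕ) = field N.pts 128 20 (field N.par 128 20 k) := by
          have h := A.follow_mem hWl ⟨_, Nat.le_of_ble_eq_true hlt⟩
          rw [hfol, ← hp'] at h
          have h := Fin.ext h
          rw [hpp, h, map_inv, ← Equiv.Perm.mul_apply, mul_inv_cancel, Equiv.Perm.one_apply]
        obtain ⟨g, hg, L, hL, hgL⟩ := ih _ hpar (hpar.trans hk) p' hp''
        refine ⟨g * wprod A.gen W, fun e he => ?_, L, hL, ?_⟩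
        · rw [map_mul, Equiv.Perm.mul_apply]
          have h1 := Nat.eq_of_beq_eq_true (hWfix e he)
          rw [← hxp e he] at h1
          have h2 := A.follow_mem hWl (x e.1)
          rw [h1, map_inv] at h2
          have h3 : A.rep (wprod A.gen W) (x e.1) = x e.1 := by
            conv_lhs => rw [Fin.ext h2, ← Equiv.Perm.mul_apply, mul_inv_cancel, Equiv.Perm.one_apply]
          rw [h3, hg e he]
        · rw [map_mul, Equiv.Perm.mul_apply, ← hpp, hgL]
      · rw [hb, cond_true] at h
        refine ⟨1, fun e _ => by rw [map_one, Equiv.Perm.one_apply], N.roots.getD k (0, []), ?_, ?_⟩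
        · rw [List.getD_eq_getElem _ _ (Nat.le_of_ble_eq_true hb)]; exact List.getElem_mem _
        · rw [map_one, Equiv.Perm.one_apply, hp', Nat.eq_of_beq_eq_true h]
  have hy := hp _ (x N.idx).2
  simp only [chkPoint, hc, Bool.not_true, Bool.false_or, Bool.and_eq_true] at hy
  obtain ⟨hy1, hy2⟩ := hy
  obtain ⟨g, hg, L, hL, hgL⟩ := horb _ (Nat.le_of_ble_eq_true hy1) (x N.idx)
    (Nat.eq_of_beq_eq_true hy2).symm
  obtain ⟨g', hg'⟩ := hsub L hL (fun i => A.rep g (x i)) (Pat.conj A hx g) (by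
    intro e he
    rcases List.mem_append.1 he with he | he
    · rw [hg e he, hxp e he]
    · rw [List.mem_singleton.1 he]; exact hgL)
  exact ⟨g' * g, fun i hi => by rw [map_mul, Equiv.Perm.mul_apply]; exact hg' i hi⟩

/-- An automorphism mapping the first generator to a transposition moves the generators to a diagram
tuple. -/
theorem exists_tuple {P : List ℕ} (hS : Std A P) (φ : MulAut G) (h0 : ∃ p, φ A.z = A.d p)
    (hdist : ∀ i < T.g, ∀ j < T.g, P.getD i 0 = P.getD j 0 → i = j) :
    ∃ x : ℕ → Fin T.n, Pat A P x ∧ ∀ i < T.g, φ (A.gen i) = A.d (x i) := by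
  classical
  obtain ⟨p, hp⟩ := h0
  have hex : ∀ i, ∃ q : Fin T.n, i < T.g → φ (A.gen i) = A.d q := by
    intro i
    by_cases hi : i < T.g
    · obtain ⟨q, -, hq⟩ := hS i hi
      obtain ⟨u, hu⟩ := A.trans q
      rw [← hu, show (⟨0, A.hn⟩ : Fin T.n) = A.o from rfl, A.d_eq] at hq
      refine ⟨A.rep (φ u) p, fun _ => ?_⟩
      rw [← hq, map_mul, map_mul, map_inv, hp, A.conj_d]
    · exact ⟨A.o, fun h => absurd h hi⟩
  choose x hx using hex
  refine ⟨x, fun i hi j hj hij => ?_, hx⟩
  obtain ⟨pi, hpi, hdi⟩ := hS i hi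
  obtain ⟨pj, hpj, hdj⟩ := hS j hj
  refine ⟨fun h => hij (hdist i hi j hj ?_), ?_⟩
  · have h1 : A.gen i = A.gen j := φ.injective (by rw [hx i hi, hx j hj, h])
    rw [← hdi, ← hdj] at h1
    rw [← hpi, ← hpj, A.d_injective h1]
  · rw [← A.commute_iff, ← hx i hi, ← hx j hj, Commute, SemiconjBy, ← map_mul, ← map_mul,
      φ.injective.eq_iff]
    refine (show Commute (A.gen j) (A.gen i) ↔ _ from ?_)
    rw [← hdj, ← hdi, A.commute_iff, hdj]
    have hf := A.follow [j] (by simp [hj]) pi
    rw [show wprod A.gen [j] = A.gen j by simp [wprod], ← hpi] at *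
    rw [hf, Fin.val_inj, Equiv.Perm.inv_eq_iff_eq]
    exact eq_comm

/-- Every automorphism fixing the class is inner. -/
theorem exists_conj {P : List ℕ} (hS : Std A P) (φ : MulAut G) (h0 : ∃ p, φ A.z = A.d p)
    (hdist : ∀ i < T.g, ∀ j < T.g, P.getD i 0 = P.getD j 0 → i = j) (hall : Good A P []) :
    ∃ g : G, φ = MulAut.conj g := by
  obtain ⟨x, hx, hφ⟩ := exists_tuple A hS φ h0 hdist
  obtain ⟨g, hg⟩ := hall x hx (fun _ h => nomatch h)
  refine ⟨g⁻¹, MulEquiv.toMonoidHom_injective (MonoidHom.eq_of_eqOn_dense A.closure ?_)⟩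
  rintro _ ⟨i, hi, rfl⟩
  obtain ⟨p, hp, hd⟩ := hS i hi
  show φ (A.gen i) = g⁻¹ * A.gen i * (g⁻¹)⁻¹
  rw [hφ i hi, ← hd, A.conj_d]
  refine congrArg A.d ?_
  rw [← Fin.ext (hp.trans (hg i hi).symm) |>.symm, ← Equiv.Perm.mul_apply, ← map_mul, inv_mul_cancel,
    map_one, Equiv.Perm.one_apply]

end CfsgLib.KnownA.FischerOut.Based
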