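import Cfsg.Agent.Lib.InvChar.CosetPerm
import Cfsg.Agent.Lib.InvChar.CosetGroup

/-!
Certificates classifying the diagram tuples of transpositions in a table action.
-/

set_option autoImplicit false
set_option linter.unusedSectionVars false

namespace CfsgLib.KnownA.FischerOut

open CfsgLib.InvChar.Coset

/-- A group acting faithfully through a table, with the stabiliser of the point `0` the centraliser of
the first generator. -/
structure Act (T : Table) (G : Type*) [Group G] where
  /-- generators -/
  gen : ℕ → G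
  gg : ∀ x, gen x * gen x = 1
  closure : Subgroup.closure (gen '' Set.Iio T.g) = ⊤
  /-- the action -/
  rep : G →* Equiv.Perm (Fin T.n)
  inj : Function.Injective rep
  hn : 0 < T.n
  follow : ∀ L : List ℕ, (∀ x ∈ L, x < T.g) → ∀ i : Fin T.n,
    T.follow L i = (((rep (wprod gen L))⁻¹ : Equiv.Perm (Fin T.n)) i : ℕ)
  trans : ∀ p, ∃ g, rep g ⟨0, hn⟩ = p
  stab : ∀ g, rep g ⟨0, hn⟩ = ⟨0, hn⟩ ↔ g * gen 0 * g⁻¹ = gen 0

/-- The word of the transposition at the end of `L`. -/
def pal (L : List ℕ) : List ℕ := L.reverse ++ 0 :: L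

/-- The word of the transposition of an entry, with standard entries abbreviated. -/
noncomputable def dw (S : List (List ℕ)) (e : ℕ × List ℕ) : List ℕ :=
  bif leq e.2 (S.getD e.1 []) then [e.1] else pal e.2

/-- Equality of Booleans. -/
def beqB (a b : Bool) : Bool := bif a then b else !b

theorem eq_of_beqB {a b : Bool} (h : beqB a b = true) : a = b := by
  revert h; cases a <;> cases b <;> simp [beqB]

/-- All letters are in range. -/
def letters (g : ℕ) (L : List ℕ) : Bool := L.all fun x => Nat.blt x g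

theorem of_letters {g : ℕ} {L : List ℕ} (h : letters g L = true) : ∀ x ∈ L, x < g := fun x hx =>
  Nat.le_of_ble_eq_true (List.all_eq_true.1 h x hx)

/-- A level of the search tree. -/
structure Node where
  /-- the next position -/
  idx : ℕ
  /-- representatives -/
  roots : List (List ℕ)
  /-- words fixing the prefix -/
  ws : List (List ℕ)
  /-- number of candidates -/
  m : ℕ
  /-- the candidates -/
  pts : Tr
  /-- parents -/
  par : Tr
  /-- words leading from the parents -/
  via : Tr
  /-- positions -/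
  pos : Tr

variable (T : Table)

/-- The point at the end of a word. -/
noncomputable def pw (L : List ℕ) : ℕ := T.follow L 0

/-- A candidate for the next position. -/
noncomputable def cand (S : List (List ℕ)) (pre : List (ℕ × List ℕ)) (i y : ℕ) : Bool :=
  pre.all fun e => !Nat.beq y (pw T e.2) &&
    beqB (Nat.beq (T.follow (dw S e) y) y) (Nat.beq (T.follow [e.1] (pw T (S.getD i []))) (pw T (S.getD i [])))

/-- The group-theoretic part of the check of a node. -/
noncomputable def chkFix (S : List (List ℕ)) (pre : List (ℕ × List ℕ)) (N : Node) : Bool :=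
  Nat.blt N.idx T.g && pre.all (fun e => Nat.blt e.1 T.g && !Nat.beq e.1 N.idx && letters T.g e.2) &&
  N.roots.all (fun L => letters T.g L) &&
  N.ws.all (fun W => letters T.g W && pre.all fun e => Nat.beq (T.follow W (pw T e.2)) (pw T e.2))

/-- One member of the orbit list. -/
noncomputable def chkMember (N : Node) (k : ℕ) : Bool :=
  bif Nat.blt k N.roots.length then Nat.beq (field N.pts 128 20 k) (pw T (N.roots.getD k []))
  else Nat.blt (field N.par 128 20 k) k && Nat.blt (field N.via 128 20 k) N.ws.length &&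
    Nat.blt (field N.pts 128 20 (field N.par 128 20 k)) T.n &&
    Nat.beq (T.follow (N.ws.getD (field N.via 128 20 k) []) (field N.pts 128 20 (field N.par 128 20 k)))
      (field N.pts 128 20 k)

/-- One point: a candidate is listed. -/
noncomputable def chkPoint (S : List (List ℕ)) (pre : List (ℕ × List ℕ)) (N : Node) (y : ℕ) : Bool :=
  !cand T S pre N.idx y || (Nat.blt (field N.pos 128 20 y) N.m &&
    Nat.beq (field N.pts 128 20 (field N.pos 128 20 y)) y)

/-- A bounded conjunction starting at `o`. -/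
noncomputable def allFrom (q : ℕ → Bool) (o n : ℕ) : Bool :=
  Nat.rec true (fun k ih => q (o + k) && ih) n

theorem allFrom_get {q : ℕ → Bool} {o : ℕ} : ∀ n, allFrom q o n = true →
    ∀ i, o ≤ i → i < o + n → q i = true := by
  intro n
  induction n with
  | zero => intro _ i h1 h2; omega
  | succ n ih =>
    intro h i h1 h2
    have h' : (q (o + n) && allFrom q o n) = true := h
    rw [Bool.and_eq_true] at h'
    rcases Nat.lt_or_ge i (o + n) with hi | hi
    · exact ih h'.2 i h1 hi
    · rw [show i = o + n by omega]; exact h'.1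

/-- A small node in one piece. -/
noncomputable def chkNode (S : List (List ℕ)) (pre : List (ℕ × List ℕ)) (N : Node) : Bool :=
  chkFix T S pre N && allFrom (chkMember T N) 0 N.m && allFrom (chkPoint T S pre N) 0 T.n

variable {T} {G : Type*} [Group G] (A : Act T G)

/-- The base point. -/
def Act.o : Fin T.n := ⟨0, A.hn⟩

/-- The transposition of a point. -/
noncomputable def Act.d (p : Fin T.n) : G :=
  (A.trans p).choose * A.gen 0 * ((A.trans p).choose)⁻¹

theorem Act.d_eq (g : G) : A.d (A.rep g A.o) = g * A.gen 0 * g⁻¹ := by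
  obtain ⟨u, hu⟩ : ∃ u, u = (A.trans (A.rep g A.o)).choose := ⟨_, rfl⟩
  have h : A.rep u A.o = A.rep g A.o := hu ▸ (A.trans (A.rep g A.o)).choose_spec
  have h2 : A.rep (g⁻¹ * u) A.o = A.o := by
    rw [map_mul, Equiv.Perm.mul_apply, h, ← Equiv.Perm.mul_apply, ← map_mul, inv_mul_cancel, map_one,
      Equiv.Perm.one_apply]
  have h3 := (A.stab _).1 h2
  rw [Act.d, ← hu]
  calc u * A.gen 0 * u⁻¹ = g * (g⁻¹ * u * A.gen 0 * (g⁻¹ * u)⁻¹) * g⁻¹ := by group
    _ = g * A.gen 0 * g⁻¹ := by rw [h3]

theorem Act.conj_d (g : G) (p : Fin T.n) : g * A.d p * g⁻¹ = A.d (A.rep g p) := by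
  obtain ⟨u, rfl⟩ := A.trans p
  rw [show (⟨0, A.hn⟩ : Fin T.n) = A.o from rfl, ← Equiv.Perm.mul_apply, ← map_mul, A.d_eq, A.d_eq]
  group

theorem Act.d_injective : Function.Injective A.d := by
  intro p q h
  obtain ⟨u, rfl⟩ := A.trans p
  obtain ⟨v, rfl⟩ := A.trans q
  rw [show (⟨0, A.hn⟩ : Fin T.n) = A.o from rfl] at h ⊢
  rw [A.d_eq, A.d_eq] at h
  have h1 : A.rep (u⁻¹ * v) A.o = A.o := by
    refine (A.stab _).2 ?_
    calc u⁻¹ * v * A.gen 0 * (u⁻¹ * v)⁻¹ = u⁻¹ * (v * A.gen 0 * v⁻¹) * u := by group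
      _ = A.gen 0 := by rw [← h]; group
  rw [map_mul, map_inv, Equiv.Perm.mul_apply, Equiv.Perm.inv_eq_iff_eq] at h1
  exact h1.symm

theorem Act.commute_iff (p q : Fin T.n) : Commute (A.d p) (A.d q) ↔ A.rep (A.d p) q = q := by
  constructor
  · intro h
    refine A.d_injective ?_
    rw [← A.conj_d, h.eq, mul_inv_cancel_right]
  · intro h
    have e := A.conj_d (A.d p) q
    rw [h] at e
    exact mul_inv_eq_iff_eq_mul.1 e

theorem Act.wprod_reverse (L : List ℕ) : wprod A.gen L.reverse = (wprod A.gen L)⁻¹ := by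
  induction L with
  | nil => simp [wprod]
  | cons a L ih =>
    rw [List.reverse_cons, wprod_append, ih]
    simp [wprod, mul_inv_rev, inv_eq_of_mul_eq_one_right (A.gg a)]

theorem Act.pt_eq {L : List ℕ} (hL : ∀ x ∈ L, x < T.g) :
    (A.rep (wprod A.gen L.reverse) A.o : ℕ) = pw T L := by
  rw [A.wprod_reverse, map_inv, pw, show T.follow L 0 = _ from A.follow L hL A.o]

theorem Act.d_pw {L : List ℕ} (hL : ∀ x ∈ L, x < T.g) {p : Fin T.n} (hp : (p : ℕ) = pw T L) :
    A.d p = wprod A.gen (pal L) := by
  rw [show p = A.rep (wprod A.gen L.reverse) A.o from Fin.ext (hp.trans (A.pt_eq hL).symm), A.d_eq,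
    A.wprod_reverse, inv_inv, pal, wprod_append, A.wprod_reverse]
  simp [wprod, mul_assoc]

theorem Act.follow_mem {L : List ℕ} (hL : ∀ x ∈ L, x < T.g) (p : Fin T.n) :
    T.follow L p = (A.rep (wprod A.gen L)⁻¹ p : ℕ) := by
  rw [A.follow L hL, map_inv]

/-- The standard tuple: the generators are the transpositions at the ends of the words `S`. -/
def Std (S : List (List ℕ)) : Prop :=
  ∀ i < T.g, (∀ x ∈ S.getD i [], x < T.g) ∧
    ∀ p : Fin T.n, (p : ℕ) = pw T (S.getD i []) → A.d p = A.gen i

/-- A tuple of points with the commuting pattern of the generators. -/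
def Pat (S : List (List ℕ)) (x : ℕ → Fin T.n) : Prop :=
  ∀ i < T.g, ∀ j < T.g, i ≠ j → x i ≠ x j ∧
    (A.rep (A.d (x j)) (x i) = x i ↔ T.follow [j] (pw T (S.getD i [])) = pw T (S.getD i []))

theorem Pat.conj {S : List (List ℕ)} {x : ℕ → Fin T.n} (h : Pat A S x) (g : G) :
    Pat A S fun i => A.rep g (x i) := by
  intro i hi j hj hij
  obtain ⟨h1, h2⟩ := h i hi j hj hij
  refine ⟨fun e => h1 ((A.rep g).injective e), ?_⟩
  rw [← A.commute_iff, ← A.conj_d, ← A.conj_d]
  refine Iff.trans ⟨fun e => ?_, fun e => ?_⟩ h2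
  · rw [← A.commute_iff]
    have := e.map (MulAut.conj g⁻¹).toMonoidHom
    simpa [mul_assoc] using this
  · rw [← A.commute_iff] at e
    exact e.map (MulAut.conj g).toMonoidHom

/-- Every tuple extending the prefix is conjugate to a target. -/
def Good (S : List (List ℕ)) (tg : List (List (List ℕ))) (pre : List (ℕ × List ℕ)) : Prop :=
  ∀ x : ℕ → Fin T.n, Pat A S x → (∀ e ∈ pre, (x e.1 : ℕ) = pw T e.2) →
    ∃ g : G, ∃ t ∈ tg, ∀ i < T.g, (A.rep g (x i) : ℕ) = pw T (t.getD i [])

theorem good_leaf {S : List (List ℕ)} {tg : List (List (List ℕ))} {pre : List (ℕ × List ℕ)}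
    (t : List (List ℕ)) (ht : t ∈ tg) (h : ∀ i < T.g, (i, t.getD i []) ∈ pre) : Good A S tg pre :=
  fun x _ hx => ⟨1, t, ht, fun i hi => by
    rw [map_one, Equiv.Perm.one_apply]; exact hx _ (h i hi)⟩

theorem good_step {S : List (List ℕ)} {tg : List (List (List ℕ))} {pre : List (ℕ × List ℕ)}
    (hS : Std A S) (N : Node) (hf : chkFix T S pre N = true)
    (hm : ∀ k < N.m, chkMember T N k = true) (hp : ∀ y < T.n, chkPoint T S pre N y = true)
    (hsub : ∀ L ∈ N.roots, Good A S tg (pre ++ [(N.idx, L)])) : Good A S tg pre := by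
  simp only [chkFix, Bool.and_eq_true, List.all_eq_true, Bool.not_eq_true'] at hf
  obtain ⟨⟨⟨hidx, hpre⟩, hroots⟩, hws⟩ := hf
  have hidx : N.idx < T.g := Nat.le_of_ble_eq_true hidx
  intro x hx hxp
  -- the next point is a candidate
  have hc : cand T S pre N.idx (x N.idx) = true := by
    simp only [cand, List.all_eq_true, Bool.and_eq_true, Bool.not_eq_true']
    intro e he
    obtain ⟨⟨he1, he2⟩, he3⟩ := hpre e he
    have he1 : e.1 < T.g := Nat.le_of_ble_eq_true he1
    have hne : N.idx ≠ e.1 := fun h => by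
      rw [h, Nat.beq_refl] at he2
      exact Bool.noConfusion he2
    obtain ⟨h1, h2⟩ := hx N.idx hidx e.1 he1 hne
    have hv : (x e.1 : ℕ) = pw T e.2 := hxp e he
    refine ⟨?_, ?_⟩
    · cases hb : Nat.beq (x N.idx : ℕ) (pw T e.2)
      · rfl
      · exact absurd (Fin.ext ((Nat.eq_of_beq_eq_true hb).trans hv.symm)) h1
    · have hL := of_letters he3
      obtain ⟨w, hw, hdw⟩ : ∃ w : List ℕ, (∀ y ∈ w, y < T.g) ∧
          dw S e = w ∧ A.d (x e.1) = wprod A.gen w := by
        refine ⟨dw S e, ?_, rfl, ?_⟩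
        · unfold dw
          cases hb : leq e.2 (S.getD e.1 [])
          · intro y hy
            simp only [cond_false, pal, List.mem_append, List.mem_reverse, List.mem_cons] at hy
            rcases hy with hy | rfl | hy
            · exact hL y hy
            · omega
            · exact hL y hy
          · simp [he1]
        · unfold dw
          cases hb : leq e.2 (S.getD e.1 [])
          · rw [cond_false]; exact A.d_pw hL hv
          · rw [cond_true, (hS e.1 he1).2 _ (hv.trans (by rw [eq_of_leq _ _ hb]))]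
            simp [wprod]
      obtain ⟨hdw, hd⟩ := hdw
      have hfol : T.follow (dw S e) (x N.idx) = (x N.idx : ℕ) ↔ A.rep (A.d (x e.1)) (x N.idx) = x N.idx := by
        rw [hdw, A.follow w hw, Fin.val_inj, Equiv.Perm.inv_eq_iff_eq, ← hd]
        exact eq_comm
      have key := hfol.trans h2
      cases hb : Nat.beq (T.follow (dw S e) (x N.idx)) (x N.idx) <;>
        cases hb' : Nat.beq (T.follow [e.1] (pw T (S.getD N.idx []))) (pw T (S.getD N.idx [])) <;>
        first
          | rfl
          | exact absurd (key.1 (Nat.eq_of_beq_eq_true hb)) (Nat.ne_of_beq_eq_false hb')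
          | exact absurd (key.2 (Nat.eq_of_beq_eq_true hb')) (Nat.ne_of_beq_eq_false hb)
  -- it can be moved to a representative
  have horb : ∀ k, k < N.m → ∀ p : Fin T.n, (p : ℕ) = field N.pts 128 20 k →
      ∃ g : G, (∀ e ∈ pre, A.rep g (x e.1) = x e.1) ∧ ∃ L ∈ N.roots, (A.rep g p : ℕ) = pw T L := by
    intro k
    induction k using Nat.strong_induction_on with
    | _ k ih =>
      intro hk p hp'
      have h := hm k hk
      unfold chkMember at h
      cases hb : Nat.blt k N.roots.length
      · rw [hb, cond_false] at h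
        simp only [Bool.and_eq_true] at h
        obtain ⟨⟨⟨hpar, hvia⟩, hlt⟩, hfol⟩ := h
        have hpar : field N.par 128 20 k < k := Nat.le_of_ble_eq_true hpar
        have hvia : field N.via 128 20 k < N.ws.length := Nat.le_of_ble_eq_true hvia
        obtain ⟨W, hW⟩ : ∃ W, W = N.ws.getD (field N.via 128 20 k) [] := ⟨_, rfl⟩
        have hWmem : W ∈ N.ws := by
          rw [hW, List.getD_eq_getElem _ _ hvia]; exact List.getElem_mem _
        obtain ⟨hWl, hWfix⟩ := hws W hWmem
        have hWl := of_letters hWl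
        have hfol := Nat.eq_of_beq_eq_true hfol
        rw [← hW] at hfol
        obtain ⟨p', hpp⟩ : ∃ p' : Fin T.n, p' = A.rep (wprod A.gen W) p := ⟨_, rfl⟩
        have hp'' : (p' : ℕ) = field N.pts 128 20 (field N.par 128 20 k) := by
          have h := A.follow_mem hWl ⟨_, Nat.le_of_ble_eq_true hlt⟩
          rw [hfol, ← hp'] at h
          have h := Fin.ext h
          rw [hpp, h, map_inv, ← Equiv.Perm.mul_apply, mul_inv_cancel, Equiv.Perm.one_apply]
        obtain ⟨g, hg, L, hL, hgL⟩ := ih _ hpar (hpar.trans hk) p' hp''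
        refine ⟨g * wprod A.gen W, fun e he => ?_, L, hL, ?_⟩
        · rw [map_mul, Equiv.Perm.mul_apply]
          have h1 := Nat.eq_of_beq_eq_true (hWfix e he)
          rw [← hxp e he] at h1
          have h2 := A.follow_mem hWl (x e.1)
          rw [h1, map_inv] at h2
          have h3 : A.rep (wprod A.gen W) (x e.1) = x e.1 := by
            conv_lhs => rw [Fin.ext h2, ← Equiv.Perm.mul_apply, mul_inv_cancel, Equiv.Perm.one_apply]
          rw [h3, hg e he]
        · rw [map_mul, Equiv.Perm.mul_apply, ← hpp, hgL]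
      · rw [hb, cond_true] at h
        refine ⟨1, fun e _ => by rw [map_one, Equiv.Perm.one_apply], N.roots.getD k [], ?_, ?_⟩
        · rw [List.getD_eq_getElem _ _ (Nat.le_of_ble_eq_true hb)]; exact List.getElem_mem _
        · rw [map_one, Equiv.Perm.one_apply, hp', Nat.eq_of_beq_eq_true h]
  have hy := hp _ (x N.idx).2
  simp only [chkPoint, hc, Bool.not_true, Bool.false_or, Bool.and_eq_true] at hy
  obtain ⟨hy1, hy2⟩ := hy
  obtain ⟨g, hg, L, hL, hgL⟩ := horb _ (Nat.le_of_ble_eq_true hy1) (x N.idx)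
    (Nat.eq_of_beq_eq_true hy2).symm
  obtain ⟨g', t, ht, hg'⟩ := hsub L hL (fun i => A.rep g (x i)) (Pat.conj A hx g) (by
    intro e he
    rcases List.mem_append.1 he with he | he
    · rw [hg e he, hxp e he]
    · rw [List.mem_singleton.1 he]; exact hgL)
  exact ⟨g' * g, t, ht, fun i hi => by rw [map_mul, Equiv.Perm.mul_apply]; exact hg' i hi⟩

end CfsgLib.KnownA.FischerOut
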