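import Cfsg.Agent.Lib.KnownA.FischerOut.T22Pair
import Cfsg.Agent.Lib.Trans3.Fi.TwoPair22

/-!
The automorphism group of the presented Fi22 acting on the 3510 transpositions, and the action of
the centraliser of the product of the transpositions of the letters 3 and 8 on the 45 hexads.
-/

set_option autoImplicit false
set_option maxRecDepth 100000
set_option linter.unusedSectionVars false

namespace CfsgLib.KnownA.FischerOut.T22Aut

open CfsgLib.InvChar CfsgLib.InvChar.Coset Cfsg.Spor
open T22 (act hStd)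
open T22Pair

local notation "g₃" => (SporFi22.gen 3 : Fi22)
local notation "g₈" => (SporFi22.gen 8 : Fi22)
local notation "D₀" => conjugatesOf (SporFi22.gen 0 : Fi22)
local notation "Pt" => Fin FiA.table.n

local instance : Finite Fi22 := SporFi22.card_le.1

theorem d_mem (i : Pt) : act.d i ∈ D₀ := isConj_iff.2 ⟨(act.trans i).choose, rfl⟩

theorem mem_conj {d : Fi22} (hd : d ∈ D₀) : ∃ i : Pt, act.d i = d := by
  obtain ⟨u, rfl⟩ := isConj_iff.1 hd
  exact ⟨act.rep u act.o, act.d_eq u⟩

/-- The diagram automorphism. -/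
noncomputable def tau : MulAut Fi22 := T22.exists_tau.choose

theorem tau_spec : ∀ x < 9, tau (SporFi22.gen x) = wprod SporFi22.gen (T22.tauW x) :=
  T22.exists_tau.choose_spec

theorem aut_d (φ : MulAut Fi22) (i : Pt) : ∃ q : Pt, φ (act.d i) = act.d q := by
  obtain ⟨g, rfl | rfl⟩ := decompose tau_spec φ
  · exact ⟨act.rep g i, act.conj_d g i⟩
  · exact ⟨act.rep g (T22.piP i), by rw [MulAut.mul_apply, tau_d tau_spec]; exact act.conj_d g _⟩

/-- An automorphism on a point. -/
noncomputable def amove (φ : MulAut Fi22) (i : Pt) : Pt := (aut_d φ i).choose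

theorem d_amove (φ : MulAut Fi22) (i : Pt) : act.d (amove φ i) = φ (act.d i) :=
  (aut_d φ i).choose_spec.symm

theorem amove_mul (φ ψ : MulAut Fi22) (i : Pt) : amove (φ * ψ) i = amove φ (amove ψ i) :=
  act.d_injective (by rw [d_amove, d_amove, d_amove]; rfl)

theorem amove_one (i : Pt) : amove 1 i = i := act.d_injective (by rw [d_amove]; rfl)

theorem amove_conj (g : Fi22) (i : Pt) : amove (MulAut.conj g) i = SporFi22.rep g i :=
  act.d_injective (by rw [d_amove]; exact act.conj_d g i)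

theorem amove_tau (i : Pt) : amove tau i = T22.piP i :=
  act.d_injective (by rw [d_amove, tau_d tau_spec])

theorem amove_injective (φ : MulAut Fi22) : Function.Injective (amove φ) := fun i j e =>
  act.d_injective (φ.injective (by rw [← d_amove, ← d_amove, e]))

/-- The element whose permutation is a word read from the left. -/
noncomputable def wel (L : List ℕ) : Fi22 := wprod SporFi22.gen L.reverse

theorem amove_wel {L : List ℕ} (hL : ∀ x ∈ L, x < 9) (i : Pt) :
    (amove (MulAut.conj (wel L)) i : ℕ) = FiA.table.follow L i := by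
  rw [amove_conj, act.follow_mem hL, wel, show wprod SporFi22.gen L.reverse = (wprod SporFi22.gen L)⁻¹ from
    act.wprod_reverse L]
  rfl

/-- The nine points of the generators. -/
def std9 : List ℕ := [0, 2, 6, 16, 40, 88, 154, 43, 92]

theorem std9_eq : allFrom (fun x => Nat.beq (pw FiA.table (T22.std.getD x [])) (std9.getD x 0) &&
    Nat.blt (std9.getD x 0) 3510) 0 9 = true := by decide +kernel

theorem point_gen (x : ℕ) (hx : x < 9) : ∃ p : Pt, (p : ℕ) = std9.getD x 0 ∧ act.d p = SporFi22.gen x := by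
  have h := allFrom_get _ std9_eq x (Nat.zero_le _) (by omega)
  rw [Bool.and_eq_true] at h
  refine ⟨⟨std9.getD x 0, Nat.le_of_ble_eq_true h.2⟩, rfl, (hStd x ?_).2 _ ?_⟩
  · exact hx
  · exact (Nat.eq_of_beq_eq_true h.1).symm

/-- Automorphisms agreeing on the nine points are equal. -/
theorem aut_ext {φ ψ : MulAut Fi22} (h : ∀ p : Pt, (p : ℕ) ∈ std9 → amove φ p = amove ψ p) : φ = ψ := by
  refine MulEquiv.toMonoidHom_injective (MonoidHom.eq_of_eqOn_dense SporFi22.closure_gen ?_)
  rintro _ ⟨x, hx, rfl⟩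
  obtain ⟨p, hp, hd⟩ := point_gen x hx
  have hm : (p : ℕ) ∈ std9 := by
    rw [hp, List.getD_eq_getElem std9 0 (show x < std9.length from hx)]
    exact List.getElem_mem _
  show φ (SporFi22.gen x) = ψ (SporFi22.gen x)
  rw [← hd, ← d_amove, ← d_amove, h p hm]

variable (hD : Cfsg.IsThreeTranspositionGroup (conjugatesOf (SporFi22.gen 0 : Fi22)))
variable (hP : Cfsg.IsPrimitiveUnderConj (conjugatesOf (SporFi22.gen 0 : Fi22)))
variable (h : Cfsg.IsOfTypeM22 Fi22 (conjugatesOf (SporFi22.gen 0 : Fi22)))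

/-- The centraliser of the pair product in the automorphism group. -/
def CA : Subgroup (MulAut Fi22) where
  carrier := {a | a (g₃ * g₈) = g₃ * g₈}
  one_mem' := rfl
  mul_mem' := fun {a b} ha hb => by
    show a (b (g₃ * g₈)) = g₃ * g₈
    rw [show b (g₃ * g₈) = g₃ * g₈ from hb]; exact ha
  inv_mem' := fun {a} ha => by
    show a⁻¹ (g₃ * g₈) = g₃ * g₈
    conv_lhs => rw [← show a (g₃ * g₈) = g₃ * g₈ from ha]
    exact MulAut.inv_apply_self _ _ _

/-- The centraliser of the pair product. -/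
def Cz : Subgroup Fi22 := Subgroup.centralizer ({g₃ * g₈} : Set Fi22)

theorem mem_Cz (x : Fi22) : x ∈ Cz ↔ Commute x (g₃ * g₈) := Subgroup.mem_centralizer_singleton_iff

theorem conj_mem_CA (g : Fi22) : MulAut.conj g ∈ CA ↔ g ∈ Cz := by
  rw [mem_Cz]
  show g * (g₃ * g₈) * g⁻¹ = g₃ * g₈ ↔ _
  rw [mul_inv_eq_iff_eq_mul]
  rfl

theorem tau_mem_CA : tau ∈ CA := by
  show tau (g₃ * g₈) = g₃ * g₈
  rw [map_mul, tau_zero tau_spec 3 (by omega) (by omega), tau_zero tau_spec 8 (by omega) (by omega)]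

theorem CA_dec {a : MulAut Fi22} (ha : a ∈ CA) :
    ∃ g ∈ Cz, a = MulAut.conj g ∨ a = MulAut.conj g * tau := by
  obtain ⟨g, e | e⟩ := decompose tau_spec a
  · exact ⟨g, (conj_mem_CA g).1 (e ▸ ha), Or.inl e⟩
  · exact ⟨g, (conj_mem_CA g).1 (by
      rw [show MulAut.conj g = a * tau⁻¹ by rw [e, mul_inv_cancel_right]]
      exact mul_mem ha (inv_mem tau_mem_CA)), Or.inr e⟩

include hD hP h

theorem pair_nbr : g₃ ∈ D₀ ∧ g₈ ∈ CfsgLib.Trans3.Fi.nbrs D₀ g₃ := by
  obtain ⟨a, b, hne, hc⟩ := pair_facts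
  exact ⟨a, b, hne, hc⟩

/-- A member of the centraliser fixes or swaps the pair. -/
theorem CA_pair {a : MulAut Fi22} (ha : a ∈ CA) :
    (a g₃ = g₃ ∧ a g₈ = g₈) ∨ (a g₃ = g₈ ∧ a g₈ = g₃) := by
  obtain ⟨h₁, n₂⟩ := pair_nbr hD hP h
  obtain ⟨g, hg, e | e⟩ := CA_dec ha <;>
    rcases CfsgLib.Trans3.Fi.m22_pair_cases hD hP h h₁ n₂ ((mem_Cz g).1 hg) with ⟨u, v⟩ | ⟨u, v⟩ <;>
    rw [e] <;>
    simp [MulAut.mul_apply, tau_zero tau_spec 3 (by omega) (by omega),
      tau_zero tau_spec 8 (by omega) (by omega), MulAut.conj_apply, u, v]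

omit hD hP h in
theorem common_commute (i : Pt) : Common i ↔
    (Commute (act.d i) g₃ ∧ Commute (act.d i) g₈ ∧ act.d i ≠ g₃ ∧ act.d i ≠ g₈) := by
  constructor
  · rintro ⟨a, b, c, d⟩
    have q3 : Commute (act.d p₃) (act.d i) := (act.commute_iff _ _).2 (by rw [d_three]; exact a)
    have q8 : Commute (act.d p₈) (act.d i) := (act.commute_iff _ _).2 (by rw [d_eight]; exact b)
    exact ⟨d_three ▸ q3.symm, d_eight ▸ q8.symm, fun e => c (act.d_injective (e.trans d_three.symm)),
      fun e => d (act.d_injective (e.trans d_eight.symm))⟩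
  · rintro ⟨a, b, c, d⟩
    refine ⟨?_, ?_, fun e => c (e ▸ d_three), fun e => d (e ▸ d_eight)⟩
    · have := (act.commute_iff p₃ i).1 (d_three.symm ▸ a.symm)
      rwa [d_three] at this
    · have := (act.commute_iff p₈ i).1 (d_eight.symm ▸ b.symm)
      rwa [d_eight] at this

theorem common_amove {a : MulAut Fi22} (ha : a ∈ CA) {i : Pt} (hi : Common i) : Common (amove a i) := by
  rw [common_commute] at hi ⊢
  obtain ⟨p, q, r, s⟩ := hi
  rw [d_amove]
  have p' : Commute (a (act.d i)) (a g₃) := p.map a.toMonoidHom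
  have q' : Commute (a (act.d i)) (a g₈) := q.map a.toMonoidHom
  have r' : a (act.d i) ≠ a g₃ := fun e => r (a.injective e)
  have s' : a (act.d i) ≠ a g₈ := fun e => s (a.injective e)
  rcases CA_pair hD hP h ha with ⟨e1, e2⟩ | ⟨e1, e2⟩ <;> rw [e1] at p' r' <;> rw [e2] at q' s'
  · exact ⟨p', q', r', s'⟩
  · exact ⟨q', p', s', r'⟩

theorem sigEq_amove {a : MulAut Fi22} (ha : a ∈ CA) {i j : Pt} (hs : SigEq i j) :
    SigEq (amove a i) (amove a j) := by
  intro z hz
  have e : z = amove a (amove a⁻¹ z) := by rw [← amove_mul, mul_inv_cancel, amove_one]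
  have key : ∀ u v : Pt, Commute (act.d (amove a u)) (act.d (amove a v)) ↔ Commute (act.d u) (act.d v) :=
    fun u v => by
      rw [d_amove, d_amove]
      exact ⟨fun c => Commute.of_map (f := a.toMonoidHom) a.injective c, fun c => c.map a.toMonoidHom⟩
  rw [e, key, key]
  exact hs _ (common_amove hD hP h (inv_mem ha) hz)

/-- The map on hexads of a member of the centraliser. -/
noncomputable def hmove (a : ↥CA) (c : Fin 45) : Fin 45 :=
  ⟨cls (amove (a : MulAut Fi22) (rpt c)), cls_lt (common_amove hD hP h a.2 (rpt_common c))⟩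

theorem hmove_cls (a : ↥CA) {i : Pt} (hi : Common i) :
    (hmove hD hP h a ⟨cls i, cls_lt hi⟩ : ℕ) = cls (amove (a : MulAut Fi22) i) :=
  (sigEq_iff (common_amove hD hP h a.2 (rpt_common _)) (common_amove hD hP h a.2 hi)).1
    (sigEq_amove hD hP h a.2 ((sigEq_iff (rpt_common _) hi).2 (cls_rpt _)))

theorem hmove_one (c : Fin 45) : hmove hD hP h 1 c = c :=
  Fin.ext (by simp [hmove, amove_one, cls_rpt])

theorem hmove_mul (a b : ↥CA) (c : Fin 45) : hmove hD hP h (a * b) c = hmove hD hP h a (hmove hD hP h b c) := by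
  refine Fin.ext ?_
  show cls (amove ((a * b : ↥CA) : MulAut Fi22) (rpt c)) = _
  rw [Subgroup.coe_mul, amove_mul, ← hmove_cls hD hP h a (common_amove hD hP h b.2 (rpt_common c))]
  rfl

/-- The action on hexads. -/
noncomputable def chi : ↥CA →* Equiv.Perm (Fin 45) where
  toFun a := ⟨hmove hD hP h a, hmove hD hP h a⁻¹,
    fun c => by rw [← hmove_mul, inv_mul_cancel, hmove_one],
    fun c => by rw [← hmove_mul, mul_inv_cancel, hmove_one]⟩
  map_one' := Equiv.ext (hmove_one hD hP h)
  map_mul' a b := Equiv.ext (hmove_mul hD hP h a b)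

theorem chi_apply (a : ↥CA) (c : Fin 45) :
    (chi hD hP h a c : ℕ) = cls (amove (a : MulAut Fi22) (rpt c)) := rfl

end CfsgLib.KnownA.FischerOut.T22Aut
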