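import Cfsg.Agent.Lib.KnownA.FischerOut.T22InvolCheck
import Cfsg.Agent.Lib.KnownA.FischerOut.T22FixData
import Cfsg.Agent.Lib.StructC.OrthCohomData

/-!
Kernel checks for the centralisers of the three representatives of the outer involutions of Fi22:
the three classes of the 360 fixed points and their labels, the 36 pairs, and the orbit bounds along
a base of nine points.
-/

set_option autoImplicit false
set_option maxRecDepth 100000
set_option maxHeartbeats 4000000

namespace CfsgLib.KnownA.FischerOut.T22Fix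

open CfsgLib.InvChar.Coset
open CfsgLib.StructC
open T22Invol (tgApp)

/-- A listed point. -/
noncomputable def cp (k : ℕ) : ℕ := field cpts 128 20 k

/-- The place of a point. -/
noncomputable def cq (i : ℕ) : ℕ := field cpos 128 20 i

/-- Whether the diagram automorphism fixes a point. -/
noncomputable def fixB (i : ℕ) : Bool := Nat.beq (field T22.piT 128 20 i) i

/-- The permutations of the places by the ten generators. -/
noncomputable def cPerm (g k : ℕ) : ℕ := field cP 128 20 (g * 360 + k)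

theorem cp_rows : allFrom (fun k => Nat.blt (cp k) 3510 && fixB (cp k) && Nat.beq (cq (cp k)) k) 0 360 =
    true := by decide +kernel

theorem cq_rows : allFrom (fun i => !fixB i || (Nat.blt (cq i) 360 && Nat.beq (cp (cq i)) i)) 0 3510 =
    true := by decide +kernel

theorem tgt_rows : allFrom (fun i => beqB (Nat.beq (tgApp 1 i) i) (fixB i && Nat.blt (cq i) 64)) 0 3510 =
    true := by decide +kernel

theorem tgt2_rows : allFrom (fun i => beqB (Nat.beq (tgApp 2 i) i) (pts2.any (Nat.beq i))) 0 3510 = true := by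
  decide +kernel

theorem pts2_nodup : pts2.Nodup ∧ pts2.length = 72 := by decide +kernel

/-- The checks of a generator. -/
noncomputable def chkGen (g : ℕ) : Bool :=
  letters 9 (cS.getD g []) &&
  (T22Invol.std9.all fun p => Nat.beq (FiA.table.follow (cS.getD g []) (field T22.piT 128 20 p))
    (field T22.piT 128 20 (FiA.table.follow (cS.getD g []) p))) &&
  allFrom (fun k => Nat.blt (cPerm g k) 360 && Nat.beq (FiA.table.follow (cS.getD g []) (cp k)) (cp (cPerm g k)) &&
    Nat.beq (cPerm g k / 120) (cPerm g (k / 120 * 120) / 120) &&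
    (!(Nat.blt g 9 && Nat.blt k 120) || Nat.blt (cPerm g k) 120)) 0 360

theorem gen_rows : allFrom chkGen 0 10 = true := by decide +kernel

theorem gen_swap : (Nat.beq (cPerm 9 0 / 120) 2 && Nat.beq (cPerm 3 (cPerm 9 0) / 120) 1) = true := by
  decide +kernel

theorem orbit_rows : allFrom (fun k => (Nat.beq (cDepth.getD k 0) 0 && Nat.beq k 0) ||
    (Nat.blt (cVia.getD k 9) 9 && Nat.blt (cPar.getD k 120) 120 &&
      Nat.beq (cDepth.getD (cPar.getD k 120) 0 + 1) (cDepth.getD k 0) &&
      Nat.beq (cPerm (cVia.getD k 9) (cPar.getD k 120)) k)) 0 120 = true := by decide +kernel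

theorem lab8_spec : lab8.length = 120 ∧ lab8.Nodup ∧
    (∀ v ∈ lab8, v < 256 ∧ Cfsg.quadFormPlus 4 (ZMod 2) (OrthCohom.dec OrthCohom.eEight v) = 1) ∧
    (∀ v < 256, Cfsg.quadFormPlus 4 (ZMod 2) (OrthCohom.dec OrthCohom.eEight v) = 1 → v ∈ lab8) ∧
    ∀ i < 8, ∃ a ∈ lab8, ∃ b ∈ lab8, a ^^^ b = 2 ^ i := by decide +kernel

theorem refl8 : allFrom (fun g => allFrom (fun k =>
    Nat.beq (OrthCohom.act (els8.getD (g + 1) ([], 0, 0)).1 (lab8.getD k 0)) (lab8.getD (cPerm g k) 0))
    0 120) 0 9 = true := by decide +kernel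

theorem els8_base : 10 ≤ els8.length ∧ (els8.getD 0 ([], 0, 0)).1 = OrthCohom.idL 8 ∧
    ∀ g < 9, OrthCohom.IsIso OrthCohom.eEight (Cfsg.quadFormPlus 4 (ZMod 2)) (els8.getD (g + 1) ([], 0, 0)).1
      (els8.getD (g + 1) ([], 0, 0)).1 := by decide +kernel

theorem els8_prod : ∀ k < els8.length, (els8.getD k ([], 0, 0)).1.length = 8 ∧ (10 ≤ k →
    (els8.getD k ([], 0, 0)).2.1 < k ∧ (els8.getD k ([], 0, 0)).2.2 < k ∧
    (els8.getD k ([], 0, 0)).1 = OrthCohom.mulL (els8.getD (els8.getD k ([], 0, 0)).2.1 ([], 0, 0)).1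
      (els8.getD (els8.getD k ([], 0, 0)).2.2 ([], 0, 0)).1) := by decide +kernel

theorem tab8_ok : ∀ i < 8, OrthCohom.TableOK OrthCohom.eEight (Cfsg.quadFormPlus 4 (ZMod 2)) els8 (tab8.getD i []) i := by
  decide +kernel

/-- The letters along the base. -/
def chainLetters : List ℕ := [3, 8, 0, 1, 5, 2, 4, 6, 7]

/-- The points along the base. -/
def chainPts : List ℕ := [16, 92, 0, 2, 88, 6, 40, 154, 43]

/-- The candidates for the image of a base point. -/
noncomputable def chainQ (k y : ℕ) : Bool :=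
  beqB (fixB y) (fixB (chainPts.getD k 0)) &&
  allFrom (fun j => !Nat.beq y (chainPts.getD j 0) &&
    beqB (Nat.beq (FiA.table.follow [chainLetters.getD j 0] y) y)
      (Nat.beq (FiA.table.follow [chainLetters.getD j 0] (chainPts.getD k 0)) (chainPts.getD k 0))) 0 k

/-- The numbers of candidates. -/
def chainN : List ℕ := [360, 63, 30, 16, 6, 4, 2, 1, 4]

theorem chain_count : ∀ k < 9, ((List.range 3510).filter (chainQ k)).length = chainN.getD k 0 := by
  decide +kernel

theorem chain_fix : ∀ j < 8, fixB (chainPts.getD j 0) = true := by decide +kernel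

/-- The element of a listed word at a point. -/
noncomputable def conA (i x : ℕ) : ℕ := FiA.table.follow (pal (wA.getD i [])) x

theorem wA_rows : allFrom (fun i => letters 9 (wA.getD i []) && Nat.beq (pw FiA.table (wA.getD i [])) (cp i) &&
    Nat.beq (FiA.table.follow [3] (cp i)) (cp i) &&
    (Nat.beq i 0 || !allFrom (fun j => Nat.beq (conA i (cp j)) (cp j)) 0 64) &&
    (Nat.beq i 0 || Nat.beq (cq (conA i (cp 120)) / 120) 2)) 0 64 = true := by decide +kernel

/-- Coordinates on the quotient of the orthogonal space of the first label. -/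
def proj6 (v : ℕ) : ℕ := v % 8 + 8 * (v / 16 % 8)

/-- The coded symplectic form. -/
def bil6 (u v : ℕ) : Bool := xor (xor (u.testBit 0 && v.testBit 3) (u.testBit 3 && v.testBit 0))
  (xor (xor (u.testBit 1 && v.testBit 4) (u.testBit 4 && v.testBit 1))
    (xor (u.testBit 2 && v.testBit 5) (u.testBit 5 && v.testBit 2)))

/-- The coded transvection. -/
def trans6 (u v : ℕ) : ℕ := bif bil6 v u then v ^^^ u else v

theorem lab63 : ((List.range 63).map fun i => proj6 (lab8.getD (i + 1) 0)).Nodup ∧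
    ∀ i < 63, proj6 (lab8.getD (i + 1) 0) ≠ 0 := by decide +kernel

theorem refl63 : allFrom (fun i => allFrom (fun j =>
    force (cq (conA i (cp j))) fun k => Nat.blt k 64 && !Nat.beq k 0 && Nat.beq (cp k) (conA i (cp j)) &&
      Nat.beq (proj6 (lab8.getD k 0)) (trans6 (proj6 (lab8.getD i 0)) (proj6 (lab8.getD j 0))))
    1 63) 1 63 = true := by decide +kernel

theorem three_fixes : allFrom (fun j => Nat.beq (FiA.table.follow [3] (cp j)) (cp j)) 0 64 = true := by
  decide +kernel

/-- The element of a listed word at a point. -/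
noncomputable def conB (i x : ℕ) : ℕ := FiA.table.follow (pal (wB.getD i [])) x

theorem wB_rows : allFrom (fun i => letters 9 (wB.getD i []) && Nat.beq (pw FiA.table (wB.getD i []))
    (pts2.getD i 3510)) 0 72 = true := by decide +kernel

theorem partner_rows : allFrom (fun i => !allFrom (fun j =>
    beqB (Nat.beq (conB i (pts2.getD j 0)) (pts2.getD j 0))
      (Nat.beq (FiA.table.follow [3] (pts2.getD j 0)) (pts2.getD j 0))) 0 72) 2 70 = true := by decide +kernel

theorem partner_ab : allFrom (fun j => beqB (Nat.beq (conB 1 (pts2.getD j 0)) (pts2.getD j 0))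
      (Nat.beq (FiA.table.follow [3] (pts2.getD j 0)) (pts2.getD j 0))) 0 72 = true := by decide +kernel

theorem pts2_start : pts2.getD 0 0 = 16 ∧ pts2.getD 1 0 = 92 := by decide +kernel

theorem refl6 : allFrom (fun i => allFrom (fun j =>
    force (pts2.idxOf (conB i (pts2.getD j 0))) fun k => Nat.blt k 72 &&
      Nat.beq (lab6.getD (k / 2) 0) (OrthCohom.act (els6.getD (i / 2 + 1) ([], 0, 0)).1 (lab6.getD (j / 2) 0)))
    0 72) 0 72 = true := by decide +kernel

theorem lab6_spec : lab6.length = 36 ∧ lab6.Nodup ∧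
    (∀ v ∈ lab6, v < 64 ∧ Cfsg.quadFormMinus 2 (ZMod 2) 1 1 (OrthCohom.dec OrthCohom.eSix v) = 1) ∧
    (∀ v < 64, Cfsg.quadFormMinus 2 (ZMod 2) 1 1 (OrthCohom.dec OrthCohom.eSix v) = 1 → v ∈ lab6) ∧
    ∀ i < 6, ∃ a ∈ lab6, ∃ b ∈ lab6, a ^^^ b = 2 ^ i := by decide +kernel

theorem els6_base : 37 ≤ els6.length ∧ (els6.getD 0 ([], 0, 0)).1 = OrthCohom.idL 6 ∧
    ∀ g < 36, OrthCohom.IsIso OrthCohom.eSix (Cfsg.quadFormMinus 2 (ZMod 2) 1 1) (els6.getD (g + 1) ([], 0, 0)).1
      (els6.getD (g + 1) ([], 0, 0)).1 := by decide +kernel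

theorem els6_prod : ∀ k < els6.length, (els6.getD k ([], 0, 0)).1.length = 6 ∧ (37 ≤ k →
    (els6.getD k ([], 0, 0)).2.1 < k ∧ (els6.getD k ([], 0, 0)).2.2 < k ∧
    (els6.getD k ([], 0, 0)).1 = OrthCohom.mulL (els6.getD (els6.getD k ([], 0, 0)).2.1 ([], 0, 0)).1
      (els6.getD (els6.getD k ([], 0, 0)).2.2 ([], 0, 0)).1) := by decide +kernel

theorem tab6_ok : ∀ i < 6, OrthCohom.TableOK OrthCohom.eSix (Cfsg.quadFormMinus 2 (ZMod 2) 1 1) els6 (tab6.getD i []) i := by
  decide +kernel

theorem perp6 : ∀ i < 36, ∀ k < 36, k ≠ i → ∃ j < 36,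
    OrthCohom.act (els6.getD (j + 1) ([], 0, 0)).1 (lab6.getD i 0) = lab6.getD i 0 ∧
    OrthCohom.act (els6.getD (j + 1) ([], 0, 0)).1 (lab6.getD k 0) ≠ lab6.getD k 0 := by decide +kernel

/-- The word of the product of the transpositions of a pair. -/
noncomputable def pairW (c : ℕ) : List ℕ := pal (wB.getD (2 * c) []) ++ pal (wB.getD (2 * c + 1) [])

/-- The word of a member of the radical. -/
noncomputable def radW (m : ℕ) : List ℕ :=
  ((List.range 6).map fun b => bif m.testBit b then pairW (bas6.getD b 0) else []).flatten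

theorem pair_trivial : ∀ b < 6, bas6.getD b 0 < 36 ∧ (∀ j < 72,
    pts2.idxOf (conB (2 * bas6.getD b 0 + 1) (conB (2 * bas6.getD b 0) (pts2.getD j 0))) / 2 = j / 2) ∧
    (∀ p ∈ T22Invol.std9, FiA.table.follow (pairW (bas6.getD b 0) ++ pairW (bas6.getD b 0)) p = p) ∧
    ∀ c < 6, ∀ p ∈ T22Invol.std9, FiA.table.follow (pairW (bas6.getD b 0) ++ pairW (bas6.getD c 0)) p =
      FiA.table.follow (pairW (bas6.getD c 0) ++ pairW (bas6.getD b 0)) p := by decide +kernel

theorem rad_distinct : ((List.range 64).map fun m => sep6.map fun s =>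
    FiA.table.follow (radW m) (pts2.getD s 0)).Nodup := by decide +kernel

end CfsgLib.KnownA.FischerOut.T22Fix
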