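import Cfsg.Agent.Lib.KnownA.FischerOut.T22Invol
import Cfsg.Agent.Lib.KnownA.FischerOut.T22FixCheck

/-!
The subgroups fixed by the three representatives of the outer involutions of the presented Fi22:
first properties, and upper bounds for their orders along a base of nine transpositions.
-/

set_option autoImplicit false
set_option maxRecDepth 100000
set_option linter.unusedSectionVars false

namespace CfsgLib.KnownA.FischerOut.T22Fix

open CfsgLib.InvChar CfsgLib.InvChar.Coset Cfsg.Spor
open T22 (act)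
open T22Aut T22Invol CfsgLib.Trans3.Fi

local instance : Finite Fi22 := SporFi22.card_le.1

local notation "g₃" => (SporFi22.gen 3 : Fi22)
local notation "g₈" => (SporFi22.gen 8 : Fi22)
local notation "D₀" => conjugatesOf (SporFi22.gen 0 : Fi22)
local notation "Pt" => Fin FiA.table.n
local notation "τ₀" => T22Aut.tau

theorem eq_of_and {a b : Bool} (h : (a && b) = true) : a = true ∧ b = true := Bool.and_eq_true_iff.1 h

/-- The subgroup fixed by an automorphism. -/
def fixG (φ : MulAut Fi22) : Subgroup Fi22 where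
  carrier := {g | φ g = g}
  one_mem' := map_one φ
  mul_mem' := fun {a b} (ha : φ a = a) (hb : φ b = b) => show φ (a * b) = a * b by rw [map_mul, ha, hb]
  inv_mem' := fun {a} (ha : φ a = a) => show φ a⁻¹ = a⁻¹ by rw [map_inv, ha]

theorem mem_fixG {φ : MulAut Fi22} {g : Fi22} : g ∈ fixG φ ↔ φ g = g := Iff.rfl

theorem d_mem_fixG {φ : MulAut Fi22} {i : Pt} (h : amove φ i = i) : act.d i ∈ fixG φ :=
  (d_amove φ i).symm.trans (by rw [h])

theorem amove_rep {φ : MulAut Fi22} {g : Fi22} (hg : g ∈ fixG φ) {i : Pt} (hi : amove φ i = i) :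
    amove φ (SporFi22.rep g i) = SporFi22.rep g i :=
  act.d_injective (by
    rw [d_amove, show act.d (SporFi22.rep g i) = g * act.d i * g⁻¹ from (act.conj_d g i).symm, map_mul,
      map_mul, map_inv, mem_fixG.1 hg, mem_fixG.1 (d_mem_fixG hi)])

theorem commute_conj {φ : MulAut Fi22} {g : Fi22} (hg : g ∈ fixG φ) : Commute φ (MulAut.conj g) :=
  MulEquiv.ext fun x => by
    simp only [MulAut.mul_apply, MulAut.conj_apply, map_mul, map_inv, mem_fixG.1 hg]

theorem rep_wel {L : List ℕ} (hL : ∀ x ∈ L, x < 9) (i : Pt) :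
    (SporFi22.rep (wel L) i : ℕ) = FiA.table.follow L i := by
  rw [← amove_conj]; exact amove_wel hL i

theorem d_point {L : List ℕ} (hL : ∀ x ∈ L, x < 9) {i : Pt} (hi : (i : ℕ) = pw FiA.table L) :
    act.d i = wel (pal L) := by
  rw [act.d_pw (L := L) hL hi, wel, show (pal L).reverse = pal L by simp [pal]]
  rfl

theorem pal_lt9 {L : List ℕ} (hL : ∀ x ∈ L, x < 9) : ∀ x ∈ pal L, x < 9 := by
  intro x hx
  simp only [pal, List.mem_append, List.mem_reverse, List.mem_cons] at hx
  rcases hx with hx | rfl | hx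
  exacts [hL x hx, by omega, hL x hx]

theorem std9_lt : ∀ p ∈ T22Aut.std9, p < 3510 := by decide

theorem amove_tau_val (i : Pt) : (amove τ₀ i : ℕ) = field T22.piT 128 20 i := by rw [amove_tau]; rfl

theorem fixB_iff (i : Pt) : fixB i = true ↔ amove τ₀ i = i := by
  rw [Fin.ext_iff, amove_tau_val]
  exact ⟨fun h => Nat.eq_of_beq_eq_true h, fun h => by rw [fixB, h]; exact Nat.beq_refl _⟩

/-- The transposition of the letter 3 as a word. -/
theorem g_three : g₃ = wel [3] := by simp [wel, wprod]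

variable (hD : Cfsg.IsThreeTranspositionGroup (conjugatesOf (SporFi22.gen 0 : Fi22)))
variable (hP : Cfsg.IsPrimitiveUnderConj (conjugatesOf (SporFi22.gen 0 : Fi22)))
variable (h : Cfsg.IsOfTypeM22 Fi22 (conjugatesOf (SporFi22.gen 0 : Fi22)))
include hD hP h

theorem mem_fixG_of_commute {φ : MulAut Fi22} {g : Fi22} (hc : Commute φ (MulAut.conj g)) : g ∈ fixG φ := by
  refine conj_inj hD hP h ?_
  rw [← TwoPairOuter.conj_mulAut, hc.eq, mul_inv_cancel_right]

theorem wel_mem_fixG {φ : MulAut Fi22} {L : List ℕ}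
    (hq : ∀ p : Pt, (p : ℕ) ∈ T22Aut.std9 →
      amove φ (amove (MulAut.conj (wel L)) p) = amove (MulAut.conj (wel L)) (amove φ p)) :
    wel L ∈ fixG φ :=
  mem_fixG_of_commute hD hP h (aut_ext fun p hp => by rw [amove_mul, amove_mul]; exact hq p hp)

omit hD hP h in
theorem target_outer (j : ℕ) (g : Fi22) : target j ≠ MulAut.conj g := fun e => by
  obtain ⟨u, hu⟩ : ∃ u, target j = τ₀ * MulAut.conj u := ⟨_, rfl⟩
  refine T22Invol.tau_ne_inner (g * u⁻¹) ?_
  rw [map_mul, map_inv, ← e, hu, mul_inv_cancel_right]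

omit hD hP h in
theorem tg_std : (List.range 3).all (fun j => T22Aut.std9.all fun p =>
    Nat.beq (tgApp j (tgApp j p)) p) = true := by decide +kernel

omit hD hP h in
theorem target_sq (j : ℕ) (hj : j < 3) : target j * target j = 1 := by
  refine aut_ext fun p hp => Fin.ext ?_
  rw [amove_mul, target_amove j hj, target_amove j hj, amove_one]
  exact Nat.eq_of_beq_eq_true
    (List.all_eq_true.1 (List.all_eq_true.1 tg_std j (List.mem_range.2 hj)) p hp)

omit hD hP h in
theorem target_order (j : ℕ) (hj : j < 3) : orderOf (target j) = 2 :=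
  orderOf_eq_prime (by rw [pow_two, target_sq j hj]) fun e => target_outer j 1 (by rw [e, map_one])

/-- The numbers of fixed points. -/
def supp : List ℕ := [360, 64, 72]

omit hD hP h in
theorem tg_count : ∀ j < 3, ((List.range 3510).filter fun i => Nat.beq (tgApp j i) i).length =
    supp.getD j 0 := by decide +kernel

omit hD hP h in
theorem card_fixed (j : ℕ) (hj : j < 3) : Nat.card {i : Pt // amove (target j) i = i} = supp.getD j 0 := by
  classical
  have hnd : ((List.range 3510).filter fun i => Nat.beq (tgApp j i) i).Nodup :=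
    List.nodup_range.filter _
  rw [← tg_count j hj, ← List.toFinset_card_of_nodup hnd, ← Nat.card_eq_finsetCard]
  refine Nat.card_congr ⟨fun i => ⟨(i.1 : ℕ), ?_⟩, fun k => ⟨⟨k.1, ?_⟩, ?_⟩, fun i => rfl, fun k => rfl⟩
  · rw [List.mem_toFinset, List.mem_filter, List.mem_range, ← target_amove j hj, i.2]
    exact ⟨i.1.2, Nat.beq_refl _⟩
  · exact List.mem_range.1 (List.mem_filter.1 (List.mem_toFinset.1 k.2)).1
  · refine Fin.ext ?_
    rw [target_amove j hj]
    exact Nat.eq_of_beq_eq_true (List.mem_filter.1 (List.mem_toFinset.1 k.2)).2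

omit hD hP h in
theorem target_not_conj {i j : ℕ} (hi : i < 3) (hj : j < 3) (hne : i ≠ j) :
    ¬ IsConj (target i) (target j) := by
  intro e
  obtain ⟨c, hc⟩ := isConj_iff.1 e
  have hc' : c * target i = target j * c := by rw [← hc, inv_mul_cancel_right]
  have : Nat.card {p : Pt // amove (target i) p = p} = Nat.card {p : Pt // amove (target j) p = p} := by
    refine Nat.card_congr (Equiv.subtypeEquiv
      (Equiv.ofBijective (amove c) (Finite.injective_iff_bijective.1 (amove_injective c))) fun p => ?_)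
    show amove (target i) p = p ↔ amove (target j) (amove c p) = amove c p
    rw [← amove_mul, ← hc', amove_mul]
    exact ⟨fun e => by rw [e], fun e => amove_injective c e⟩
  rw [card_fixed i hi, card_fixed j hj] at this
  exact (by decide : ∀ i < 3, ∀ j < 3, supp.getD i 0 = supp.getD j 0 → i = j) i hi j hj this |> hne

/-- The base points. -/
noncomputable def bpt (k : ℕ) : Pt :=
  if hk : chainPts.getD k 0 < FiA.table.n then ⟨_, hk⟩ else T22Pair.p₃

omit hD hP h in
theorem bpt_val (k : ℕ) (hk : k < 9) : (bpt k : ℕ) = chainPts.getD k 0 := by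
  rw [bpt, dif_pos ((by decide +kernel : ∀ k < 9, chainPts.getD k 0 < FiA.table.n) k hk)]

omit hD hP h in
theorem bpt_gen (k : ℕ) (hk : k < 9) :
    chainLetters.getD k 0 < 9 ∧ act.d (bpt k) = SporFi22.gen (chainLetters.getD k 0) := by
  obtain ⟨hx, e⟩ := (by decide +kernel : ∀ k < 9, chainLetters.getD k 0 < 9 ∧
    T22Aut.std9.getD (chainLetters.getD k 0) 0 = chainPts.getD k 0) k hk
  obtain ⟨p, hp, hd⟩ := point_gen _ hx
  exact ⟨hx, by rw [← hd]; congr 1; exact Fin.ext (by rw [bpt_val k hk, hp, e])⟩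

/-- The automorphisms centralising the diagram one and fixing the first `k` base points. -/
def stabk (k : ℕ) : Subgroup (MulAut Fi22) where
  carrier := {a | a * τ₀ = τ₀ * a ∧ ∀ j < k, amove a (bpt j) = bpt j}
  one_mem' := ⟨by rw [one_mul, mul_one], fun j _ => amove_one _⟩
  mul_mem' := fun {a b} ha hb =>
    ⟨(Commute.mul_left ha.1 hb.1 : Commute (a * b) τ₀), fun j hj => by
      rw [amove_mul, hb.2 j hj, ha.2 j hj]⟩
  inv_mem' := fun {a} ha =>
    ⟨(Commute.inv_left ha.1 : Commute a⁻¹ τ₀), fun j hj => by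
      conv_lhs => rw [← ha.2 j hj]
      rw [← amove_mul, inv_mul_cancel, amove_one]⟩

omit hD hP h in
theorem stabk_cand {k : ℕ} (hk : k < 9) {a : MulAut Fi22} (ha : a ∈ stabk k) :
    chainQ k (amove a (bpt k) : ℕ) = true := by
  have hfix : fixB (amove a (bpt k) : ℕ) = fixB (chainPts.getD k 0) := by
    rw [← bpt_val k hk]
    refine Bool.eq_iff_iff.2 ?_
    rw [fixB_iff, fixB_iff, ← amove_mul, ← ha.1, amove_mul]
    exact ⟨fun e => amove_injective a e, fun e => by rw [e]⟩
  unfold chainQ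
  rw [Bool.and_eq_true]
  refine ⟨by rw [hfix]; cases fixB (chainPts.getD k 0) <;> rfl, ?_⟩
  have key : ∀ n ≤ k, allFrom (fun j => !Nat.beq (amove a (bpt k) : ℕ) (chainPts.getD j 0) &&
      beqB (Nat.beq (FiA.table.follow [chainLetters.getD j 0] (amove a (bpt k) : ℕ)) (amove a (bpt k) : ℕ))
        (Nat.beq (FiA.table.follow [chainLetters.getD j 0] (chainPts.getD k 0)) (chainPts.getD k 0))) 0 n =
      true := by
    intro n
    induction n with
    | zero => intro _; rfl
    | succ n ih =>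
      intro hn
      show ((_ && _) && _) = true
      rw [Bool.and_eq_true]
      refine ⟨?_, ih (by omega)⟩
      have hn' : n < k := by omega
      obtain ⟨hx, hd⟩ := bpt_gen n (by omega)
      rw [Nat.zero_add, Bool.and_eq_true]
      constructor
      · rw [Bool.not_eq_true', Bool.eq_false_iff]
        intro e
        have e' : amove a (bpt k) = amove a (bpt n) := by
          rw [ha.2 n hn']
          exact Fin.ext (by rw [Nat.eq_of_beq_eq_true e, bpt_val n (by omega)])
        have e2 := congrArg Fin.val (amove_injective a e')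
        rw [bpt_val k hk, bpt_val n (by omega)] at e2
        have := (by decide : ∀ k < 9, ∀ j < k, chainPts.getD k 0 ≠ chainPts.getD j 0) k hk n hn'
        exact this e2
      · obtain ⟨x, ex⟩ : ∃ x, x = chainLetters.getD n 0 := ⟨_, rfl⟩
        rw [← ex] at hx hd ⊢
        rw [← bpt_val k hk, T22Pair.follow_letter x hx, T22Pair.follow_letter x hx]
        have hax : a (SporFi22.gen x) = SporFi22.gen x := by rw [← hd, ← d_amove, ha.2 n hn']
        have hc : amove a (SporFi22.rep (SporFi22.gen x) (bpt k)) =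
            SporFi22.rep (SporFi22.gen x) (amove a (bpt k)) :=
          act.d_injective (by
            rw [d_amove, show act.d (SporFi22.rep (SporFi22.gen x) (bpt k)) =
              SporFi22.gen x * act.d (bpt k) * (SporFi22.gen x)⁻¹ from (act.conj_d _ _).symm,
              map_mul, map_mul, map_inv, hax, ← d_amove]
            exact act.conj_d _ _)
        rw [← hc]
        by_cases e : SporFi22.rep (SporFi22.gen x) (bpt k) = bpt k
        · rw [e]; simp [beqB]
        · have e1 : Nat.beq (SporFi22.rep (SporFi22.gen x) (bpt k) : ℕ) (bpt k : ℕ) = false :=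
            Bool.eq_false_iff.2 fun q => e (Fin.ext (Nat.eq_of_beq_eq_true q))
          have e2 : Nat.beq (amove a (SporFi22.rep (SporFi22.gen x) (bpt k)) : ℕ) (amove a (bpt k) : ℕ) =
              false :=
            Bool.eq_false_iff.2 fun q => e (amove_injective a (Fin.ext (Nat.eq_of_beq_eq_true q)))
          rw [e1, e2]; rfl
  exact key k le_rfl

omit hD hP h in
theorem stabk_step (k : ℕ) (hk : k < 9) :
    Nat.card (stabk k) ≤ chainN.getD k 0 * Nat.card (stabk (k + 1)) := by
  classical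
  have hle : stabk (k + 1) ≤ stabk k := fun a ha => ⟨ha.1, fun j hj => ha.2 j (by omega)⟩
  obtain ⟨K, eK⟩ : ∃ K, K = (stabk (k + 1)).subgroupOf (stabk k) := ⟨_, rfl⟩
  rw [← Subgroup.card_mul_index K, mul_comm,
    show Nat.card K = Nat.card (stabk (k + 1)) from eK ▸ Nat.card_congr (Subgroup.subgroupOfEquivOfLe hle).toEquiv]
  refine Nat.mul_le_mul_right _ ?_
  obtain ⟨S, eS⟩ : ∃ S, S = ((List.range 3510).filter (chainQ k)).toFinset := ⟨_, rfl⟩
  have hS : Nat.card S = chainN.getD k 0 := by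
    rw [Nat.card_eq_finsetCard, eS, List.toFinset_card_of_nodup (List.nodup_range.filter _),
      chain_count k hk]
  rw [← hS, Subgroup.index]
  refine Nat.card_le_card_of_injective
    (fun q : ↥(stabk k) ⧸ K => (⟨(amove (q.out : MulAut Fi22) (bpt k) : ℕ), by
      rw [eS, List.mem_toFinset, List.mem_filter, List.mem_range]
      exact ⟨(amove _ (bpt k)).2, stabk_cand hk q.out.2⟩⟩ : ↥S)) ?_
  intro q q' e
  have e' : amove (q.out : MulAut Fi22) (bpt k) = amove (q'.out : MulAut Fi22) (bpt k) :=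
    Fin.ext (congrArg Subtype.val e)
  rw [← QuotientGroup.out_eq' q, ← QuotientGroup.out_eq' q']
  refine QuotientGroup.eq.2 ((SetLike.ext_iff.1 eK _).2 (Subgroup.mem_subgroupOf.2 ?_))
  obtain ⟨u, hu⟩ : ∃ u, u = (q.out)⁻¹ * q'.out := ⟨_, rfl⟩
  rw [← hu]
  refine ⟨u.2.1, fun j hj => ?_⟩
  rcases Nat.lt_succ_iff_lt_or_eq.1 hj with hj | rfl
  · exact u.2.2 j hj
  · rw [hu, Subgroup.coe_mul, Subgroup.coe_inv, amove_mul, ← e', ← amove_mul, inv_mul_cancel, amove_one]

omit hD hP h in
theorem stabk_nine : Nat.card (stabk 9) = 1 := by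
  rw [Subgroup.card_eq_one, eq_bot_iff]
  intro a ha
  rw [Subgroup.mem_bot]
  refine aut_ext fun p hp => ?_
  obtain ⟨k, hk, e⟩ := (by decide : ∀ p ∈ T22Aut.std9, ∃ k < 9, chainPts.getD k 0 = p) p hp
  rw [amove_one, show p = bpt k from Fin.ext (by rw [bpt_val k hk, e]), ha.2 k hk]

omit hD hP h in
theorem stabk_bound : Nat.card (stabk 0) ≤ 2090188800 ∧ Nat.card (stabk 1) ≤ 5806080 ∧
    Nat.card (stabk 2) ≤ 92160 := by
  have s : ∀ k (hk : k < 9) b, Nat.card (stabk (k + 1)) ≤ b →
      Nat.card (stabk k) ≤ chainN.getD k 0 * b := fun k hk b hb =>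
    (stabk_step k hk).trans (Nat.mul_le_mul_left _ hb)
  have h2 := s 2 (by omega) _ (s 3 (by omega) _ (s 4 (by omega) _ (s 5 (by omega) _ (s 6 (by omega) _
    (s 7 (by omega) _ (s 8 (by omega) _ stabk_nine.le))))))
  exact ⟨(s 0 (by omega) _ (s 1 (by omega) _ h2)).trans (by decide +kernel),
    (s 1 (by omega) _ h2).trans (by decide +kernel), h2.trans (by decide +kernel)⟩

/-- The fixed subgroup of the diagram automorphism with the first `k` base points fixed. -/
def Fk (k : ℕ) : Subgroup Fi22 where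
  carrier := {g | g ∈ fixG τ₀ ∧ ∀ j < k, SporFi22.rep g (bpt j) = bpt j}
  one_mem' := ⟨one_mem _, fun j _ => by rw [map_one, Equiv.Perm.one_apply]⟩
  mul_mem' := fun {a b} ha hb => ⟨mul_mem ha.1 hb.1, fun j hj => by
    rw [map_mul, Equiv.Perm.mul_apply, hb.2 j hj, ha.2 j hj]⟩
  inv_mem' := fun {a} ha => ⟨inv_mem ha.1, fun j hj => by
    rw [map_inv, Equiv.Perm.inv_eq_iff_eq, ha.2 j hj]⟩

theorem card_stabk (k : ℕ) (hk : k ≤ 8) : Nat.card (stabk k) = 2 * Nat.card (Fk k) := by
  refine AutCard.card_two_cosets (conj_inj hD hP h) T22Invol.tau_ne_inner (Fk k) (stabk k) fun a => ?_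
  have hτ : τ₀ ∈ stabk k := ⟨rfl, fun j hj => (fixB_iff _).1 (by
    rw [bpt_val j (by omega)]; exact chain_fix j (by omega))⟩
  have hcon : ∀ g, MulAut.conj g ∈ stabk k ↔ g ∈ Fk k := fun g =>
    ⟨fun hg => ⟨mem_fixG_of_commute hD hP h (Commute.symm hg.1), fun j hj => by
      rw [← amove_conj]; exact hg.2 j hj⟩,
      fun hg => ⟨(commute_conj hg.1).symm, fun j hj => by rw [amove_conj]; exact hg.2 j hj⟩⟩
  constructor
  · intro ha
    obtain ⟨g, e | e⟩ := T22Pair.decompose tau_spec a
    · exact ⟨g, (hcon g).1 (e ▸ ha), Or.inl e⟩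
    · refine ⟨g, (hcon g).1 ?_, Or.inr e⟩
      rw [show MulAut.conj g = a * τ₀⁻¹ by rw [e, mul_inv_cancel_right]]
      exact mul_mem ha (inv_mem hτ)
  · rintro ⟨g, hg, e | e⟩ <;> rw [e]
    exacts [(hcon g).2 hg, mul_mem ((hcon g).2 hg) hτ]

theorem Fk_bound : Nat.card (fixG τ₀) ≤ 1045094400 ∧ Nat.card (Fk 1) ≤ 2903040 ∧
    Nat.card (Fk 2) ≤ 46080 := by
  obtain ⟨b0, b1, b2⟩ := stabk_bound
  rw [card_stabk hD hP h 0 (by omega)] at b0
  rw [card_stabk hD hP h 1 (by omega)] at b1
  rw [card_stabk hD hP h 2 (by omega)] at b2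
  have e : Fk 0 = fixG τ₀ := SetLike.ext fun g =>
    show (g ∈ fixG τ₀ ∧ ∀ j < 0, SporFi22.rep g (bpt j) = bpt j) ↔ g ∈ fixG τ₀ from
    ⟨fun hg => hg.1, fun hg => ⟨hg, fun j hj => absurd hj (by omega)⟩⟩
  rw [e] at b0
  exact ⟨by omega, by omega, by omega⟩

omit hD hP h in
theorem mem_Fk_one {g : Fi22} : g ∈ Fk 1 ↔ g ∈ fixG τ₀ ∧ g ∈ Subgroup.centralizer ({g₃} : Set Fi22) := by
  have hd : act.d (bpt 0) = g₃ := (bpt_gen 0 (by omega)).2
  rw [Subgroup.mem_centralizer_singleton_iff]
  constructor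
  · intro hg
    refine ⟨hg.1, ?_⟩
    have := act.conj_d g (bpt 0)
    rw [show act.rep g (bpt 0) = bpt 0 from hg.2 0 (by omega), hd] at this
    exact mul_inv_eq_iff_eq_mul.1 this
  · intro hg
    refine ⟨hg.1, fun j hj => ?_⟩
    obtain rfl : j = 0 := by omega
    refine act.d_injective ?_
    rw [show act.d (SporFi22.rep g (bpt 0)) = g * act.d (bpt 0) * g⁻¹ from (act.conj_d g _).symm, hd,
      hg.2, mul_inv_cancel_right]

end CfsgLib.KnownA.FischerOut.T22Fix
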