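import Cfsg.Agent.Lib.KnownA.FischerOut.T22FixEight
import Mathlib.GroupTheory.GroupAction.ConjAct

/-!
The kernel of the action on the three classes is `Ω⁺₈(2)`, and the whole fixed subgroup of the
diagram automorphism of Fi22 is its automorphism group.
-/

set_option autoImplicit false
set_option maxRecDepth 100000
set_option linter.unusedSectionVars false

namespace CfsgLib.KnownA.FischerOut.T22Fix

open CfsgLib.InvChar CfsgLib.InvChar.Coset Cfsg.Spor
open T22 (act)
open T22Aut T22Invol CfsgLib.Trans3.Fi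
open CfsgLib.StructC CfsgLib.Classical

local instance : Finite Fi22 := SporFi22.card_le.1

local notation "τ₀" => T22Aut.tau
local notation "Q₈" => Cfsg.quadFormPlus 4 (ZMod 2)
local notation "O₈" => Cfsg.isometryGroup (ZMod 2) (Cfsg.quadFormPlus 4 (ZMod 2))

/-- A subgroup of index two contains the commutator subgroup and so is equal to it if that has index two. -/
theorem eq_commutator_of_index_two {X : Type*} [Group X] [Finite X] (N : Subgroup X) (hN : N.index = 2)
    (hc : (commutator X).index = 2) : N = commutator X := by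
  have := Subgroup.normal_of_index_eq_two hN
  have hle : commutator X ≤ N := by
    haveI : Fact (Nat.Prime 2) := ⟨Nat.prime_two⟩
    have hc' : IsCyclic (X ⧸ N) := isCyclic_of_prime_card (p := 2) (by rw [← Subgroup.index_eq_card, hN])
    rw [commutator_def, Subgroup.commutator_le]
    intro a _ b _
    rw [← QuotientGroup.eq_one_iff, ← QuotientGroup.mk'_apply, map_commutatorElement,
      commutatorElement_eq_one_iff_mul_comm]
    obtain ⟨z, hz⟩ := hc'.exists_generator
    obtain ⟨i, hi⟩ := Subgroup.mem_zpowers_iff.1 (hz (QuotientGroup.mk' N a))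
    obtain ⟨j, hj⟩ := Subgroup.mem_zpowers_iff.1 (hz (QuotientGroup.mk' N b))
    rw [← hi, ← hj, ← zpow_add, ← zpow_add, add_comm]
  refine (Subgroup.eq_of_le_of_card_ge hle ?_).symm
  have h1 := Subgroup.card_mul_index N
  have h2 := Subgroup.card_mul_index (commutator X)
  rw [hN] at h1; rw [hc] at h2
  omega

variable (hD : Cfsg.IsThreeTranspositionGroup (conjugatesOf (SporFi22.gen 0 : Fi22)))
variable (hP : Cfsg.IsPrimitiveUnderConj (conjugatesOf (SporFi22.gen 0 : Fi22)))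
variable (h : Cfsg.IsOfTypeM22 Fi22 (conjugatesOf (SporFi22.gen 0 : Fi22)))
include hD hP h

theorem g3_classes : chi3 hD hP h (sg hD hP h 3) 0 = 0 ∧ chi3 hD hP h (sg hD hP h 3) 2 = 1 := by
  refine ⟨(chi3_zero hD hP h).2 (sg_st1 hD hP h 3 (by decide)), ?_⟩
  have hh := eq_of_and gen_swap
  have e2 : blk (mu (sg hD hP h 9) 0) = (2 : Fin 3) :=
    Fin.ext (by show (mu (sg hD hP h 9) 0 : ℕ) / 120 = 2; rw [mu_sg]; exact Nat.eq_of_beq_eq_true hh.1)
  show clsPerm hD hP h (sg hD hP h 3) 2 = 1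
  rw [← e2, ← clsPerm_spec]
  refine Fin.ext ?_
  show (mu (sg hD hP h 3) (mu (sg hD hP h 9) 0) : ℕ) / 120 = 1
  rw [mu_sg, mu_sg]
  exact Nat.eq_of_beq_eq_true hh.2

theorem ker_le : (chi3 hD hP h).ker ≤ Cs1 := fun x hx =>
  (chi3_zero hD hP h).1 (by rw [MonoidHom.mem_ker.1 hx]; rfl)

/-- The kernel corresponds to `Ω⁺₈(2)`. -/
theorem ker_omega : ∃ ψ : ↥Cs1 ≃* O₈, (∀ x, OrthPerm.hom labels8 (ψ x) = res x) ∧
    ∀ x : ↥Cs1, (x : ↥(fixG τ₀)) ∈ (chi3 hD hP h).ker ↔ ψ x ∈ Cfsg.Omega (ZMod 2) Q₈ := by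
  obtain ⟨ψ, hψ⟩ := exists_psi hD hP h
  obtain ⟨r, er⟩ : ∃ r : ↥Cs1 →* Equiv.Perm (Fin 3), r = (chi3 hD hP h).comp Cs1.subtype := ⟨_, rfl⟩
  have hfix : ∀ x : ↥Cs1, r x 0 = 0 := fun x => by rw [er]; exact (chi3_zero hD hP h).2 x.2
  have hrange : Nat.card r.range = 2 := by
    have hle : ∀ σ ∈ r.range, σ = 1 ∨ σ = Equiv.swap (1 : Fin 3) 2 := by
      rintro σ ⟨x, rfl⟩
      exact (by decide : ∀ σ : Equiv.Perm (Fin 3), σ 0 = 0 → σ = 1 ∨ σ = Equiv.swap (1 : Fin 3) 2) _ (hfix x)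
    have hs : Equiv.swap (1 : Fin 3) 2 ∈ r.range := by
      refine ⟨⟨sg hD hP h 3, sg_st1 hD hP h 3 (by decide)⟩, ?_⟩
      obtain ⟨a, b⟩ := g3_classes hD hP h
      exact (by decide : ∀ σ : Equiv.Perm (Fin 3), σ 0 = 0 → σ 2 = 1 → σ = Equiv.swap (1 : Fin 3) 2) _
        (hfix _) (by rw [er]; exact b)
    refine Nat.card_eq_two_iff.2 ⟨1, ⟨_, hs⟩, fun e => ?_, Set.eq_univ_of_forall fun σ => ?_⟩
    · exact absurd (congrArg Subtype.val e) (by decide : (1 : Equiv.Perm (Fin 3)) ≠ Equiv.swap 1 2)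
    · rcases hle σ σ.2 with e | e
      · exact Or.inl (Subtype.ext e)
      · exact Or.inr (Set.mem_singleton_iff.2 (Subtype.ext e))
  have hker : (r.ker.map ψ.toMonoidHom) = Cfsg.Omega (ZMod 2) Q₈ := by
    refine eq_commutator_of_index_two _ ?_ omega8_index
    rw [show r.ker.map ψ.toMonoidHom = r.ker.comap ψ.symm.toMonoidHom from
      Subgroup.map_equiv_eq_comap_symm ψ r.ker, Subgroup.index_comap_of_surjective _ ψ.symm.surjective,
      Subgroup.index_ker, hrange]
  refine ⟨ψ, hψ, fun x => ?_⟩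
  rw [← hker, show ψ x ∈ r.ker.map ψ.toMonoidHom ↔ x ∈ r.ker from
    Subgroup.mem_map_equiv.trans (by rw [MulEquiv.symm_apply_apply]), MonoidHom.mem_ker,
    MonoidHom.mem_ker, er]
  rfl

theorem ker_equiv : Nonempty (↥(chi3 hD hP h).ker ≃* ↥(Cfsg.Omega (ZMod 2) Q₈)) := by
  obtain ⟨ψ, -, hk⟩ := ker_omega hD hP h
  let f : ↥(chi3 hD hP h).ker →* ↥(Cfsg.Omega (ZMod 2) Q₈) :=
    ((ψ.toMonoidHom.comp (Subgroup.inclusion (ker_le hD hP h))).codRestrict _
      fun x => (hk ⟨x, ker_le hD hP h x.2⟩).1 x.2)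
  refine ⟨MulEquiv.ofBijective f ⟨fun a b e => ?_, fun w => ?_⟩⟩
  · have : ψ (Subgroup.inclusion (ker_le hD hP h) a) = ψ (Subgroup.inclusion (ker_le hD hP h) b) :=
      congrArg Subtype.val e
    exact Subgroup.inclusion_injective _ (ψ.injective this)
  · refine ⟨⟨ψ.symm w.1, (hk _).2 (by rw [MulEquiv.apply_symm_apply]; exact w.2)⟩, Subtype.ext ?_⟩
    exact ψ.apply_symm_apply _

omit hD hP h in
/-- The 64 points fixed by the second representative. -/
theorem wA_check (i : ℕ) (hi : i < 64) : (∀ x ∈ wA.getD i [], x < 9) ∧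
    pw FiA.table (wA.getD i []) = cp i ∧ FiA.table.follow [3] (cp i) = cp i ∧
    (i ≠ 0 → (∃ j < 64, conA i (cp j) ≠ cp j) ∧ cq (conA i (cp 120)) / 120 = 2) := by
  have hh := allFrom_get _ wA_rows i (Nat.zero_le _) (by omega)
  simp only [Bool.and_eq_true, Bool.or_eq_true, Bool.not_eq_true'] at hh
  obtain ⟨⟨⟨⟨a, b⟩, c⟩, d⟩, e⟩ := hh
  refine ⟨of_letters a, Nat.eq_of_beq_eq_true b, Nat.eq_of_beq_eq_true c, fun hi0 => ?_⟩
  have hb : Nat.beq i 0 ≠ true := fun q => hi0 (Nat.eq_of_beq_eq_true q)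
  refine ⟨?_, Nat.eq_of_beq_eq_true (e.resolve_left hb)⟩
  by_contra hne
  push Not at hne
  have hall : ∀ n ≤ 64, allFrom (fun j => Nat.beq (conA i (cp j)) (cp j)) 0 n = true := by
    intro n
    induction n with
    | zero => intro _; rfl
    | succ n ih =>
      intro hn
      show (Nat.beq (conA i (cp (0 + n))) (cp (0 + n)) && _) = true
      rw [Bool.and_eq_true]
      exact ⟨by rw [hne (0 + n) (by omega)]; exact Nat.beq_refl _, ih (by omega)⟩
  rw [hall 64 le_rfl] at d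
  exact absurd (d.resolve_left hb) (by decide)

omit hD hP h in
/-- A place below 64. -/
def low (i : Fin 64) : Fin 360 := ⟨i, by omega⟩

omit hD hP h in
theorem d_low (i : Fin 64) : act.d (pl (low i)) = wel (pal (wA.getD i [])) :=
  d_point (wA_check i i.2).1 ((wA_check i i.2).2.1).symm

/-- The transposition of a point below 64. -/
noncomputable def trA (i : Fin 64) : ↥(fixG τ₀) := ⟨act.d (pl (low i)), d_mem_fixG (pl_fix _)⟩

omit hD hP h in
theorem mu_trA (i : Fin 64) (k : Fin 360) : (pl (mu (trA i) k) : ℕ) = conA i (cp k) := by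
  rw [mu_apply, pl_mv]
  show (SporFi22.rep (act.d (pl (low i))) (pl k) : ℕ) = _
  rw [d_low, rep_wel (pal_lt9 (wA_check i i.2).1)]
  rfl

omit hD hP h in
theorem blk_cq (k : Fin 360) {x : ℕ} (hx : (pl k : ℕ) = x) : (blk k : ℕ) = cq x / 120 := by
  rw [← hx]
  show (k : ℕ) / 120 = cq (cp k) / 120
  rw [Nat.eq_of_beq_eq_true (eq_of_and (allFrom_get _ cp_rows k (Nat.zero_le _) (by omega))).2]

omit hD hP h in
theorem trA_fix_zero (i : Fin 64) : mu (trA i) 0 = 0 := by
  refine pl_injective ?_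
  rw [mu_apply, pl_mv]
  show SporFi22.rep (act.d (pl (low i))) (pl 0) = pl 0
  refine (act.commute_iff _ _).1 (Commute.symm ((act.commute_iff _ _).2 (Fin.ext ?_)))
  have hd0 : act.d (pl 0) = wel [3] := by
    obtain ⟨p, hp, hd⟩ := point_gen 3 (by omega)
    rw [← g_three, ← hd]
    exact congrArg act.d (Fin.ext (((by decide +kernel : cp 0 = T22Aut.std9.getD 3 0)).trans hp.symm))
  rw [hd0]
  show (SporFi22.rep (wel [3]) (pl (low i)) : ℕ) = _
  rw [rep_wel (by simp)]
  exact (wA_check i i.2).2.2.1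

theorem trA_classes (i : Fin 64) (hi : (i : ℕ) ≠ 0) :
    chi3 hD hP h (trA i) = Equiv.swap (1 : Fin 3) 2 := by
  have e0 : chi3 hD hP h (trA i) 0 = 0 := by
    show clsPerm hD hP h (trA i) 0 = 0
    rw [show (0 : Fin 3) = blk (0 : Fin 360) from rfl, ← clsPerm_spec, trA_fix_zero]
  have e1 : chi3 hD hP h (trA i) 1 = 2 := by
    show clsPerm hD hP h (trA i) 1 = 2
    rw [show (1 : Fin 3) = blk (⟨120, by omega⟩ : Fin 360) from Fin.ext (by show (1 : ℕ) = 120 / 120; rfl), ← clsPerm_spec]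
    refine Fin.ext ?_
    rw [blk_cq _ (mu_trA i _)]
    exact ((wA_check i i.2).2.2.2 hi).2
  exact (by decide : ∀ σ : Equiv.Perm (Fin 3), σ 0 = 0 → σ 1 = 2 → σ = Equiv.swap (1 : Fin 3) 2) _ e0 e1

omit hD hP h in
theorem apart_rows : allFrom (fun x => !allFrom (fun j => Nat.beq (conA 1 (conA j (cp x))) (cp x)) 1 63)
    120 240 = true := by decide +kernel

omit hD hP h in
theorem orbit_first (x : ↥Cs1) (hc : ∀ g : ↥Cs1, x * g = g * x) (h0 : mu (x : ↥(fixG τ₀)) 0 = 0)
    (k : Fin lab8.length) (G : ℕ → ↥Cs1)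
    (hG : ∀ g < 9, ∀ l : Fin 360, (mu (G g : ↥(fixG τ₀)) l : ℕ) = cPerm g l) :
    mu (x : ↥(fixG τ₀)) (emb k) = emb k := by
  have main : ∀ (d : ℕ) (l : Fin 360), (l : ℕ) < 120 → cDepth.getD l 0 = d →
      mu (x : ↥(fixG τ₀)) l = l := by
    intro d
    induction d using Nat.strong_induction_on with
    | _ d ih =>
      intro l hl hd
      have hh := allFrom_get _ orbit_rows l (Nat.zero_le _) (by omega)
      simp only [Bool.and_eq_true, Bool.or_eq_true] at hh
      rcases hh with ⟨-, e⟩ | ⟨⟨⟨a, b⟩, c⟩, e⟩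
      · rw [show l = 0 from Fin.ext (Nat.eq_of_beq_eq_true e)]; exact h0
      · obtain ⟨p, ep⟩ : ∃ p, p = cPar.getD l 120 := ⟨_, rfl⟩
        obtain ⟨v, ev⟩ : ∃ v, v = cVia.getD l 9 := ⟨_, rfl⟩
        rw [← ep] at b c e
        rw [← ev] at a e
        have hp : p < 120 := Nat.le_of_ble_eq_true b
        have hfix := ih (cDepth.getD p 0) (by have := Nat.eq_of_beq_eq_true c; omega) ⟨p, by omega⟩ hp rfl
        have hl' : mu (G v : ↥(fixG τ₀)) ⟨p, by omega⟩ = l :=
          Fin.ext ((hG v (Nat.le_of_ble_eq_true a) _).trans (Nat.eq_of_beq_eq_true e))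
        have hcomm := congrArg (fun y : ↥Cs1 => mu (y : ↥(fixG τ₀)) ⟨p, by omega⟩) (hc (G v))
        simp only [Subgroup.coe_mul, map_mul, Equiv.Perm.mul_apply, hl', hfix] at hcomm
        exact hcomm
  exact main _ (emb k) (lab_lt k) rfl

/-- The fixed subgroup of the diagram automorphism is the automorphism group of `Ω⁺₈(2)`. -/
theorem fix_iso_aut : Nonempty (↥(fixG τ₀) ≃* MulAut ↥(Cfsg.Omega (ZMod 2) Q₈)) := by
  obtain ⟨e⟩ := ker_equiv hD hP h
  obtain ⟨hcard, hcs, -, hinj, -⟩ := fix_structure hD hP h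
  obtain ⟨θ, eθ⟩ : ∃ θ : ↥(fixG τ₀) →* MulAut ↥(chi3 hD hP h).ker, θ = MulAut.conjNormal := ⟨_, rfl⟩
  have hcomm : ∀ c ∈ θ.ker, ∀ k ∈ (chi3 hD hP h).ker, c * k = k * c := by
    intro c hc k hk
    rw [MonoidHom.mem_ker, eθ] at hc
    have := congrArg (fun φ : MulAut ↥(chi3 hD hP h).ker => ((φ ⟨k, hk⟩ : ↥(chi3 hD hP h).ker) : ↥(fixG τ₀))) hc
    simp only [MulAut.conjNormal_apply, MulAut.one_apply] at this
    exact mul_inv_eq_iff_eq_mul.1 this
  have hz : ∀ c ∈ θ.ker, c ∈ (chi3 hD hP h).ker → c = 1 := by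
    intro c hc hk
    have hcz : e ⟨c, hk⟩ ∈ Subgroup.center ↥(Cfsg.Omega (ZMod 2) Q₈) :=
      Subgroup.mem_center_iff.2 fun w => by
        obtain ⟨y, rfl⟩ := e.surjective w
        rw [← map_mul, ← map_mul]
        exact congrArg e (Subtype.ext (hcomm c hc y y.2).symm)
    rw [Subgroup.card_eq_one.1 center_omega8, Subgroup.mem_bot] at hcz
    exact congrArg Subtype.val (e.injective (hcz.trans (map_one e).symm))
  have habel : ∀ σ π : Equiv.Perm (Fin 3), σ 0 = 0 → π 0 = 0 → σ * π = π * σ := by decide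
  have h1 : ∀ c ∈ θ.ker, c ∈ Cs1 → c = 1 := by
    intro c hc hc1
    have hcentral : ∀ g : ↥Cs1, (⟨c, hc1⟩ : ↥Cs1) * g = g * ⟨c, hc1⟩ := by
      intro g
      have hk : c * g * c⁻¹ * (g : ↥(fixG τ₀))⁻¹ ∈ (chi3 hD hP h).ker := by
        rw [MonoidHom.mem_ker, map_mul, map_mul, map_mul, map_inv, map_inv,
          habel _ _ ((chi3_zero hD hP h).2 hc1) ((chi3_zero hD hP h).2 g.2)]
        group
      have hθ : c * g * c⁻¹ * (g : ↥(fixG τ₀))⁻¹ ∈ θ.ker := by
        rw [mul_assoc, mul_assoc]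
        refine mul_mem hc ?_
        rw [← mul_assoc]
        exact (MonoidHom.normal_ker θ).conj_mem _ (inv_mem hc) _
      have := hz _ hθ hk
      refine Subtype.ext ?_
      show c * (g : ↥(fixG τ₀)) = g * c
      rw [← mul_inv_eq_iff_eq_mul, ← mul_inv_eq_one]
      exact this
    have hfix0 : mu c 0 = 0 := by
      have hg := congrArg (fun y : ↥Cs1 => (y : ↥(fixG τ₀))) (hcentral ⟨trA 0, ?_⟩)
      · simp only [Subgroup.coe_mul] at hg
        have hg' : (c : Fi22) * act.d (pl 0) = act.d (pl 0) * (c : Fi22) := congrArg Subtype.val hg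
        refine pl_injective (act.d_injective ?_)
        rw [mu_apply, pl_mv, show act.d (SporFi22.rep (c : Fi22) (pl 0)) = (c : Fi22) * act.d (pl 0) * (c : Fi22)⁻¹
          from (act.conj_d _ _).symm, hg', mul_inv_cancel_right]
      · refine (chi3_zero hD hP h).1 ?_
        show clsPerm hD hP h (trA 0) 0 = 0
        rw [show (0 : Fin 3) = blk (0 : Fin 360) from rfl, ← clsPerm_spec, trA_fix_zero]
    have hres : res ⟨c, hc1⟩ = 1 := Equiv.ext fun k => emb_injective (by
      show emb (resMv ⟨c, hc1⟩ k) = emb k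
      rw [emb_resMv]
      exact orbit_first ⟨c, hc1⟩ hcentral hfix0 k
        (fun g => if hg : g < 9 then ⟨sg hD hP h ⟨g, by omega⟩, sg_st1 hD hP h _ hg⟩ else 1)
        fun g hg l => by simp only [dif_pos hg]; exact mu_sg hD hP h _ l)
    exact congrArg Subtype.val (hinj (hres.trans (map_one res).symm))
  have hθi : Function.Injective θ := by
    rw [injective_iff_map_eq_one]
    intro c hc
    have hc' : c ∈ θ.ker := MonoidHom.mem_ker.2 hc
    refine h1 c hc' ((chi3_zero hD hP h).1 ?_)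
    by_contra hne
    obtain ⟨x, ex⟩ : ∃ x, x = mu c 0 := ⟨_, rfl⟩
    have hx : 120 ≤ (x : ℕ) := by
      by_contra hlt
      refine hne ?_
      show clsPerm hD hP h c 0 = 0
      rw [show (0 : Fin 3) = blk (0 : Fin 360) from rfl, ← clsPerm_spec, ← ex]
      exact Fin.ext (Nat.div_eq_of_lt (by omega))
    have hh := allFrom_get _ apart_rows x hx (by omega)
    simp only [Bool.not_eq_true'] at hh
    refine absurd ?_ (Bool.eq_false_iff.1 hh)
    have hall : ∀ n ≤ 63, allFrom (fun j => Nat.beq (conA 1 (conA j (cp x))) (cp x)) 1 n = true := by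
      intro n
      induction n with
      | zero => intro _; rfl
      | succ n ih =>
        intro hn
        show (Nat.beq (conA 1 (conA (1 + n) (cp x))) (cp x) && _) = true
        rw [Bool.and_eq_true]
        refine ⟨?_, ih (by omega)⟩
        obtain ⟨j, ej⟩ : ∃ j : Fin 64, (j : ℕ) = 1 + n := ⟨⟨1 + n, by omega⟩, rfl⟩
        have hk : trA 1 * trA j ∈ (chi3 hD hP h).ker := by
          rw [MonoidHom.mem_ker, map_mul, trA_classes hD hP h 1 (by decide),
            trA_classes hD hP h j (by omega), Equiv.swap_mul_self]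
        have hcx := hcomm c hc' _ hk
        have h2 := congrArg (fun y => mu y 0) hcx
        simp only [map_mul, Equiv.Perm.mul_apply, trA_fix_zero, ← ex] at h2
        rw [← ej, ← mu_trA j x, show (pl (mu (trA j) x) : ℕ) = cp (mu (trA j) x) from rfl,
          show (1 : ℕ) = ((1 : Fin 64) : ℕ) from rfl, ← mu_trA 1 (mu (trA j) x), ← h2]
        exact Nat.beq_refl _
    exact hall 63 le_rfl
  have hb : Function.Bijective ((MulAut.congr e).toMonoidHom.comp θ) := by
    refine (Nat.bijective_iff_injective_and_card _).2 ⟨(MulAut.congr e).injective.comp hθi, ?_⟩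
    rw [hcard, card_aut_omega8]
  exact ⟨MulEquiv.ofBijective _ hb⟩

end CfsgLib.KnownA.FischerOut.T22Fix
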