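import Cfsg.Agent.Lib.KnownA.FischerOut.T22Chain
import Cfsg.Agent.Lib.StructC.OrthPerm
import Cfsg.Agent.Lib.Classical.OrthOmega
import Cfsg.Agent.Lib.Classical.OutPlus

/-!
The subgroup of the presented Fi22 fixed by the diagram automorphism is the automorphism group of
`Ω⁺₈(2)`: it permutes three classes of 120 fixed transpositions as the symmetric group, and the
stabiliser of one class is the orthogonal group of its labels.
-/

set_option autoImplicit false
set_option maxRecDepth 100000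
set_option linter.unusedSectionVars false

namespace CfsgLib.KnownA.FischerOut.T22Fix

open CfsgLib.InvChar CfsgLib.InvChar.Coset Cfsg.Spor
open T22 (act)
open T22Aut T22Invol CfsgLib.Trans3.Fi
open CfsgLib.StructC CfsgLib.Classical

local instance : Finite Fi22 := SporFi22.card_le.1

local notation "D₀" => conjugatesOf (SporFi22.gen 0 : Fi22)
local notation "Pt" => Fin FiA.table.n
local notation "τ₀" => T22Aut.tau
local notation "Q₈" => Cfsg.quadFormPlus 4 (ZMod 2)
local notation "O₈" => Cfsg.isometryGroup (ZMod 2) (Cfsg.quadFormPlus 4 (ZMod 2))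

theorem cp_lt (k : Fin 360) : cp k < 3510 := by
  have hh := eq_of_and (eq_of_and (allFrom_get _ cp_rows k (Nat.zero_le _) (by omega))).1
  exact Nat.le_of_ble_eq_true hh.1

/-- A listed fixed point. -/
noncomputable def pl (k : Fin 360) : Pt := ⟨cp k, cp_lt k⟩

theorem pl_fix (k : Fin 360) : amove τ₀ (pl k) = pl k :=
  (fixB_iff _).1 (eq_of_and (eq_of_and (allFrom_get _ cp_rows k (Nat.zero_le _) (by omega))).1).2

theorem pl_injective : Function.Injective pl := fun a b e => Fin.ext (by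
  rw [← Nat.eq_of_beq_eq_true (eq_of_and (allFrom_get _ cp_rows a (Nat.zero_le _) (by omega))).2,
    ← Nat.eq_of_beq_eq_true (eq_of_and (allFrom_get _ cp_rows b (Nat.zero_le _) (by omega))).2]
  exact congrArg cq (congrArg Fin.val e))

theorem exists_pl {i : Pt} (hi : amove τ₀ i = i) : ∃ k : Fin 360, pl k = i ∧ (k : ℕ) = cq i := by
  have hh := allFrom_get _ cq_rows (i : ℕ) (Nat.zero_le _) (by have : (i : ℕ) < 3510 := i.2; omega)
  rw [(fixB_iff i).2 hi, Bool.not_true, Bool.false_or, Bool.and_eq_true] at hh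
  exact ⟨⟨cq i, Nat.le_of_ble_eq_true hh.1⟩, Fin.ext (Nat.eq_of_beq_eq_true hh.2), rfl⟩

theorem exists_place (g : ↥(fixG τ₀)) (k : Fin 360) : ∃ l, pl l = SporFi22.rep (g : Fi22) (pl k) :=
  ⟨_, (exists_pl (amove_rep g.2 (pl_fix k))).choose_spec.1⟩

/-- The place of an image. -/
noncomputable def mv (g : ↥(fixG τ₀)) (k : Fin 360) : Fin 360 := (exists_place g k).choose

theorem pl_mv (g : ↥(fixG τ₀)) (k : Fin 360) : pl (mv g k) = SporFi22.rep (g : Fi22) (pl k) :=
  (exists_place g k).choose_spec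

theorem mv_one (k : Fin 360) : mv 1 k = k :=
  pl_injective (by rw [pl_mv, Subgroup.coe_one, map_one, Equiv.Perm.one_apply])

theorem mv_mul (g g' : ↥(fixG τ₀)) (k : Fin 360) : mv (g * g') k = mv g (mv g' k) :=
  pl_injective (by rw [pl_mv, pl_mv, pl_mv, Subgroup.coe_mul, map_mul, Equiv.Perm.mul_apply])

/-- The action on the places. -/
noncomputable def mu : ↥(fixG τ₀) →* Equiv.Perm (Fin 360) where
  toFun g := ⟨mv g, mv g⁻¹, fun k => by rw [← mv_mul, inv_mul_cancel, mv_one],
    fun k => by rw [← mv_mul, mul_inv_cancel, mv_one]⟩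
  map_one' := Equiv.ext mv_one
  map_mul' a b := Equiv.ext (mv_mul a b)

theorem mu_apply (g : ↥(fixG τ₀)) (k : Fin 360) : mu g k = mv g k := rfl

theorem mu_wel {L : List ℕ} (hL : ∀ x ∈ L, x < 9) (hm : wel L ∈ fixG τ₀) (k l : Fin 360)
    (hl : FiA.table.follow L (cp k) = cp l) : mu ⟨wel L, hm⟩ k = l :=
  pl_injective (by
    rw [mu_apply, pl_mv]
    exact Fin.ext ((rep_wel hL _).trans hl))

/-- The class of a place. -/
def blk (k : Fin 360) : Fin 3 := ⟨(k : ℕ) / 120, by omega⟩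

/-- The permutations of the places that permute the classes. -/
def Blk : Subgroup (Equiv.Perm (Fin 360)) where
  carrier := {σ | ∃ f : Equiv.Perm (Fin 3), ∀ k, blk (σ k) = f (blk k)}
  one_mem' := ⟨1, fun _ => rfl⟩
  mul_mem' := by
    rintro σ π ⟨f, hf⟩ ⟨f', hf'⟩
    exact ⟨f * f', fun k => by rw [Equiv.Perm.mul_apply, hf, hf']; rfl⟩
  inv_mem' := by
    rintro σ ⟨f, hf⟩
    refine ⟨f⁻¹, fun k => ?_⟩
    obtain ⟨l, rfl⟩ := σ.surjective k
    rw [hf, Equiv.Perm.inv_def, Equiv.Perm.inv_def, Equiv.symm_apply_apply, Equiv.symm_apply_apply]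

/-- The permutations that fix the first class. -/
def St1 : Subgroup (Equiv.Perm (Fin 360)) where
  carrier := {σ | ∀ k, blk (σ k) = 0 ↔ blk k = 0}
  one_mem' := fun _ => Iff.rfl
  mul_mem' := fun {σ π} hσ hπ k => (hσ (π k)).trans (hπ k)
  inv_mem' := fun {σ} hσ k => by
    have := hσ (σ⁻¹ k)
    rw [Equiv.Perm.inv_def, Equiv.apply_symm_apply] at this
    exact this.symm

theorem gen_check (g : ℕ) (hg : g < 10) : (∀ x ∈ cS.getD g [], x < 9) ∧
    (∀ p ∈ T22Aut.std9, FiA.table.follow (cS.getD g []) (field T22.piT 128 20 p) =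
      field T22.piT 128 20 (FiA.table.follow (cS.getD g []) p)) ∧
    ∀ k : Fin 360, cPerm g k < 360 ∧ FiA.table.follow (cS.getD g []) (cp k) = cp (cPerm g k) ∧
      cPerm g k / 120 = cPerm g ((k : ℕ) / 120 * 120) / 120 ∧
      (g < 9 → (k : ℕ) < 120 → cPerm g k < 120) := by
  have hh := eq_of_and (allFrom_get _ gen_rows g (Nat.zero_le _) (by omega))
  have h1 := eq_of_and hh.1
  refine ⟨of_letters h1.1, fun p hp => Nat.eq_of_beq_eq_true (List.all_eq_true.1 h1.2 p hp), fun k => ?_⟩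
  have hk := allFrom_get _ hh.2 k (Nat.zero_le _) (by omega)
  simp only [Bool.and_eq_true, Bool.or_eq_true, Bool.not_eq_true'] at hk
  obtain ⟨⟨⟨a, b⟩, c⟩, d⟩ := hk
  refine ⟨Nat.le_of_ble_eq_true a, Nat.eq_of_beq_eq_true b, Nat.eq_of_beq_eq_true c, fun hg9 hk => ?_⟩
  rcases d with d | d
  · rw [show Nat.blt g 9 = true from Nat.ble_eq_true_of_le hg9,
      show Nat.blt (k : ℕ) 120 = true from Nat.ble_eq_true_of_le hk] at d
    exact absurd d (by decide)
  · exact Nat.le_of_ble_eq_true d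

/-- The nine reflections. -/
theorem exists_refl (k : ℕ) : ∃ r : O₈, 0 < k → k < 10 →
    OrthCohom.mat Q₈ r = OrthCohom.toMat OrthCohom.eEight (els8.getD k ([], 0, 0)).1 := by
  by_cases hk : 0 < k ∧ k < 10
  · obtain ⟨r, hr⟩ := OrthCohom.exists_iso _ _ (els8_base.2.2 (k - 1) (by omega))
    exact ⟨r, fun _ _ => by rwa [show k - 1 + 1 = k by omega] at hr⟩
  · exact ⟨1, fun a b => absurd ⟨a, b⟩ hk⟩

theorem labels8 : OrthPerm.Labels OrthCohom.eEight Q₈ lab8 :=
  ⟨lab8_spec.2.1, lab8_spec.2.2.1, lab8_spec.2.2.2.1, lab8_spec.2.2.2.2⟩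

theorem card_O8 : Nat.card O₈ = 348364800 := by
  rw [← qfPlus_coe, ← Nat.card_congr (Geom.orEquiv _).toEquiv, card_qfPlus_isoms 3, ZMod.card]
  rfl

theorem omega8_index : (Cfsg.Omega (ZMod 2) Q₈).index = 2 := by
  rw [← qfPlus_coe]
  exact Geom.omega_index_even _ (qfPlus_sep 4) (Or.inr (by simp [Module.finrank_fintype_fun_eq_card]))
    (by decide) (by simp)

theorem center_omega8 : Nat.card (Subgroup.center ↥(Cfsg.Omega (ZMod 2) Q₈)) = 1 := by
  rw [← qfPlus_coe]
  exact card_center_omega_one _ (qfPlus_sep 4) (by simp) (Or.inl (by decide))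

theorem card_aut_omega8 :
    Nat.card (MulAut ↥(Cfsg.Omega (ZMod 2) Q₈)) = 1045094400 := by
  have hb : Subgroup.center ↥(Cfsg.Omega (ZMod 2) (⇑(qfPlus 4 (ZMod 2)))) = ⊥ :=
    Subgroup.card_eq_one.1 (card_center_omega_one _ (qfPlus_sep 4) (by simp) (Or.inl (by decide)))
  have e : ↥(Cfsg.Omega (ZMod 2) (⇑(qfPlus 4 (ZMod 2)))) ≃* PlusOut.GP (ZMod 2) 4 :=
    (QuotientGroup.quotientBot.symm).trans (QuotientGroup.quotientMulEquivOfEq hb.symm)
  have h1 := PlusOut.card_mulAut_plus (F := ZMod 2) (p := 2) (f := 1) (m := 4) le_rfl (by simp) le_rfl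
  have h2 : Nat.card (PlusOut.GP (ZMod 2) 4) * 2 = 348364800 := by
    have h3 := Subgroup.card_mul_index (Cfsg.Omega (ZMod 2) Q₈)
    rw [omega8_index, card_O8] at h3
    rw [← Nat.card_congr e.toEquiv, qfPlus_coe]
    exact h3
  rw [← qfPlus_coe, Nat.card_congr (MulAut.congr e).toEquiv, h1]
  simp only [reduceIte]
  omega

variable (hD : Cfsg.IsThreeTranspositionGroup (conjugatesOf (SporFi22.gen 0 : Fi22)))
variable (hP : Cfsg.IsPrimitiveUnderConj (conjugatesOf (SporFi22.gen 0 : Fi22)))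
variable (h : Cfsg.IsOfTypeM22 Fi22 (conjugatesOf (SporFi22.gen 0 : Fi22)))
include hD hP h

/-- One of the ten generators. -/
noncomputable def sg (g : Fin 10) : ↥(fixG τ₀) :=
  ⟨wel (cS.getD g []), wel_mem_fixG hD hP h fun p hp => Fin.ext (by
    obtain ⟨hL, hq, -⟩ := gen_check g g.2
    rw [amove_tau_val, amove_wel hL, amove_wel hL, amove_tau_val]
    exact (hq p hp).symm)⟩

theorem mu_sg (g : Fin 10) (k : Fin 360) : (mu (sg hD hP h g) k : ℕ) = cPerm g k := by
  obtain ⟨hL, -, hk⟩ := gen_check g g.2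
  exact congrArg Fin.val (mu_wel hL _ k ⟨_, (hk k).1⟩ (hk k).2.1)

theorem sg_blk (g : Fin 10) : mu (sg hD hP h g) ∈ Blk := by
  obtain ⟨-, -, hk⟩ := gen_check g g.2
  let f : Fin 3 → Fin 3 := fun c => blk (mu (sg hD hP h g) ⟨120 * (c : ℕ), by omega⟩)
  have hf : ∀ k, blk (mu (sg hD hP h g) k) = f (blk k) := fun k => by
    refine Fin.ext ?_
    show (mu (sg hD hP h g) k : ℕ) / 120 = (mu (sg hD hP h g) ⟨120 * ((k : ℕ) / 120), _⟩ : ℕ) / 120
    rw [mu_sg, mu_sg, (hk k).2.2.1, mul_comm ((k : ℕ) / 120)]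
  have hs : Function.Surjective f := fun c => by
    obtain ⟨k, hk'⟩ := (mu (sg hD hP h g)).surjective ⟨120 * (c : ℕ), by omega⟩
    refine ⟨blk k, ?_⟩
    rw [← hf, hk']
    exact Fin.ext (by show 120 * (c : ℕ) / 120 = c; omega)
  exact ⟨Equiv.ofBijective f ⟨Finite.injective_iff_surjective.2 hs, hs⟩, hf⟩

theorem sg_st1 (g : Fin 10) (hg : (g : ℕ) < 9) : mu (sg hD hP h g) ∈ St1 := by
  obtain ⟨-, -, hk⟩ := gen_check g g.2
  obtain ⟨f, hf⟩ := sg_blk hD hP h g
  have h0 : f 0 = 0 := by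
    rw [show (0 : Fin 3) = blk (0 : Fin 360) from rfl, ← hf]
    refine Fin.ext ?_
    show (mu (sg hD hP h g) 0 : ℕ) / 120 = 0
    have := (hk 0).2.2.2 hg (by decide)
    rw [mu_sg]; omega
  intro k
  rw [hf]
  exact ⟨fun e => f.injective (e.trans h0.symm), fun e => by rw [e, h0]⟩

/-- The stabiliser of the first class. -/
noncomputable def Cs1 : Subgroup ↥(fixG τ₀) := St1.comap mu

/-- The group of the nine generators of the first class. -/
noncomputable def H1 : Subgroup ↥(fixG τ₀) :=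
  Subgroup.closure (Set.range fun g : Fin 9 => sg hD hP h g.castSucc)

theorem H1_le : H1 hD hP h ≤ Cs1 := by
  rw [H1, Subgroup.closure_le]
  rintro _ ⟨g, rfl⟩
  exact sg_st1 hD hP h _ g.2

theorem H1_blk : H1 hD hP h ≤ Blk.comap mu := by
  rw [H1, Subgroup.closure_le]
  rintro _ ⟨g, rfl⟩
  exact sg_blk hD hP h _

omit hD hP h in
theorem lab_lt (k : Fin lab8.length) : (k : ℕ) < 120 := lab8_spec.1 ▸ k.2

/-- A place of the first class. -/
def emb (k : Fin lab8.length) : Fin 360 := ⟨k, by have := lab_lt k; omega⟩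

omit hD hP h in
theorem blk_emb (k : Fin lab8.length) : blk (emb k) = 0 :=
  Fin.ext (Nat.div_eq_of_lt (lab_lt k))

omit hD hP h in
theorem exists_emb {x : Fin 360} (hx : blk x = 0) : ∃ k, emb k = x := by
  have : (x : ℕ) / 120 = 0 := congrArg Fin.val hx
  exact ⟨⟨x, by rw [lab8_spec.1]; omega⟩, rfl⟩

/-- The image of a place of the first class. -/
noncomputable def resMv (g : ↥Cs1) (k : Fin lab8.length) : Fin lab8.length :=
  (exists_emb ((g.2 (emb k)).2 (blk_emb k))).choose

omit hD hP h in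
theorem emb_resMv (g : ↥Cs1) (k : Fin lab8.length) : emb (resMv g k) = mu (g : ↥(fixG τ₀)) (emb k) :=
  (exists_emb ((g.2 (emb k)).2 (blk_emb k))).choose_spec

omit hD hP h in
theorem emb_injective : Function.Injective emb := fun a b e =>
  Fin.ext (show ((emb a : Fin 360) : ℕ) = (emb b : ℕ) by rw [e])

omit hD hP h in
theorem resMv_mul (g g' : ↥Cs1) (k : Fin lab8.length) : resMv (g * g') k = resMv g (resMv g' k) :=
  emb_injective (by rw [emb_resMv, emb_resMv, emb_resMv, Subgroup.coe_mul, map_mul, Equiv.Perm.mul_apply])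

omit hD hP h in
theorem resMv_one (k : Fin lab8.length) : resMv 1 k = k :=
  emb_injective (by rw [emb_resMv, Subgroup.coe_one, map_one, Equiv.Perm.one_apply])

/-- The action on the first class. -/
noncomputable def res : ↥Cs1 →* Equiv.Perm (Fin lab8.length) where
  toFun g := ⟨resMv g, resMv g⁻¹, fun k => by rw [← resMv_mul, inv_mul_cancel, resMv_one],
    fun k => by rw [← resMv_mul, mul_inv_cancel, resMv_one]⟩
  map_one' := Equiv.ext resMv_one
  map_mul' a b := Equiv.ext (resMv_mul a b)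

theorem H1_range : ((res).comp (Subgroup.inclusion (H1_le hD hP h))).range =
    (OrthPerm.hom labels8).range := by
  choose R hR using exists_refl
  have hgen := OrthPerm.closure_eq_top (e := OrthCohom.eEight) (Q := Q₈) els8 10 (by omega)
    (fun k hk => (els8_prod k hk).1) els8_base.2.1 R hR (fun k hk h10 => (els8_prod k hk).2 h10) tab8 tab8_ok
  refine PermModel.range_eq _ _ (fun g : Fin 9 => (⟨sg hD hP h g.castSucc,
    Subgroup.subset_closure ⟨g, rfl⟩⟩ : ↥(H1 hD hP h))) (fun g : Fin 9 => R ((g : ℕ) + 1)) ?_ ?_ ?_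
  · refine eq_top_iff.2 ?_
    rintro ⟨x, hx⟩ -
    induction hx using Subgroup.closure_induction with
    | mem a ha => obtain ⟨g, rfl⟩ := ha; exact Subgroup.subset_closure ⟨g, rfl⟩
    | one => exact one_mem _
    | mul a b _ _ ha hb => exact mul_mem ha hb
    | inv a _ ha => exact inv_mem ha
  · refine eq_top_iff.2 (hgen.ge.trans (Subgroup.closure_mono ?_))
    rintro _ ⟨k, ⟨hk0, hk⟩, rfl⟩
    exact ⟨⟨k - 1, by omega⟩, by simp only; rw [show k - 1 + 1 = k by omega]⟩
  · intro g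
    refine Equiv.ext fun k => ?_
    symm
    refine OrthPerm.hom_apply labels8 (hR _ (by omega) (by omega))
      ((els8_prod _ (by have := els8_base.1; omega)).1) ?_
    have hc := Nat.eq_of_beq_eq_true (allFrom_get _ (allFrom_get _ refl8 g (Nat.zero_le _) (by omega)) k
      (Nat.zero_le _) (by have := lab_lt k; omega))
    have he : ((res ⟨sg hD hP h g.castSucc, sg_st1 hD hP h _ g.2⟩ k : Fin lab8.length) : ℕ) =
        cPerm g k := by
      show ((emb (resMv _ k) : Fin 360) : ℕ) = _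
      rw [emb_resMv]
      exact mu_sg hD hP h g.castSucc (emb k)
    rw [List.getD_eq_getElem _ _ k.2] at hc
    show OrthCohom.act _ lab8[(k : ℕ)] = lab8[((res ⟨sg hD hP h g.castSucc, _⟩ k : Fin lab8.length) : ℕ)]
    rw [hc, ← he, List.getD_eq_getElem _ _ (Fin.isLt _)]

/-- The two transversal elements. -/
noncomputable def cos : Fin 3 → ↥(fixG τ₀) :=
  ![1, sg hD hP h 3 * sg hD hP h 9, sg hD hP h 9]

theorem cos_blk (c : Fin 3) : mu (cos hD hP h c) ∈ Blk := by
  fin_cases c
  · exact (Blk.comap mu).one_mem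
  · exact (Blk.comap mu).mul_mem (sg_blk hD hP h 3) (sg_blk hD hP h 9)
  · exact sg_blk hD hP h 9

theorem cos_zero (c : Fin 3) : blk (mu (cos hD hP h c) 0) = c := by
  have hh := eq_of_and gen_swap
  fin_cases c
  · show blk (mu (1 : ↥(fixG τ₀)) 0) = 0
    rw [map_one]; rfl
  · refine Fin.ext ?_
    show (mu (sg hD hP h 3 * sg hD hP h 9) 0 : ℕ) / 120 = 1
    rw [map_mul, Equiv.Perm.mul_apply, mu_sg, mu_sg]
    exact Nat.eq_of_beq_eq_true hh.2
  · refine Fin.ext ?_
    show (mu (sg hD hP h 9) 0 : ℕ) / 120 = 2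
    rw [mu_sg]
    exact Nat.eq_of_beq_eq_true hh.1

/-- Orders, and the coset decomposition. -/
theorem fix_structure : Nat.card (fixG τ₀) = 1045094400 ∧ Nat.card ↥(Cs1) = 348364800 ∧
    H1 hD hP h = Cs1 ∧ Function.Injective res ∧ ∀ g, mu g ∈ Blk := by
  classical
  let f : Fin 3 × ↥(Cs1) → ↥(fixG τ₀) := fun q => cos hD hP h q.1 * q.2
  have hf : Function.Injective f := by
    rintro ⟨c, x⟩ ⟨c', x'⟩ e
    have key : ∀ (c : Fin 3) (x : ↥(Cs1)), blk (mu (cos hD hP h c * (x : ↥(fixG τ₀))) 0) = c := fun c x => by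
      obtain ⟨p, hp⟩ := cos_blk hD hP h c
      rw [map_mul, Equiv.Perm.mul_apply, hp, (x.2 0).2 rfl, show (0 : Fin 3) = blk 0 from rfl, ← hp,
        cos_zero]
    obtain rfl : c = c' := by
      rw [← key c x, ← key c' x']; exact congrArg (fun g => blk (mu g 0)) e
    exact Prod.ext rfl (Subtype.ext (mul_left_cancel e))
  have h3 : 3 * Nat.card ↥(Cs1) ≤ 1045094400 := by
    have := Nat.card_le_card_of_injective f hf
    rw [Nat.card_prod, Nat.card_fin] at this
    exact this.trans (Fk_bound hD hP h).1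
  have hr : Nat.card ((res).comp (Subgroup.inclusion (H1_le hD hP h))).range = 348364800 := by
    rw [H1_range, ← card_O8]
    exact (Nat.card_congr (MonoidHom.ofInjective (OrthPerm.hom_injective labels8)).toEquiv).symm
  have h1 : 348364800 ≤ Nat.card (H1 hD hP h) := hr ▸ Nat.card_le_card_of_surjective _
    (MonoidHom.rangeRestrict_surjective _)
  have hle := Subgroup.card_le_of_le (H1_le hD hP h)
  have heq : H1 hD hP h = Cs1 := Subgroup.eq_of_le_of_card_ge (H1_le hD hP h) (by omega)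
  have hcs : Nat.card ↥(Cs1) = 348364800 := by omega
  have hinj : Function.Injective res := by
    have hr' : Nat.card (res).range = 348364800 := by
      refine le_antisymm ?_ (hr ▸ Subgroup.card_le_of_le (by
        rintro _ ⟨x, rfl⟩; exact ⟨_, rfl⟩))
      exact hcs ▸ Nat.card_le_card_of_surjective _ (MonoidHom.rangeRestrict_surjective _)
    have := (Nat.bijective_iff_surjective_and_card (res).rangeRestrict).2
      ⟨MonoidHom.rangeRestrict_surjective _, by rw [hr', hcs]⟩
    intro a b e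
    exact this.1 (Subtype.ext e)
  have hfb : Function.Bijective f := by
    refine (Nat.bijective_iff_injective_and_card f).2 ⟨hf, ?_⟩
    have := Nat.card_le_card_of_injective f hf
    rw [Nat.card_prod, Nat.card_fin] at this ⊢
    have := (Fk_bound hD hP h).1
    omega
  refine ⟨?_, hcs, heq, hinj, fun g => ?_⟩
  · rw [← Nat.card_congr (Equiv.ofBijective f hfb), Nat.card_prod, Nat.card_fin, hcs]
  · obtain ⟨⟨c, x⟩, rfl⟩ := hfb.2 g
    show mu (cos hD hP h c * (x : ↥(fixG τ₀))) ∈ Blk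
    rw [map_mul]
    exact mul_mem (cos_blk hD hP h c) (H1_blk hD hP h (heq.symm.le x.2))

/-- The isomorphism with the orthogonal group. -/
theorem exists_psi : ∃ ψ : ↥(Cs1) ≃* O₈, ∀ x, OrthPerm.hom labels8 (ψ x) = res x := by
  obtain ⟨-, hcs, heq, hinj, -⟩ := fix_structure hD hP h
  have hr : (res).range = (OrthPerm.hom labels8).range := by
    rw [← H1_range hD hP h]
    refine le_antisymm ?_ (by rintro _ ⟨x, rfl⟩; exact ⟨_, rfl⟩)
    rintro _ ⟨x, rfl⟩
    exact ⟨⟨x, heq.symm.le x.2⟩, rfl⟩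
  obtain ⟨f, hfs, hf⟩ := PermModel.exists_hom (res) (OrthPerm.hom labels8) (OrthPerm.hom_injective labels8) hr
  exact ⟨MulEquiv.ofBijective f ((Nat.bijective_iff_surjective_and_card f).2 ⟨hfs, by rw [hcs, card_O8]⟩), hf⟩

/-- The permutation of the classes. -/
noncomputable def clsPerm (g : ↥(fixG τ₀)) : Equiv.Perm (Fin 3) :=
  ((fix_structure hD hP h).2.2.2.2 g).choose

theorem clsPerm_spec (g : ↥(fixG τ₀)) (k : Fin 360) :
    blk (mu g k) = clsPerm hD hP h g (blk k) :=
  ((fix_structure hD hP h).2.2.2.2 g).choose_spec k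

omit hD hP h in
theorem blk_surjective : Function.Surjective blk := fun c =>
  ⟨⟨120 * (c : ℕ), by omega⟩, Fin.ext (by show 120 * (c : ℕ) / 120 = c; omega)⟩

/-- The action on the classes. -/
noncomputable def chi3 : ↥(fixG τ₀) →* Equiv.Perm (Fin 3) :=
  MonoidHom.mk' (clsPerm hD hP h) fun a b => Equiv.ext fun c => by
    obtain ⟨k, rfl⟩ := blk_surjective c
    rw [Equiv.Perm.mul_apply, ← clsPerm_spec, ← clsPerm_spec, ← clsPerm_spec, map_mul,
      Equiv.Perm.mul_apply]

theorem chi3_zero {g : ↥(fixG τ₀)} : chi3 hD hP h g 0 = 0 ↔ g ∈ Cs1 := by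
  show clsPerm hD hP h g 0 = 0 ↔ _
  constructor
  · intro e k
    rw [clsPerm_spec hD hP h g k]
    exact ⟨fun e' => (clsPerm hD hP h g).injective (e'.trans e.symm), fun e' => by rw [e', e]⟩
  · intro hg
    rw [show (0 : Fin 3) = blk (0 : Fin 360) from rfl, ← clsPerm_spec]
    exact (hg 0).2 rfl

end CfsgLib.KnownA.FischerOut.T22Fix
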