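import Cfsg.Agent.Lib.KnownA.FischerOut.T22FixEight
import Cfsg.Agent.Lib.Classical.OrthOmega
import Cfsg.Agent.Lib.Solvable.PCore

/-!
The third representative of the outer involutions of Fi22 fixes an extension of an elementary abelian
group of order 64, generated by the products of 36 pairs of transpositions, by the orthogonal group
of minus type in dimension 6 over two elements.
-/

set_option autoImplicit false
set_option maxRecDepth 100000
set_option linter.unusedSectionVars false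

namespace CfsgLib.KnownA.FischerOut.T22Fix

open CfsgLib.InvChar CfsgLib.InvChar.Coset Cfsg.Spor
open T22 (act)
open T22Aut T22Invol CfsgLib.Trans3.Fi
open CfsgLib.StructC CfsgLib.Classical
open scoped commutatorElement

local instance : Finite Fi22 := SporFi22.card_le.1

local notation "g₃" => (SporFi22.gen 3 : Fi22)
local notation "g₈" => (SporFi22.gen 8 : Fi22)
local notation "Pt" => Fin FiA.table.n
local notation "τ₀" => T22Aut.tau
local notation "Q₆" => Cfsg.quadFormMinus 2 (ZMod 2) 1 1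
local notation "O₆" => Cfsg.isometryGroup (ZMod 2) (Cfsg.quadFormMinus 2 (ZMod 2) 1 1)

theorem conjInj {g g' : Fi22} (e : MulAut.conj g = MulAut.conj g') : g = g' := by
  refine act.inj (Equiv.ext fun i => ?_)
  show SporFi22.rep g i = SporFi22.rep g' i
  rw [← amove_conj, ← amove_conj, e]

theorem pts2_lt : ∀ k < 72, pts2.getD k 0 < 3510 := by decide +kernel

/-- A point fixed by the third representative. -/
def pb (k : Fin 72) : Pt := ⟨pts2.getD k 0, pts2_lt k k.2⟩

theorem pb_val (k : Fin 72) : (pb k : ℕ) = pts2.getD k 0 := rfl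

theorem pb_injective : Function.Injective pb := fun a b e => by
  have h : pts2.getD a 0 = pts2.getD b 0 := congrArg Fin.val e
  have ha : (a : ℕ) < pts2.length := by rw [pts2_nodup.2]; exact a.2
  have hb : (b : ℕ) < pts2.length := by rw [pts2_nodup.2]; exact b.2
  rw [List.getD_eq_getElem _ _ ha, List.getD_eq_getElem _ _ hb] at h
  exact Fin.ext ((pts2_nodup.1.getElem_inj_iff).1 h)

theorem target2_fixed (i : Pt) : amove (target 2) i = i ↔ ∃ k, pb k = i := by
  have hi : (i : ℕ) < 3510 := i.2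
  have hh := eq_of_beqB (allFrom_get _ tgt2_rows i (Nat.zero_le _) (by omega))
  rw [Fin.ext_iff, target_amove 2 (by omega)]
  constructor
  · intro e
    rw [e, Nat.beq_refl] at hh
    obtain ⟨x, hx, hxe⟩ := List.any_eq_true.1 hh.symm
    obtain ⟨k, hk⟩ := List.get_of_mem hx
    refine ⟨⟨k, pts2_nodup.2 ▸ k.2⟩, Fin.ext ?_⟩
    rw [pb_val, List.getD_eq_getElem _ _ k.2]
    exact hk.trans (Nat.eq_of_beq_eq_true hxe).symm
  · rintro ⟨k, rfl⟩
    refine Nat.eq_of_beq_eq_true (hh.trans (List.any_eq_true.2 ⟨_, ?_, Nat.beq_refl _⟩))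
    have hk : (k : ℕ) < pts2.length := by rw [pts2_nodup.2]; exact k.2
    rw [pb_val, List.getD_eq_getElem _ _ hk]
    exact List.getElem_mem _

theorem wB_check (k : Fin 72) : (∀ x ∈ wB.getD k [], x < 9) ∧ (pb k : ℕ) = pw FiA.table (wB.getD k []) := by
  have hh := eq_of_and (allFrom_get _ wB_rows k (Nat.zero_le _) (by omega))
  refine ⟨of_letters hh.1, ?_⟩
  rw [Nat.eq_of_beq_eq_true hh.2, pb_val]
  have hk : (k : ℕ) < pts2.length := by rw [pts2_nodup.2]; exact k.2
  rw [List.getD_eq_getElem _ _ hk, List.getD_eq_getElem _ _ hk]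

theorem d_pb (k : Fin 72) : act.d (pb k) = wel (pal (wB.getD k [])) :=
  d_point (wB_check k).1 (wB_check k).2

theorem rep_pb (i : Fin 72) (x : Pt) : (SporFi22.rep (act.d (pb i)) x : ℕ) = conB i x := by
  rw [d_pb, rep_wel (pal_lt9 (wB_check i).1)]
  rfl

theorem exists_placeB (g : ↥(fixG (target 2))) (k : Fin 72) : ∃ l, pb l = SporFi22.rep (g : Fi22) (pb k) :=
  (target2_fixed _).1 (amove_rep g.2 ((target2_fixed _).2 ⟨k, rfl⟩))

/-- The place of an image. -/
noncomputable def mvB (g : ↥(fixG (target 2))) (k : Fin 72) : Fin 72 := (exists_placeB g k).choose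

theorem pb_mvB (g : ↥(fixG (target 2))) (k : Fin 72) : pb (mvB g k) = SporFi22.rep (g : Fi22) (pb k) :=
  (exists_placeB g k).choose_spec

theorem mvB_one (k : Fin 72) : mvB 1 k = k :=
  pb_injective (by rw [pb_mvB, Subgroup.coe_one, map_one, Equiv.Perm.one_apply])

theorem mvB_mul (g g' : ↥(fixG (target 2))) (k : Fin 72) : mvB (g * g') k = mvB g (mvB g' k) :=
  pb_injective (by rw [pb_mvB, pb_mvB, pb_mvB, Subgroup.coe_mul, map_mul, Equiv.Perm.mul_apply])

/-- The action on the 72 points. -/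
noncomputable def muB : ↥(fixG (target 2)) →* Equiv.Perm (Fin 72) where
  toFun g := ⟨mvB g, mvB g⁻¹, fun k => by rw [← mvB_mul, inv_mul_cancel, mvB_one],
    fun k => by rw [← mvB_mul, mul_inv_cancel, mvB_one]⟩
  map_one' := Equiv.ext mvB_one
  map_mul' a b := Equiv.ext (mvB_mul a b)

/-- The generators. -/
noncomputable def genB (k : Fin 72) : ↥(fixG (target 2)) :=
  ⟨act.d (pb k), d_mem_fixG ((target2_fixed _).2 ⟨k, rfl⟩)⟩

/-- The pair of a place. -/
def pidx (k : Fin 72) : Fin lab6.length := ⟨(k : ℕ) / 2, by rw [lab6_spec.1]; omega⟩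

theorem pidx_surjective : Function.Surjective pidx := fun c =>
  ⟨⟨2 * (c : ℕ), by have h := c.2; have := lab6_spec.1; omega⟩,
    Fin.ext (by show 2 * (c : ℕ) / 2 = c; omega)⟩

theorem labels6 : OrthPerm.Labels OrthCohom.eSix Q₆ lab6 :=
  ⟨lab6_spec.2.1, lab6_spec.2.2.1, lab6_spec.2.2.2.1, lab6_spec.2.2.2.2⟩

/-- The reflections. -/
theorem exists_refl6 (k : ℕ) : ∃ r : O₆, 0 < k → k < 37 →
    OrthCohom.mat Q₆ r = OrthCohom.toMat OrthCohom.eSix (els6.getD k ([], 0, 0)).1 := by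
  by_cases hk : 0 < k ∧ k < 37
  · obtain ⟨r, hr⟩ := OrthCohom.exists_iso _ _ (els6_base.2.2 (k - 1) (by omega))
    exact ⟨r, fun _ _ => by rwa [show k - 1 + 1 = k by omega] at hr⟩
  · exact ⟨1, fun a b => absurd ⟨a, b⟩ hk⟩

/-- The reflection of a pair. -/
noncomputable def R6 (k : ℕ) : O₆ := (exists_refl6 k).choose

theorem R6_spec {k : ℕ} (h0 : 0 < k) (h1 : k < 37) :
    OrthCohom.mat Q₆ (R6 k) = OrthCohom.toMat OrthCohom.eSix (els6.getD k ([], 0, 0)).1 :=
  (exists_refl6 k).choose_spec h0 h1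

theorem els6_len {k : ℕ} (hk : k < 37) : (els6.getD k ([], 0, 0)).1.length = 6 :=
  (els6_prod k (by have := els6_base.1; omega)).1

theorem genB_pairs (i j : Fin 72) :
    pidx (muB (genB i) j) = OrthPerm.hom labels6 (R6 ((i : ℕ) / 2 + 1)) (pidx j) := by
  symm
  refine OrthPerm.hom_apply labels6 (R6_spec (by omega) (by omega)) (els6_len (by omega)) ?_
  have hh := allFrom_get _ (allFrom_get _ refl6 i (Nat.zero_le _) (by omega)) j (Nat.zero_le _) (by omega)
  rw [force_eq, Bool.and_eq_true] at hh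
  have hl : pts2.idxOf (conB i (pts2.getD j 0)) = ((muB (genB i) j : Fin 72) : ℕ) := by
    rw [← pb_val j, ← rep_pb i (pb j), show SporFi22.rep (act.d (pb i)) (pb j) = pb (mvB (genB i) j) from
      (pb_mvB (genB i) j).symm, pb_val]
    have hm : ((mvB (genB i) j : Fin 72) : ℕ) < pts2.length := by rw [pts2_nodup.2]; exact Fin.isLt _
    rw [List.getD_eq_getElem _ _ hm]
    exact pts2_nodup.1.idxOf_getElem _ hm
  rw [hl] at hh
  have h2 := Nat.eq_of_beq_eq_true hh.2
  rw [List.getD_eq_getElem _ _ (show (j : ℕ) / 2 < lab6.length from (pidx j).2),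
    List.getD_eq_getElem _ _ (show (muB (genB i) j : ℕ) / 2 < lab6.length from (pidx (muB (genB i) j)).2)] at h2
  exact h2.symm

theorem ab_form : ∀ z₁ z₂ : ZMod 2, z₁ ^ 2 + 1 * z₁ * z₂ + 1 * z₂ ^ 2 = 0 → z₁ = 0 ∧ z₂ = 0 := by decide

theorem card_O6 : Nat.card O₆ = 51840 := by
  rw [← qfMinus_coe, ← Nat.card_congr (Geom.orEquiv _).toEquiv, card_qfMinus_isoms ab_form 2, ZMod.card]
  rfl

theorem omega6_index : (Cfsg.Omega (ZMod 2) Q₆).index = 2 := by
  rw [← qfMinus_coe]
  exact Geom.omega_index_even _ (qfMinus_sep 2 ab_form) (Or.inr (by simp [Module.finrank_fintype_fun_eq_card]))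
    (by decide) (by simp)

theorem omega6_simple : IsSimpleGroup ↥(Cfsg.Omega (ZMod 2) Q₆) := by
  rw [← qfMinus_coe]
  have hb := Subgroup.card_eq_one.1 (card_center_omega_one (qfMinus 2 (ZMod 2) 1 1) (qfMinus_sep 2 ab_form)
    (by simp) (Or.inl (by decide)))
  have := isSimpleGroup_pOmega (qfMinus 2 (ZMod 2) 1 1) (qfMinus_sep 2 ab_form) (by simp)
  exact ((QuotientGroup.quotientBot.symm).trans (QuotientGroup.quotientMulEquivOfEq hb.symm)).isSimpleGroup

theorem O6_pCore (N : Subgroup O₆) [hN : N.Normal] (h2 : IsPGroup 2 N) : N = ⊥ := by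
  haveI := omega6_simple
  obtain ⟨M, eM⟩ : ∃ M : Subgroup ↥(Cfsg.Omega (ZMod 2) Q₆), M = N.subgroupOf (Cfsg.Omega (ZMod 2) Q₆) :=
    ⟨_, rfl⟩
  haveI : M.Normal := eM ▸ hN.subgroupOf _
  have hM : M = ⊥ := by
    rcases (inferInstance : M.Normal).eq_bot_or_eq_top with e | e
    · exact e
    exfalso
    rw [eM, Subgroup.subgroupOf_eq_top] at e
    obtain ⟨n, hn⟩ := IsPGroup.iff_card.1 (h2.to_le e)
    have h := Subgroup.card_mul_index (Cfsg.Omega (ZMod 2) Q₆)
    rw [hn, omega6_index, card_O6] at h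
    have h5 : 5 ∣ 2 ^ n * 2 := by rw [h]; decide
    rcases (Nat.Prime.dvd_mul (by norm_num)).1 h5 with h' | h'
    · have := (Nat.Prime.dvd_of_dvd_pow (by norm_num : Nat.Prime 5) h')
      omega
    · omega
  rw [eq_bot_iff]
  intro x hx
  rw [Subgroup.mem_bot]
  have hc : ∀ g : O₆, x * g = g * x := by
    intro g
    obtain ⟨c, ec⟩ : ∃ c, c = ⁅x, g⁆ := ⟨_, rfl⟩
    have hcO : c ∈ Cfsg.Omega (ZMod 2) Q₆ :=
      ec ▸ Subgroup.commutator_mem_commutator (Subgroup.mem_top x) (Subgroup.mem_top g)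
    have hcN : c ∈ N := by
      rw [ec, commutatorElement_def, mul_assoc, mul_assoc]
      refine mul_mem hx ?_
      rw [← mul_assoc]
      exact hN.conj_mem _ (inv_mem hx) g
    have : (⟨c, hcO⟩ : ↥(Cfsg.Omega (ZMod 2) Q₆)) ∈ M := eM ▸ hcN
    rw [hM, Subgroup.mem_bot] at this
    rw [← commutatorElement_eq_one_iff_mul_comm, ← ec]
    exact congrArg Subtype.val this
  refine OrthPerm.hom_injective labels6 (Equiv.ext fun k => ?_)
  rw [map_one, Equiv.Perm.one_apply]
  by_contra hne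
  have hk : (k : ℕ) < 36 := lab6_spec.1 ▸ k.2
  have hk' : ((OrthPerm.hom labels6 x k : Fin lab6.length) : ℕ) < 36 := lab6_spec.1 ▸ Fin.isLt _
  obtain ⟨j, hj, h1, h2⟩ := perp6 k hk _ hk' (fun e => hne (Fin.ext e))
  rw [List.getD_eq_getElem _ _ k.2] at h1
  rw [List.getD_eq_getElem _ _ (Fin.isLt _)] at h2
  have hfix : OrthPerm.hom labels6 (R6 (j + 1)) k = k :=
    OrthPerm.hom_apply labels6 (R6_spec (by omega) (by omega)) (els6_len (by omega)) h1
  have h3 : OrthPerm.hom labels6 (R6 (j + 1)) (OrthPerm.hom labels6 x k) = OrthPerm.hom labels6 x k := by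
    rw [← Equiv.Perm.mul_apply, ← map_mul, ← hc, map_mul, Equiv.Perm.mul_apply, hfix]
  refine h2 ?_
  have := OrthPerm.vec_move labels6 (R6 (j + 1)) (OrthPerm.hom labels6 x k)
  rw [show OrthPerm.move labels6 (R6 (j + 1)) (OrthPerm.hom labels6 x k) = OrthPerm.hom labels6 x k from h3,
    OrthPerm.vec, R6_spec (by omega) (by omega), OrthCohom.toMat_mulVec _ (els6_len (by omega))] at this
  have h4 := OrthCohom.mod_eq_of_dec_eq _ this
  have hb := labels6.mem _ (lab6.get_mem (OrthPerm.hom labels6 x k))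
  rw [Nat.mod_eq_of_lt hb.1, Nat.mod_eq_of_lt ?_] at h4
  · exact h4.symm
  · obtain ⟨k', hk''⟩ := OrthPerm.exists_image labels6 (R6 (j + 1)) (OrthPerm.hom labels6 x k)
    have hlen := els6_len (show j + 1 < 37 by omega)
    exact (by decide +kernel : ∀ j < 36, ∀ i < 36,
      OrthCohom.act (els6.getD (j + 1) ([], 0, 0)).1 (lab6.getD i 0) < 2 ^ 6) j hj _ hk' |>
        fun q => by rwa [List.getD_eq_getElem _ _ (Fin.isLt _)] at q

/-- The permutations of the places that permute the pairs. -/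
def Blk2 : Subgroup (Equiv.Perm (Fin 72)) where
  carrier := {σ | ∃ f : Equiv.Perm (Fin lab6.length), ∀ k, pidx (σ k) = f (pidx k)}
  one_mem' := ⟨1, fun _ => rfl⟩
  mul_mem' := by
    rintro σ π ⟨f, hf⟩ ⟨f', hf'⟩
    exact ⟨f * f', fun k => by rw [Equiv.Perm.mul_apply, hf, hf']; rfl⟩
  inv_mem' := by
    rintro σ ⟨f, hf⟩
    refine ⟨f⁻¹, fun k => ?_⟩
    obtain ⟨l, rfl⟩ := σ.surjective k
    rw [hf, Equiv.Perm.inv_def, Equiv.Perm.inv_def, Equiv.symm_apply_apply, Equiv.symm_apply_apply]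

/-- The subgroup permuting the pairs. -/
noncomputable def HB : Subgroup ↥(fixG (target 2)) := Blk2.comap muB

theorem genB_HB (i : Fin 72) : genB i ∈ HB := ⟨_, genB_pairs i⟩

/-- The permutation of the pairs. -/
noncomputable def pairPerm (g : ↥HB) : Equiv.Perm (Fin lab6.length) := g.2.choose

theorem pairPerm_spec (g : ↥HB) (k : Fin 72) :
    pidx (muB (g : ↥(fixG (target 2))) k) = pairPerm g (pidx k) := g.2.choose_spec k

/-- The action on the pairs. -/
noncomputable def chiB : ↥HB →* Equiv.Perm (Fin lab6.length) :=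
  MonoidHom.mk' pairPerm fun a b => Equiv.ext fun c => by
    obtain ⟨k, rfl⟩ := pidx_surjective c
    rw [Equiv.Perm.mul_apply, ← pairPerm_spec, ← pairPerm_spec, ← pairPerm_spec, Subgroup.coe_mul, map_mul,
      Equiv.Perm.mul_apply]

theorem chiB_gen (i : Fin 72) :
    chiB ⟨genB i, genB_HB i⟩ = OrthPerm.hom labels6 (R6 ((i : ℕ) / 2 + 1)) := Equiv.ext fun c => by
  obtain ⟨k, rfl⟩ := pidx_surjective c
  show pairPerm _ _ = _
  rw [← pairPerm_spec]
  exact genB_pairs i k

/-- The product of the transpositions of a pair. -/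
noncomputable def pairG (c : Fin 36) : ↥(fixG (target 2)) :=
  genB ⟨2 * (c : ℕ) + 1, by omega⟩ * genB ⟨2 * (c : ℕ), by omega⟩

theorem pairW_lt (c : Fin 36) : ∀ x ∈ pairW c, x < 9 := by
  intro x hx
  rcases List.mem_append.1 hx with hx | hx
  · exact pal_lt9 (wB_check ⟨2 * (c : ℕ), by omega⟩).1 x hx
  · exact pal_lt9 (wB_check ⟨2 * (c : ℕ) + 1, by omega⟩).1 x hx

theorem wel_append (L M : List ℕ) : wel (L ++ M) = wel M * wel L := by
  rw [wel, List.reverse_append, wprod_append]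
  rfl

theorem pairG_val (c : Fin 36) : (pairG c : Fi22) = wel (pairW c) := by
  rw [pairW, wel_append]
  show act.d _ * act.d _ = _
  rw [d_pb, d_pb]

/-- The basis of the radical. -/
noncomputable def radG (b : Fin 6) : ↥(fixG (target 2)) :=
  pairG ⟨bas6.getD b 0, (pair_trivial b b.2).1⟩

theorem radG_HB (b : Fin 6) : radG b ∈ HB := mul_mem (genB_HB _) (genB_HB _)

/-- The radical. -/
noncomputable def EB : Subgroup ↥HB := Subgroup.closure (Set.range fun b => (⟨radG b, radG_HB b⟩ : ↥HB))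

theorem EB_le_ker : EB ≤ chiB.ker := by
  rw [EB, Subgroup.closure_le]
  rintro _ ⟨b, rfl⟩
  refine MonoidHom.mem_ker.2 (Equiv.ext fun c => ?_)
  obtain ⟨k, rfl⟩ := pidx_surjective c
  show pairPerm _ _ = _
  rw [← pairPerm_spec]
  refine Fin.ext ?_
  show ((muB (radG b) k : Fin 72) : ℕ) / 2 = (k : ℕ) / 2
  obtain ⟨hc, h2, -⟩ := pair_trivial b b.2
  rw [← h2 k k.2]
  refine congrArg (· / 2) ?_
  show ((mvB (radG b) k : Fin 72) : ℕ) = _
  have hm : ((mvB (radG b) k : Fin 72) : ℕ) < pts2.length := by rw [pts2_nodup.2]; exact Fin.isLt _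
  conv_lhs => rw [← pts2_nodup.1.idxOf_getElem _ hm]
  refine congrArg (fun x => List.idxOf x pts2) ?_
  rw [← List.getD_eq_getElem _ 0 hm, ← pb_val, pb_mvB]
  show (SporFi22.rep (act.d (pb _) * act.d (pb _)) (pb k) : ℕ) = _
  rw [map_mul, Equiv.Perm.mul_apply, rep_pb, rep_pb]
  rfl

theorem radG_comm (b c : Fin 6) : (radG b : Fi22) * radG c = radG c * radG b := by
  rw [radG, radG, pairG_val, pairG_val, ← wel_append, ← wel_append]
  obtain ⟨hb, -, -, h4⟩ := pair_trivial b b.2
  have hc := (pair_trivial c c.2).1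
  have hl : ∀ {u v : Fin 36}, ∀ x ∈ pairW u ++ pairW v, x < 9 := fun {u v} x hx =>
    (List.mem_append.1 hx).elim (pairW_lt u x) (pairW_lt v x)
  refine conjInj ?_
  refine aut_ext fun p hp => Fin.ext ?_
  rw [amove_wel hl, amove_wel hl]
  exact (h4 c c.2 p hp).symm

theorem radG_sq (b : Fin 6) : (radG b : Fi22) * radG b = 1 := by
  rw [radG, pairG_val, ← wel_append]
  refine conjInj ?_
  refine aut_ext fun p hp => Fin.ext ?_
  rw [amove_wel (fun x hx => (List.mem_append.1 hx).elim (pairW_lt _ x) (pairW_lt _ x)), map_one, amove_one]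
  exact (pair_trivial b b.2).2.2.1 p hp

end CfsgLib.KnownA.FischerOut.T22Fix
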