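import Cfsg.Agent.Lib.KnownA.FischerOut.T22FixMinus

/-!
The structure of the subgroup fixed by the third representative of the outer involutions of Fi22.
-/

set_option autoImplicit false
set_option maxRecDepth 100000
set_option linter.unusedSectionVars false

namespace CfsgLib.KnownA.FischerOut.T22Fix

open CfsgLib.InvChar CfsgLib.InvChar.Coset Cfsg.Spor
open T22 (act)
open T22Aut T22Invol CfsgLib.Trans3.Fi
open CfsgLib.StructC CfsgLib.Classical

local instance : Finite Fi22 := SporFi22.card_le.1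

local notation "g₃" => (SporFi22.gen 3 : Fi22)
local notation "g₈" => (SporFi22.gen 8 : Fi22)
local notation "τ₀" => T22Aut.tau
local notation "O₆" => Cfsg.isometryGroup (ZMod 2) (Cfsg.quadFormMinus 2 (ZMod 2) 1 1)

theorem pb_ab : act.d (pb 0) = g₃ ∧ act.d (pb 1) = g₈ ∧ pb 0 = bpt 0 ∧ pb 1 = bpt 1 := by
  have e0 : pb 0 = bpt 0 := Fin.ext (by rw [pb_val, bpt_val 0 (by omega)]; exact pts2_start.1)
  have e1 : pb 1 = bpt 1 := Fin.ext (by rw [pb_val, bpt_val 1 (by omega)]; exact pts2_start.2)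
  exact ⟨by rw [e0]; exact (bpt_gen 0 (by omega)).2, by rw [e1]; exact (bpt_gen 1 (by omega)).2, e0, e1⟩

/-- Commutation between two of the 72. -/
theorem commute_pb (i j : Fin 72) :
    Commute (act.d (pb i)) (act.d (pb j)) ↔ conB i (pb j : ℕ) = (pb j : ℕ) := by
  rw [act.commute_iff, Fin.ext_iff]
  show (SporFi22.rep (act.d (pb i)) (pb j) : ℕ) = _ ↔ _
  rw [rep_pb]

theorem commute_pb_zero (j : Fin 72) :
    Commute (act.d (pb 0)) (act.d (pb j)) ↔ FiA.table.follow [3] (pb j : ℕ) = (pb j : ℕ) := by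
  rw [act.commute_iff, Fin.ext_iff]
  show (SporFi22.rep (act.d (pb 0)) (pb j) : ℕ) = _ ↔ _
  rw [pb_ab.1, g_three, rep_wel (by simp)]

theorem beqB_iff {a b c d : ℕ} (h : beqB (Nat.beq a b) (Nat.beq c d) = true) : a = b ↔ c = d := by
  have e := eq_of_beqB h
  constructor
  · rintro rfl; rw [Nat.beq_refl] at e; exact Nat.eq_of_beq_eq_true e.symm
  · rintro rfl; rw [Nat.beq_refl] at e; exact Nat.eq_of_beq_eq_true e

theorem fix_b {g : ↥(fixG (target 2))} (h0 : mvB g 0 = 0) : mvB g 1 = 1 := by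
  have hconj : ∀ i j, Commute (act.d (pb i)) (act.d (pb j)) ↔
      Commute (act.d (pb (mvB g i))) (act.d (pb (mvB g j))) := fun i j => by
    rw [pb_mvB, pb_mvB, show act.d (SporFi22.rep (g : Fi22) (pb i)) = (g : Fi22) * act.d (pb i) * (g : Fi22)⁻¹
      from (act.conj_d _ _).symm, show act.d (SporFi22.rep (g : Fi22) (pb j)) =
        (g : Fi22) * act.d (pb j) * (g : Fi22)⁻¹ from (act.conj_d _ _).symm]
    exact ⟨fun e => e.map (MulAut.conj (g : Fi22)).toMonoidHom, fun e =>
      Commute.of_map (f := (MulAut.conj (g : Fi22)).toMonoidHom) (MulAut.conj (g : Fi22)).injective e⟩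
  obtain ⟨x, ex⟩ : ∃ x, x = mvB g 1 := ⟨_, rfl⟩
  rw [← ex]
  by_contra hne
  have hx0 : x ≠ 0 := fun e => absurd ((muB g).injective (show muB g 1 = muB g 0 from
    (ex.symm.trans e).trans h0.symm)) (by decide)
  have hx : 2 ≤ (x : ℕ) := by
    have : (x : ℕ) ≠ 0 := fun e => hx0 (Fin.ext e)
    have : (x : ℕ) ≠ 1 := fun e => hne (Fin.ext e)
    omega
  have hh := allFrom_get _ partner_rows x hx (by omega)
  rw [Bool.not_eq_true'] at hh
  refine absurd ?_ (Bool.eq_false_iff.1 hh)
  have hall : ∀ n ≤ 72, allFrom (fun j => beqB (Nat.beq (conB x (pts2.getD j 0)) (pts2.getD j 0))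
      (Nat.beq (FiA.table.follow [3] (pts2.getD j 0)) (pts2.getD j 0))) 0 n = true := by
    intro n
    induction n with
    | zero => intro _; rfl
    | succ n ih =>
      intro hn
      show (_ && _) = true
      rw [Bool.and_eq_true]
      refine ⟨?_, ih (by omega)⟩
      obtain ⟨j, ej⟩ : ∃ j : Fin 72, (j : ℕ) = 0 + n := ⟨⟨0 + n, by omega⟩, rfl⟩
      obtain ⟨m, hm⟩ := (muB g).surjective j
      have hm' : mvB g m = j := hm
      have h1 : Commute (act.d (pb x)) (act.d (pb j)) ↔ Commute (act.d (pb 0)) (act.d (pb j)) := by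
        rw [← hm', ex, ← hconj]
        conv_rhs => rw [← h0, ← hconj]
        rw [commute_pb, commute_pb_zero]
        exact beqB_iff (allFrom_get _ partner_ab m (Nat.zero_le _) (by omega))
      rw [commute_pb, commute_pb_zero, pb_val] at h1
      rw [← ej]
      show beqB _ _ = true
      by_cases hc : conB x (pts2.getD j 0) = pts2.getD j 0
      · rw [hc, h1.1 hc, Nat.beq_refl]; rfl
      · rw [Bool.eq_false_iff.2 fun q => hc (Nat.eq_of_beq_eq_true q),
          Bool.eq_false_iff.2 fun q => hc (h1.2 (Nat.eq_of_beq_eq_true q))]; rfl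
  exact hall 72 le_rfl

/-- The word of a member of the radical over a list of digits. -/
theorem rad_mem (m : ℕ) : ∀ L : List ℕ, (∀ b ∈ L, b < 6) →
    ∃ x ∈ EB, ((x : ↥(fixG (target 2))) : Fi22) =
      wel ((L.map fun b => bif m.testBit b then pairW (bas6.getD b 0) else []).flatten) := by
  intro L
  induction L with
  | nil => intro _; exact ⟨1, one_mem _, by simp [wel, wprod]⟩
  | cons b L ih =>
    intro hL
    obtain ⟨hb, hL'⟩ := List.forall_mem_cons.1 hL
    obtain ⟨x, hx, ex⟩ := ih hL'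
    rw [List.map_cons, List.flatten_cons, wel_append, ← ex]
    cases m.testBit b
    · exact ⟨x, hx, by simp [wel, wprod]⟩
    · refine ⟨x * ⟨radG ⟨b, hb⟩, radG_HB _⟩, mul_mem hx (Subgroup.subset_closure ⟨_, rfl⟩), ?_⟩
      simp only [cond_true, Subgroup.coe_mul, radG, pairG_val]

theorem card_EB : 64 ≤ Nat.card ↥EB := by
  have hx : ∀ m : Fin 64, ∃ x : ↥EB, (((x : ↥HB) : ↥(fixG (target 2))) : Fi22) = wel (radW m) := fun m => by
    obtain ⟨x, hx, ex⟩ := rad_mem m (List.range 6) fun b hb => List.mem_range.1 hb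
    exact ⟨⟨x, hx⟩, ex⟩
  choose F hF using hx
  have hlt : ∀ m : ℕ, ∀ x ∈ radW m, x < 9 := by
    intro m x hx
    simp only [radW, List.mem_flatten, List.mem_map, List.mem_range] at hx
    obtain ⟨l, ⟨b, hb, rfl⟩, hx⟩ := hx
    cases hmb : m.testBit b <;> rw [hmb] at hx
    · exact absurd hx List.not_mem_nil
    · exact pairW_lt ⟨bas6.getD b 0, (pair_trivial b hb).1⟩ x hx
  have hinj : Function.Injective F := fun a b e => by
    have e' : wel (radW a) = wel (radW b) := by rw [← hF, ← hF, e]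
    refine Fin.ext (List.inj_on_of_nodup_map rad_distinct (List.mem_range.2 a.2) (List.mem_range.2 b.2) ?_)
    refine List.map_congr_left fun s hs => ?_
    have hs72 : s < 72 := (by decide +kernel : ∀ s ∈ sep6, s < 72) s hs
    have := congrArg (fun w => (SporFi22.rep w (pb ⟨s, hs72⟩) : ℕ)) e'
    rw [rep_wel (hlt a), rep_wel (hlt b)] at this
    exact this
  simpa using Nat.card_le_card_of_injective F hinj

variable (hD : Cfsg.IsThreeTranspositionGroup (conjugatesOf (SporFi22.gen 0 : Fi22)))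
variable (hP : Cfsg.IsPrimitiveUnderConj (conjugatesOf (SporFi22.gen 0 : Fi22)))
variable (h : Cfsg.IsOfTypeM22 Fi22 (conjugatesOf (SporFi22.gen 0 : Fi22)))
include hD hP h

theorem card_fix_two : Nat.card (fixG (target 2)) ≤ 3317760 := by
  classical
  obtain ⟨K, eK⟩ : ∃ K : Subgroup ↥(fixG (target 2)),
      K = (MulAction.stabilizer (Equiv.Perm (Fin 72)) (0 : Fin 72)).comap muB := ⟨_, rfl⟩
  have hi : K.index ≤ 72 := by
    rw [Subgroup.index]
    refine (Nat.card_le_card_of_injective (fun q : ↥(fixG (target 2)) ⧸ K => mvB q.out 0) ?_).trans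
      (le_of_eq (Nat.card_fin 72))
    intro q q' e
    rw [← QuotientGroup.out_eq' q, ← QuotientGroup.out_eq' q']
    refine QuotientGroup.eq.2 ((SetLike.ext_iff.1 eK _).2 (MulAction.mem_stabilizer_iff.2 ?_))
    show muB ((q.out)⁻¹ * q'.out) 0 = 0
    rw [map_mul, Equiv.Perm.mul_apply, map_inv, Equiv.Perm.inv_eq_iff_eq]
    exact e.symm
  have hc : ∀ x : ↥K, ((x : ↥(fixG (target 2))) : Fi22) ∈ Fk 2 := by
    rintro ⟨x, hx⟩
    have h0 : mvB x 0 = 0 := by
      rw [eK] at hx; exact MulAction.mem_stabilizer_iff.1 hx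
    have h1 := fix_b h0
    have r0 : SporFi22.rep (x : Fi22) (pb 0) = pb 0 := by rw [← pb_mvB, h0]
    have r1 : SporFi22.rep (x : Fi22) (pb 1) = pb 1 := by rw [← pb_mvB, h1]
    obtain ⟨a0, a1, b0, b1⟩ := pb_ab
    have c0 : (x : Fi22) * g₃ * (x : Fi22)⁻¹ = g₃ := by
      have := act.conj_d (x : Fi22) (pb 0)
      rwa [show act.rep (x : Fi22) (pb 0) = pb 0 from r0, a0] at this
    have c1 : (x : Fi22) * g₈ * (x : Fi22)⁻¹ = g₈ := by
      have := act.conj_d (x : Fi22) (pb 1)
      rwa [show act.rep (x : Fi22) (pb 1) = pb 1 from r1, a1] at this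
    refine ⟨?_, fun j hj => ?_⟩
    · have h2 : target 2 (x : Fi22) = x := x.2
      have hcm : Commute (g₃ * g₈) (x : Fi22) :=
        Commute.mul_left (mul_inv_eq_iff_eq_mul.1 c0).symm (mul_inv_eq_iff_eq_mul.1 c1).symm
      have key : ∀ y : Fi22, Commute (g₃ * g₈) y → target 2 y = τ₀ y := fun y hy => by
        rw [target_two, MulAut.mul_apply, MulAut.conj_apply, hy.eq, mul_inv_cancel_right]
      exact (key _ hcm).symm.trans h2
    · rcases (by omega : j = 0 ∨ j = 1) with rfl | rfl
      · rw [← b0]; exact r0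
      · rw [← b1]; exact r1
  have hcard : Nat.card ↥K ≤ Nat.card (Fk 2) :=
    Nat.card_le_card_of_injective (fun x => (⟨_, hc x⟩ : ↥(Fk 2))) fun a b e =>
      by
      have e' := congrArg Subtype.val e
      exact Subtype.ext (Subtype.ext e')
  rw [← Subgroup.card_mul_index K]
  calc Nat.card ↥K * K.index ≤ 46080 * 72 := Nat.mul_le_mul (hcard.trans (Fk_bound hD hP h).2.2) hi
    _ = 3317760 := by norm_num

/-- The radical is elementary of order 64, with quotient the orthogonal group. -/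
theorem fix_two_structure : ∃ O : Subgroup Fi22,
    O = (Cfsg.pCore 2 ↥(fixG (target 2))).map (fixG (target 2)).subtype ∧
    Cfsg.IsElementaryAbelian 2 O ∧ Nat.card O = 64 ∧ ∃ _ : (O.subgroupOf (fixG (target 2))).Normal,
      Nonempty (↥(fixG (target 2)) ⧸ O.subgroupOf (fixG (target 2)) ≃* O₆) := by
  classical
  have hr : (OrthPerm.hom labels6).range ≤ chiB.range := by
    have hgen := OrthPerm.closure_eq_top (e := OrthCohom.eSix) (Q := Cfsg.quadFormMinus 2 (ZMod 2) 1 1)
      els6 37 (by omega) (fun k hk => (els6_prod k hk).1) els6_base.2.1 R6 (fun k a b => R6_spec a b)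
      (fun k hk h37 => (els6_prod k hk).2 h37) tab6 tab6_ok
    rw [MonoidHom.range_eq_map, ← hgen, MonoidHom.map_closure, Subgroup.closure_le]
    rintro _ ⟨_, ⟨k, ⟨hk0, hk⟩, rfl⟩, rfl⟩
    refine ⟨⟨genB ⟨2 * (k - 1), by omega⟩, genB_HB _⟩, ?_⟩
    rw [chiB_gen]
    congr 2
    show 2 * (k - 1) / 2 + 1 = k
    omega
  have hcr : 51840 ≤ Nat.card chiB.range := by
    rw [← card_O6, Nat.card_congr (MonoidHom.ofInjective (OrthPerm.hom_injective labels6)).toEquiv]
    exact Subgroup.card_le_of_le hr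
  have hmul : Nat.card ↥chiB.ker * Nat.card chiB.range = Nat.card ↥HB := by
    rw [← Subgroup.index_ker]; exact Subgroup.card_mul_index _
  have hker : 64 ≤ Nat.card ↥chiB.ker := card_EB.trans (Subgroup.card_le_of_le EB_le_ker)
  have hHB := Subgroup.card_le_card_group HB
  have hup := card_fix_two hD hP h
  have hlow : 64 * 51840 ≤ Nat.card ↥chiB.ker * Nat.card chiB.range := Nat.mul_le_mul hker hcr
  have hk64 : Nat.card ↥chiB.ker = 64 := by
    by_contra hne
    have : 65 * 51840 ≤ Nat.card ↥chiB.ker * Nat.card chiB.range := Nat.mul_le_mul (by omega) hcr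
    omega
  have hr64 : Nat.card chiB.range = 51840 := by rw [hk64] at hmul hlow; omega
  have hrange : chiB.range = (OrthPerm.hom labels6).range :=
    (Subgroup.eq_of_le_of_card_ge hr (by
      rw [hr64, ← card_O6, Nat.card_congr (MonoidHom.ofInjective (OrthPerm.hom_injective labels6)).toEquiv])).symm
  have htop : HB = ⊤ := Subgroup.eq_top_of_card_eq HB (by rw [hk64, hr64] at hmul; omega)
  have hEB : EB = chiB.ker :=
    Subgroup.eq_of_le_of_card_ge EB_le_ker (hk64 ▸ card_EB)
  obtain ⟨f0, hfs, hf⟩ := PermModel.exists_hom chiB (OrthPerm.hom labels6) (OrthPerm.hom_injective labels6) hrange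
  let e : ↥(fixG (target 2)) ≃* ↥HB := Subgroup.topEquiv.symm.trans (MulEquiv.subgroupCongr htop.symm)
  let f : ↥(fixG (target 2)) →* O₆ := f0.comp e.toMonoidHom
  have hfsur : Function.Surjective f := hfs.comp e.surjective
  have hfker : ∀ x, x ∈ f.ker ↔ e x ∈ EB := fun x => by
    rw [hEB, MonoidHom.mem_ker, MonoidHom.mem_ker]
    show f0 (e x) = 1 ↔ _
    rw [← hf]
    exact ⟨fun q => by rw [q, map_one], fun q => OrthPerm.hom_injective labels6 (q.trans (map_one _).symm)⟩
  have hcomm : ∀ x ∈ EB, ∀ y ∈ EB, x * y = y * x := by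
    intro x hx y hy
    refine congrArg Subtype.val ((Subgroup.isMulCommutative_closure ?_).is_comm.comm (⟨x, hx⟩ : ↥EB) ⟨y, hy⟩)
    rintro _ ⟨b, rfl⟩ _ ⟨c, rfl⟩
    exact Subtype.ext (Subtype.ext (radG_comm b c))
  have hsq : ∀ x ∈ EB, x * x = 1 := by
    intro x hx
    have hx' := hx
    rw [EB] at hx
    induction hx using Subgroup.closure_induction with
    | mem a ha => obtain ⟨b, rfl⟩ := ha; exact Subtype.ext (Subtype.ext (radG_sq b))
    | one => exact one_mul _
    | mul a b ha hb iha ihb =>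
      calc a * b * (a * b) = a * (b * a) * b := by group
        _ = a * (a * b) * b := by rw [hcomm b hb a ha]
        _ = (a * a) * (b * b) := by group
        _ = 1 := by rw [iha ha, ihb hb, one_mul]
    | inv a ha iha => rw [← mul_inv_rev, iha ha, inv_one]
  have hp : IsPGroup 2 f.ker := fun x => ⟨1, Subtype.ext (by
    show ((x : ↥(fixG (target 2))) ^ 2 ^ 1) = 1
    refine e.injective ?_
    rw [map_pow, map_one, pow_one, pow_two]
    exact hsq _ ((hfker _).1 x.2))⟩
  have hcore : Cfsg.pCore 2 ↥(fixG (target 2)) = f.ker := by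
    refine le_antisymm ?_ (CfsgLib.Solvable.le_pCore (MonoidHom.normal_ker f) hp)
    haveI := CfsgLib.Solvable.pCore_normal 2 ↥(fixG (target 2))
    haveI : ((Cfsg.pCore 2 ↥(fixG (target 2))).map f).Normal := Subgroup.Normal.map inferInstance f hfsur
    have := O6_pCore _ ((CfsgLib.Solvable.pCore_isPGroup (G := ↥(fixG (target 2))) 2).map f)
    exact (Subgroup.map_eq_bot_iff _).1 this
  refine ⟨_, rfl, ?_, ?_, ?_⟩
  · rw [hcore]
    refine ⟨⟨⟨?_⟩⟩, ?_⟩
    · rintro ⟨_, x, hx, rfl⟩ ⟨_, y, hy, rfl⟩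
      refine Subtype.ext ?_
      show (x : Fi22) * y = y * x
      have hxy : e (x * y) = e (y * x) := by
        rw [map_mul, map_mul]; exact hcomm _ ((hfker x).1 hx) _ ((hfker y).1 hy)
      exact congrArg Subtype.val (e.injective hxy)
    · rintro _ ⟨x, hx, rfl⟩
      rw [← map_pow, pow_two]
      exact (congrArg _ (e.injective ((map_mul e x x).trans ((hsq _ ((hfker x).1 hx)).trans (map_one e).symm)))).trans
        (map_one _)
  · rw [hcore, Nat.card_congr (f.ker.equivMapOfInjective _ (Subgroup.subtype_injective _)).symm.toEquiv, ← hk64]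
    refine Nat.card_congr (e.toEquiv.subtypeEquiv fun x => ?_)
    exact (hfker x).trans (by rw [hEB]; rfl)
  · rw [hcore, show (f.ker.map (fixG (target 2)).subtype).subgroupOf (fixG (target 2)) = f.ker from
      Subgroup.comap_map_eq_self_of_injective (Subgroup.subtype_injective _) _]
    exact ⟨MonoidHom.normal_ker f, ⟨QuotientGroup.quotientKerEquivOfSurjective f hfsur⟩⟩

end CfsgLib.KnownA.FischerOut.T22Fix
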