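import Cfsg.Agent.Lib.KnownA.FischerOut.T22FixAut
import Cfsg.Agent.Lib.Trans3.SpTransvections
import Cfsg.Agent.Lib.Classical.SpSimple

/-!
The second representative of the outer involutions of Fi22 fixes the centraliser of a transposition
in the fixed subgroup of the diagram automorphism, which is `2 × Sp₆(2)` acting on 63 points.
-/

set_option autoImplicit false
set_option maxRecDepth 100000
set_option linter.unusedSectionVars false

namespace CfsgLib.KnownA.FischerOut.T22Fix

open CfsgLib.InvChar CfsgLib.InvChar.Coset Cfsg.Spor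
open T22 (act)
open T22Aut T22Invol CfsgLib.Trans3.Fi
open CfsgLib.StructC CfsgLib.Classical
open CfsgLib.Trans3
open scoped Matrix

local instance : Finite Fi22 := SporFi22.card_le.1

local notation "g₃" => (SporFi22.gen 3 : Fi22)
local notation "τ₀" => T22Aut.tau
local notation "Sp₆" => Matrix.symplecticGroup (Fin 3) (ZMod 2)
local notation "Z₂" => Multiplicative (ZMod 2)

/-- Coordinates of the symplectic space. -/
def eSp : Fin 3 ⊕ Fin 3 ≃ Fin 6 := finSumFinEquiv

/-- The vector of a place among the 63. -/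
def vecS (k : Fin 63) : SpTrans.V 3 := OrthCohom.dec eSp (proj6 (lab8.getD ((k : ℕ) + 1) 0))

theorem proj_lt : ∀ k < 63, proj6 (lab8.getD (k + 1) 0) < 64 := by decide +kernel

theorem vecS_injective : Function.Injective vecS := fun a b e => by
  have h := OrthCohom.mod_eq_of_dec_eq eSp e
  rw [Nat.mod_eq_of_lt (show _ < 2 ^ 6 from proj_lt a a.2),
    Nat.mod_eq_of_lt (show _ < 2 ^ 6 from proj_lt b b.2)] at h
  refine Fin.ext (List.inj_on_of_nodup_map lab63.1 (List.mem_range.2 a.2) (List.mem_range.2 b.2) h)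

theorem vecS_ne_zero (k : Fin 63) : vecS k ≠ 0 := fun e => by
  have h := OrthCohom.mod_eq_of_dec_eq eSp (e.trans (OrthCohom.dec_zero eSp).symm)
  rw [Nat.mod_eq_of_lt (show _ < 2 ^ 6 from proj_lt k k.2)] at h
  exact lab63.2 k k.2 (by simpa using h)

theorem vecS_surjective (v : SpTrans.V 3) (hv : v ≠ 0) : ∃ k, vecS k = v := by
  classical
  have hc : Fintype.card {v : SpTrans.V 3 // v ≠ 0} = 63 := by
    rw [Fintype.card_subtype_compl, Fintype.card_subtype_eq]; rfl
  obtain ⟨k, hk⟩ := ((Fintype.bijective_iff_injective_and_card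
    (fun k : Fin 63 => (⟨vecS k, vecS_ne_zero k⟩ : {v : SpTrans.V 3 // v ≠ 0}))).2
    ⟨fun a b e => vecS_injective (congrArg Subtype.val e), by rw [hc, Fintype.card_fin]⟩).2 ⟨v, hv⟩
  exact ⟨k, congrArg Subtype.val hk⟩

theorem sp_move_ne (A : Sp₆) (k : Fin 63) :
    (A : Matrix (Fin 3 ⊕ Fin 3) (Fin 3 ⊕ Fin 3) (ZMod 2)) *ᵥ vecS k ≠ 0 := fun e => by
  refine vecS_ne_zero k ?_
  have := SpTrans.sp_mul_mulVec A⁻¹ A (vecS k)
  rw [inv_mul_cancel, e, Matrix.mulVec_zero] at this
  exact (Matrix.one_mulVec _).symm.trans this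

/-- The image of a place. -/
noncomputable def moveS (A : Sp₆) (k : Fin 63) : Fin 63 := (vecS_surjective _ (sp_move_ne A k)).choose

theorem vec_moveS (A : Sp₆) (k : Fin 63) :
    vecS (moveS A k) = (A : Matrix (Fin 3 ⊕ Fin 3) (Fin 3 ⊕ Fin 3) (ZMod 2)) *ᵥ vecS k :=
  (vecS_surjective _ (sp_move_ne A k)).choose_spec

theorem moveS_one (k : Fin 63) : moveS 1 k = k :=
  vecS_injective (by rw [vec_moveS]; exact Matrix.one_mulVec _)

theorem moveS_mul (A B : Sp₆) (k : Fin 63) : moveS (A * B) k = moveS A (moveS B k) :=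
  vecS_injective (by rw [vec_moveS, vec_moveS, vec_moveS, SpTrans.sp_mul_mulVec])

/-- The action on the nonzero vectors. -/
noncomputable def homS : Sp₆ →* Equiv.Perm (Fin 63) where
  toFun A := ⟨moveS A, moveS A⁻¹, fun k => by rw [← moveS_mul, inv_mul_cancel, moveS_one],
    fun k => by rw [← moveS_mul, mul_inv_cancel, moveS_one]⟩
  map_one' := Equiv.ext moveS_one
  map_mul' A B := Equiv.ext (moveS_mul A B)

theorem homS_injective : Function.Injective homS := by
  rw [injective_iff_map_eq_one]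
  intro A hA
  refine SpTrans.sp_ext fun x => ?_
  show _ = (1 : Matrix (Fin 3 ⊕ Fin 3) (Fin 3 ⊕ Fin 3) (ZMod 2)) *ᵥ x
  rw [Matrix.one_mulVec]
  by_cases hx : x = 0
  · subst hx; exact Matrix.mulVec_zero _
  obtain ⟨k, rfl⟩ := vecS_surjective x hx
  rw [← vec_moveS]
  exact congrArg _ (Equiv.ext_iff.1 hA k)

theorem sp_closure : Subgroup.closure (Set.range fun o : Option (Fin 63) =>
    o.elim (1 : Sp₆) fun k => SpTrans.tr (vecS k)) = ⊤ := by
  refine eq_top_iff.2 ((Geom.closure_sympTransvection (F := ZMod 2) 3).ge.trans ?_)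
  rw [Subgroup.closure_le]
  rintro A ⟨w, c, e⟩
  by_cases hA : A = 1
  · subst hA; exact one_mem _
  have hc : c = 1 := by
    rcases SpTrans.z2 c with rfl | rfl
    · exact absurd (Subtype.ext (e.trans (by simp [Cfsg.sympTransvection]))) hA
    · rfl
  subst hc
  have hw : w ≠ 0 := fun e' => hA (Subtype.ext (e.trans (by simp [e', Cfsg.sympTransvection])))
  obtain ⟨k, rfl⟩ := vecS_surjective w hw
  exact Subgroup.subset_closure ⟨some k, Subtype.ext e.symm⟩

theorem trans6_spec : ∀ u < 64, ∀ v < 64, OrthCohom.dec eSp (trans6 u v) =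
    OrthCohom.dec eSp v + Cfsg.sympForm 3 (ZMod 2) (OrthCohom.dec eSp v) (OrthCohom.dec eSp u) •
      OrthCohom.dec eSp u := by decide +kernel

theorem card_Sp6 : Nat.card Sp₆ = 1451520 := by
  rw [← Nat.card_congr (Geom.spEquiv 3 (ZMod 2)).toEquiv,
    card_formIsoms_alt (Geom.sympBilin 3 (ZMod 2)) Geom.sympBilin_self Geom.sympBilin_sep 3 (by
      rw [Module.finrank_fintype_fun_eq_card, Fintype.card_sum, Fintype.card_fin]), ZMod.card]
  rfl

theorem Sp6_center : Subgroup.center Sp₆ = ⊥ := by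
  rw [eq_bot_iff]
  intro g hg
  refine Subgroup.mem_bot.2 (SpTrans.sp_ext fun v => ?_)
  show _ = (1 : Matrix (Fin 3 ⊕ Fin 3) (Fin 3 ⊕ Fin 3) (ZMod 2)) *ᵥ v
  rw [Matrix.one_mulVec]
  by_cases hv : v = 0
  · subst hv; exact Matrix.mulVec_zero _
  have h := SpTrans.conj_tr g v
  rw [← Subgroup.mem_center_iff.1 hg (SpTrans.tr v), mul_inv_cancel_right] at h
  obtain ⟨x, hx⟩ := SpTrans.exists_pair hv
  have h2 := congrArg (fun A : Sp₆ => (A : Matrix (Fin 3 ⊕ Fin 3) (Fin 3 ⊕ Fin 3) (ZMod 2)) *ᵥ x) h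
  simp only [SpTrans.tr_mulVec] at h2
  rw [SpTrans.bilin_symm v x, hx, one_smul] at h2
  have h3 := add_left_cancel h2
  rcases SpTrans.z2 (Geom.sympBilin 3 (ZMod 2) x ((g : Matrix (Fin 3 ⊕ Fin 3) (Fin 3 ⊕ Fin 3) (ZMod 2)) *ᵥ v))
    with e | e <;> rw [e] at h3
  · rw [zero_smul] at h3; exact absurd h3 hv
  · rw [one_smul] at h3; exact h3.symm

/-- The sign of a permutation of three classes. -/
noncomputable def sgn3 : Equiv.Perm (Fin 3) →* Z₂ :=
  MonoidHom.mk' (fun σ => if Equiv.Perm.sign σ = 1 then 1 else Multiplicative.ofAdd 1) (by decide)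

theorem pl_zero : act.d (pl 0) = g₃ := by
  obtain ⟨p, hp, hd⟩ := point_gen 3 (by omega)
  rw [← hd]
  exact congrArg act.d (Fin.ext (((by decide +kernel : cp 0 = T22Aut.std9.getD 3 0)).trans hp.symm))

theorem target1_fixed (i : Fin FiA.table.n) :
    amove (target 1) i = i ↔ ∃ k : Fin 64, pl (low k) = i := by
  have hi : (i : ℕ) < 3510 := i.2
  have hh := eq_of_beqB (allFrom_get _ tgt_rows i (Nat.zero_le _) (by omega))
  rw [Fin.ext_iff, target_amove 1 (by omega)]
  constructor
  · intro e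
    rw [e, Nat.beq_refl] at hh
    obtain ⟨hf, hlt⟩ := eq_of_and hh.symm
    obtain ⟨k, hk, hkv⟩ := exists_pl ((fixB_iff i).1 hf)
    exact ⟨⟨k, hkv ▸ Nat.le_of_ble_eq_true hlt⟩, hk⟩
  · rintro ⟨k, rfl⟩
    refine Nat.eq_of_beq_eq_true (hh.trans ?_)
    rw [(fixB_iff _).2 (pl_fix _), Bool.true_and, show cq (pl (low k) : ℕ) = (k : ℕ) from
      Nat.eq_of_beq_eq_true (eq_of_and (allFrom_get _ cp_rows k (Nat.zero_le _) (by omega))).2]
    exact Nat.ble_eq_true_of_le k.2

variable (hD : Cfsg.IsThreeTranspositionGroup (conjugatesOf (SporFi22.gen 0 : Fi22)))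
variable (hP : Cfsg.IsPrimitiveUnderConj (conjugatesOf (SporFi22.gen 0 : Fi22)))
variable (h : Cfsg.IsOfTypeM22 Fi22 (conjugatesOf (SporFi22.gen 0 : Fi22)))
include hD hP h

/-- The fixed subgroup of the second representative. -/
theorem fix_target_one : fixG (target 1) = fixG τ₀ ⊓ Subgroup.centralizer ({g₃} : Set Fi22) := by
  refine SetLike.ext fun g => ?_
  rw [Subgroup.mem_inf, Subgroup.mem_centralizer_singleton_iff]
  constructor
  · intro hg
    have hperm : ∀ k : Fin 64, ∃ l : Fin 64, pl (low l) = SporFi22.rep g (pl (low k)) := fun k =>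
      (target1_fixed _).1 (amove_rep hg ((target1_fixed _).2 ⟨k, rfl⟩))
    obtain ⟨l0, hl0⟩ := hperm 0
    have hzero : l0 = 0 := by
      by_contra hne
      obtain ⟨j, hj, hmv⟩ := ((wA_check l0 l0.2).2.2.2 (fun e => hne (Fin.ext e))).1
      choose σ hσ using hperm
      have hσb : Function.Bijective σ := Finite.injective_iff_bijective.1 fun a b e =>
        Fin.ext (congrArg (fun x : Fin 360 => (x : ℕ))
          (pl_injective ((SporFi22.rep g).injective ((hσ a).symm.trans ((congrArg (fun x => pl (low x)) e).trans (hσ b))))))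
      obtain ⟨m, hm⟩ := hσb.2 ⟨j, hj⟩
      have hc : Commute (act.d (pl (low 0))) (act.d (pl (low m))) := by
        rw [show low 0 = (0 : Fin 360) from rfl, pl_zero, g_three]
        have h3 : SporFi22.rep (wel [3]) (pl (low m)) = pl (low m) :=
          Fin.ext ((rep_wel (by simp) _).trans (wA_check m m.2).2.2.1)
        rw [← g_three, ← pl_zero]
        refine (act.commute_iff _ _).2 ?_
        rw [pl_zero, g_three]
        exact h3
      have e1 : (MulAut.conj g).toMonoidHom (act.d (pl (low 0))) = act.d (pl (low l0)) :=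
        (act.conj_d g _).trans (congrArg act.d hl0.symm)
      have e2 : (MulAut.conj g).toMonoidHom (act.d (pl (low m))) = act.d (pl (low (σ m))) :=
        (act.conj_d g _).trans (congrArg act.d (hσ m).symm)
      have hc3 : Commute (act.d (pl (low l0))) (act.d (pl (low (σ m)))) :=
        e1 ▸ e2 ▸ hc.map (MulAut.conj g).toMonoidHom
      have hc4 := congrArg Fin.val ((act.commute_iff _ _).1 hc3)
      rw [d_low, hm] at hc4
      exact hmv ((rep_wel (pal_lt9 (wA_check l0 l0.2).1) _).symm.trans hc4)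
    have hga : g * g₃ = g₃ * g := by
      rw [hzero] at hl0
      have := act.conj_d g (pl 0)
      rw [show act.rep g (pl 0) = pl 0 from hl0.symm, pl_zero] at this
      exact mul_inv_eq_iff_eq_mul.1 this
    refine ⟨?_, hga⟩
    have h1 : target 1 g = g := hg
    rw [target_one, MulAut.mul_apply, MulAut.conj_apply, ← hga, mul_inv_cancel_right] at h1
    exact h1
  · rintro ⟨hg, hga⟩
    show target 1 g = g
    rw [target_one, MulAut.mul_apply, MulAut.conj_apply, ← hga, mul_inv_cancel_right]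
    exact hg

theorem mem_one_fix {g : Fi22} (hg : g ∈ fixG τ₀ ⊓ Subgroup.centralizer ({g₃} : Set Fi22)) (k : Fin 63) :
    ∃ l : Fin 63, pl (low l.succ) = SporFi22.rep g (pl (low k.succ)) := by
  have hg1 : g ∈ fixG (target 1) := (fix_target_one hD hP h).symm.le hg
  obtain ⟨l, hl⟩ := (target1_fixed _).1 (amove_rep hg1 ((target1_fixed _).2 ⟨k.succ, rfl⟩))
  have hne : l ≠ 0 := by
    rintro rfl
    have h0 : SporFi22.rep g (pl 0) = pl 0 := by
      refine act.d_injective ?_
      rw [show act.d (SporFi22.rep g (pl 0)) = g * act.d (pl 0) * g⁻¹ from (act.conj_d g _).symm, pl_zero,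
        Subgroup.mem_centralizer_singleton_iff.1 hg.2, mul_inv_cancel_right]
    have := congrArg Fin.val (pl_injective ((SporFi22.rep g).injective (h0.trans hl)))
    simp [low] at this
  exact ⟨l.pred hne, by rw [Fin.succ_pred]; exact hl⟩

/-- The fixed subgroup as a group. -/
noncomputable abbrev Ca : Subgroup Fi22 := fixG τ₀ ⊓ Subgroup.centralizer ({g₃} : Set Fi22)

/-- The image of a place. -/
noncomputable def mvA (g : ↥Ca) (k : Fin 63) : Fin 63 := (mem_one_fix hD hP h g.2 k).choose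

theorem pl_mvA (g : ↥Ca) (k : Fin 63) :
    pl (low (mvA hD hP h g k).succ) = SporFi22.rep (g : Fi22) (pl (low k.succ)) :=
  (mem_one_fix hD hP h g.2 k).choose_spec

omit hD hP h in
theorem lowsucc_inj {a b : Fin 63} (e : pl (low a.succ) = pl (low b.succ)) : a = b :=
  Fin.succ_injective _ (Fin.ext (show ((low a.succ : Fin 360) : ℕ) = (low b.succ : ℕ) by
    rw [pl_injective e]))

theorem mvA_one (k : Fin 63) : mvA hD hP h 1 k = k :=
  lowsucc_inj (by rw [pl_mvA, Subgroup.coe_one, map_one, Equiv.Perm.one_apply])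

theorem mvA_mul (g g' : ↥Ca) (k : Fin 63) :
    mvA hD hP h (g * g') k = mvA hD hP h g (mvA hD hP h g' k) :=
  lowsucc_inj (by rw [pl_mvA, pl_mvA, pl_mvA, Subgroup.coe_mul, map_mul, Equiv.Perm.mul_apply])

/-- The action on the 63 points. -/
noncomputable def muA : ↥Ca →* Equiv.Perm (Fin 63) where
  toFun g := ⟨mvA hD hP h g, mvA hD hP h g⁻¹, fun k => by rw [← mvA_mul, inv_mul_cancel, mvA_one],
    fun k => by rw [← mvA_mul, mul_inv_cancel, mvA_one]⟩
  map_one' := Equiv.ext (mvA_one hD hP h)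
  map_mul' a b := Equiv.ext (mvA_mul hD hP h a b)

omit hD hP h in
theorem d_low_mem (i : Fin 64) : act.d (pl (low i)) ∈ Ca := by
  refine ⟨d_mem_fixG (pl_fix _), Subgroup.mem_centralizer_singleton_iff.2 ?_⟩
  rw [← pl_zero]
  exact ((act.commute_iff _ _).2 (by
    rw [pl_zero, g_three]
    exact Fin.ext ((rep_wel (by simp) _).trans (wA_check i i.2).2.2.1))).symm.eq

/-- The generators. -/
noncomputable def genA : Option (Fin 63) → ↥Ca :=
  fun o => o.elim ⟨act.d (pl (low 0)), d_low_mem 0⟩ fun k => ⟨act.d (pl (low k.succ)), d_low_mem _⟩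

theorem muA_gen (o : Option (Fin 63)) :
    muA hD hP h (genA o) = homS (o.elim (1 : Sp₆) fun k => SpTrans.tr (vecS k)) := by
  refine Equiv.ext fun j => ?_
  show mvA hD hP h (genA o) j = _
  refine lowsucc_inj ((pl_mvA hD hP h _ j).trans ?_)
  rcases o with _ | k
  · show SporFi22.rep (act.d (pl (low 0))) (pl (low j.succ)) = _
    rw [show low 0 = (0 : Fin 360) from rfl, pl_zero, g_three,
      show SporFi22.rep (wel [3]) (pl (low j.succ)) = pl (low j.succ) from
        Fin.ext ((rep_wel (by simp) _).trans (wA_check _ (j.succ).2).2.2.1)]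
    simp
  · show SporFi22.rep (act.d (pl (low k.succ))) (pl (low j.succ)) = _
    have hh := allFrom_get _ (allFrom_get _ refl63 ((k : ℕ) + 1) (by omega) (by omega)) ((j : ℕ) + 1) (by omega)
      (by omega)
    rw [force_eq] at hh
    simp only [Bool.and_eq_true, Bool.not_eq_true'] at hh
    obtain ⟨⟨⟨h1, h2⟩, h3⟩, h4⟩ := hh
    obtain ⟨c, ec⟩ : ∃ c, c = cq (conA ((k : ℕ) + 1) (cp ((j : ℕ) + 1))) := ⟨_, rfl⟩
    rw [← ec] at h1 h2 h3 h4
    have hc1 : c < 64 := Nat.le_of_ble_eq_true h1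
    have hc0 : c ≠ 0 := fun e => by rw [e] at h2; exact absurd h2 (by decide)
    have hrep : SporFi22.rep (act.d (pl (low k.succ))) (pl (low j.succ)) =
        pl (low ((⟨c - 1, by omega⟩ : Fin 63).succ)) := by
      refine Fin.ext ?_
      rw [d_low, rep_wel (pal_lt9 (wA_check _ (k.succ).2).1)]
      show conA ((k : ℕ) + 1) (cp ((j : ℕ) + 1)) = cp (c - 1 + 1)
      rw [show c - 1 + 1 = c by omega]
      exact (Nat.eq_of_beq_eq_true h3).symm
    rw [hrep]
    refine congrArg (fun x : Fin 63 => pl (low x.succ)) (vecS_injective ?_)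
    show vecS _ = vecS (moveS (SpTrans.tr (vecS k)) j)
    rw [vec_moveS, SpTrans.tr_mulVec, Geom.sympBilin_apply]
    unfold vecS
    rw [← trans6_spec _ (proj_lt k k.2) _ (proj_lt j j.2)]
    refine congrArg _ ?_
    show proj6 (lab8.getD (c - 1 + 1) 0) = _
    rw [show c - 1 + 1 = c by omega]
    exact Nat.eq_of_beq_eq_true h4

/-- The sign on the classes. -/
noncomputable def signA : ↥Ca →* Z₂ :=
  (sgn3.comp (chi3 hD hP h)).comp (Subgroup.inclusion inf_le_left)

theorem signA_gen (k : Fin 63) : signA hD hP h (genA (some k)) = Multiplicative.ofAdd 1 := by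
  show sgn3 (chi3 hD hP h (trA k.succ)) = _
  rw [trA_classes hD hP h _ (by simp)]
  decide

theorem signA_zero : signA hD hP h (genA none) = Multiplicative.ofAdd 1 := by
  show sgn3 (chi3 hD hP h (trA 0)) = _
  obtain ⟨a, b⟩ := g3_classes hD hP h
  have e : trA 0 = sg hD hP h 3 := Subtype.ext (by
    show act.d (pl (low 0)) = wel (cS.getD 3 [])
    rw [show low 0 = (0 : Fin 360) from rfl, pl_zero, g_three, show cS.getD 3 [] = [3] from rfl])
  rw [e, (by decide : ∀ σ : Equiv.Perm (Fin 3), σ 0 = 0 → σ 2 = 1 → σ = Equiv.swap (1 : Fin 3) 2) _ a b]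
  decide

/-- The fixed subgroup is `2 × PSp₆(2)`. -/
theorem fix_iso_sp : Nonempty (↥Ca ≃* Z₂ × Cfsg.PSp 3 (ZMod 2)) := by
  classical
  obtain ⟨H, eH⟩ : ∃ H : Subgroup ↥Ca, H = Subgroup.closure (Set.range genA) := ⟨_, rfl⟩
  have hr : ((muA hD hP h).comp H.subtype).range = homS.range := by
    refine PermModel.range_eq _ _ (fun o => (⟨genA o, eH ▸ Subgroup.subset_closure ⟨o, rfl⟩⟩ : ↥H))
      _ ?_ sp_closure (muA_gen hD hP h)
    subst eH
    refine eq_top_iff.2 ?_
    rintro ⟨x, hx⟩ -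
    induction hx using Subgroup.closure_induction with
    | mem a ha => obtain ⟨o, rfl⟩ := ha; exact Subgroup.subset_closure ⟨o, rfl⟩
    | one => exact one_mem _
    | mul a b _ _ ha hb => exact mul_mem ha hb
    | inv a _ ha => exact inv_mem ha
  obtain ⟨f, hfs, hf⟩ := PermModel.exists_hom _ homS homS_injective hr
  let F : ↥H →* Z₂ × Sp₆ := ((signA hD hP h).comp H.subtype).prod f
  have hgen : ∀ o, ∃ x : ↥H, (x : ↥Ca) = genA o := fun o =>
    ⟨⟨genA o, eH ▸ Subgroup.subset_closure ⟨o, rfl⟩⟩, rfl⟩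
  obtain ⟨x0, hx0⟩ := hgen none
  have hf0 : f x0 = 1 := homS_injective (by
    rw [hf, map_one]; show muA hD hP h (x0 : ↥Ca) = 1; rw [hx0, muA_gen]; exact map_one _)
  have hF0 : F x0 = (Multiplicative.ofAdd 1, 1) :=
    Prod.ext (by show signA hD hP h (x0 : ↥Ca) = _; rw [hx0, signA_zero]) hf0
  have hFs : Function.Surjective F := by
    rintro ⟨z, A⟩
    obtain ⟨x, rfl⟩ := hfs A
    by_cases hz : signA hD hP h (x : ↥Ca) = z
    · exact ⟨x, Prod.ext hz rfl⟩
    · refine ⟨x0 * x, ?_⟩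
      rw [map_mul, hF0]
      refine Prod.ext ?_ (one_mul _)
      exact (by decide : ∀ u v : Z₂, u ≠ v → Multiplicative.ofAdd 1 * u = v) _ _ hz
  have hle : Nat.card ↥Ca ≤ 2903040 := by
    refine le_trans ?_ (Fk_bound hD hP h).2.1
    refine le_of_eq (congrArg (fun S : Subgroup Fi22 => Nat.card S) ?_)
    exact SetLike.ext fun g => (Subgroup.mem_inf.trans mem_Fk_one.symm)
  have hcard : Nat.card (Z₂ × Sp₆) = 2903040 := by
    rw [Nat.card_prod, card_Sp6, Nat.card_eq_fintype_card, Fintype.card_multiplicative, ZMod.card]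
  have h1 := Nat.card_le_card_of_surjective F hFs
  have h2 := Subgroup.card_le_card_group H
  have hH : H = ⊤ := Subgroup.eq_top_of_card_eq H (by omega)
  have hb : Function.Bijective F := (Nat.bijective_iff_surjective_and_card F).2 ⟨hFs, by omega⟩
  exact ⟨(Subgroup.topEquiv.symm.trans (MulEquiv.subgroupCongr hH.symm)).trans
    ((MulEquiv.ofBijective F hb).trans (MulEquiv.prodCongr (MulEquiv.refl _)
      (QuotientGroup.quotientBot.symm.trans (QuotientGroup.quotientMulEquivOfEq Sp6_center.symm))))⟩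

end CfsgLib.KnownA.FischerOut.T22Fix
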