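import Cfsg.Agent.Lib.KnownA.FischerOut.T22Radical

/-!
The outer involutions of the automorphism group of the presented Fi22: three classes, represented by
the diagram automorphism `τ` and its products with the transposition of the letter 3 and with the
product of those of the letters 3 and 8.
-/

set_option autoImplicit false
set_option maxRecDepth 100000
set_option linter.unusedSectionVars false

namespace CfsgLib.KnownA.FischerOut.T22Invol

open CfsgLib.InvChar CfsgLib.InvChar.Coset Cfsg.Spor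
open T22 (act)
open T22Pair (Common rpt cls rpt_spec)
open T22Aut CfsgLib.Trans3.Fi

local instance : Finite Fi22 := SporFi22.card_le.1

local notation "g₃" => (SporFi22.gen 3 : Fi22)
local notation "g₈" => (SporFi22.gen 8 : Fi22)
local notation "D₀" => conjugatesOf (SporFi22.gen 0 : Fi22)
local notation "Pt" => Fin FiA.table.n
local notation "τ₀" => T22Aut.tau

/-- The three representatives. -/
noncomputable def target (t : ℕ) : MulAut Fi22 :=
  τ₀ * MulAut.conj (wel ((([[], [3], [8, 3]] : List (List ℕ))).getD t []))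

theorem target_amove (t : ℕ) (ht : t < 3) (i : Pt) : (amove (target t) i : ℕ) = tgApp t i := by
  have hl : ∀ x ∈ (([[], [3], [8, 3]] : List (List ℕ))).getD t [], x < 9 :=
    (by decide : ∀ t < 3, ∀ x ∈ (([[], [3], [8, 3]] : List (List ℕ))).getD t [], x < 9) t ht
  rw [target, amove_mul, amove_tau]
  show field T22.piT 128 20 (amove (MulAut.conj (wel _)) i : ℕ) = _
  rw [amove_wel hl]
  rfl

theorem target_zero : target 0 = τ₀ := by
  rw [target, show wel (([[], [3], [8, 3]] : List (List ℕ)).getD 0 []) = 1 from rfl, map_one, mul_one]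

theorem target_one : target 1 = τ₀ * MulAut.conj g₃ := by
  rw [target, show wel (([[], [3], [8, 3]] : List (List ℕ)).getD 1 []) = g₃ * 1 from rfl, mul_one]

theorem target_two : target 2 = τ₀ * MulAut.conj (g₃ * g₈) := by
  rw [target, show wel (([[], [3], [8, 3]] : List (List ℕ)).getD 2 []) = g₃ * (g₈ * 1) from rfl, mul_one]

theorem tau_ne_inner (g : Fi22) : τ₀ ≠ MulAut.conj g := T22.tau_outer τ₀ tau_spec g

theorem fin_equiv_eq {L M : Equiv.Perm (Fin 45)} (h : ∀ c, (L c : ℕ) = (M c : ℕ)) : L = M :=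
  Equiv.ext fun c => Fin.ext (h c)

variable (hD : Cfsg.IsThreeTranspositionGroup (conjugatesOf (SporFi22.gen 0 : Fi22)))
variable (hP : Cfsg.IsPrimitiveUnderConj (conjugatesOf (SporFi22.gen 0 : Fi22)))
variable (h : Cfsg.IsOfTypeM22 Fi22 (conjugatesOf (SporFi22.gen 0 : Fi22)))
include hD hP h

theorem conj_inj : Function.Injective (MulAut.conj : Fi22 →* MulAut Fi22) :=
  TwoPairOuter.conj_injective_of_center h.1

theorem not_dvd_index_CA : ¬ 2 ∣ (CA).index := by
  obtain ⟨-, -, hcC⟩ := chiC_structure hD hP h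
  have h1 := AutCard.card_two_cosets (conj_inj hD hP h) tau_ne_inner Cz CA fun a =>
    ⟨fun ha => CA_dec ha, fun ⟨g, hg, e⟩ => by
      rcases e with e | e <;> rw [e]
      exacts [conj_CA hD hP h hg, mul_mem (conj_CA hD hP h hg) tau_mem_CA]⟩
  have h2 := AutCard.card_two_cosets (conj_inj hD hP h) tau_ne_inner (⊤ : Subgroup Fi22)
    (⊤ : Subgroup (MulAut Fi22)) fun a =>
    ⟨fun _ => by
      obtain ⟨g, hg⟩ := T22Pair.decompose tau_spec a
      exact ⟨g, Subgroup.mem_top g, hg⟩, fun _ => Subgroup.mem_top a⟩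
  rw [Subgroup.card_top, Subgroup.card_top, SporFi22.card_eq.1] at h2
  have h3 := Subgroup.card_mul_index CA
  rw [h1, h2, hcC] at h3
  intro h4
  omega

/-- Products of the centraliser generators. -/
noncomputable def gv (v : List ℕ) : Fi22 := v.foldl (fun a g => cg g * a) 1

theorem gv_spec (v : List ℕ) (hv : ∀ g ∈ v, g < 6) : ∃ hm : gv v ∈ Cz, ∀ c : Fin 45,
    (chiC hD hP h ⟨gv v, hm⟩ c : ℕ) = hWord v c := by
  have key : ∀ (v : List ℕ), (∀ g ∈ v, g < 6) → ∀ (a : Fi22) (ha : a ∈ Cz) (f : ℕ → ℕ),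
      (∀ c : Fin 45, (chiC hD hP h ⟨a, ha⟩ c : ℕ) = f c) →
      ∃ hm : v.foldl (fun a g => cg g * a) a ∈ Cz, ∀ c : Fin 45,
        (chiC hD hP h ⟨_, hm⟩ c : ℕ) = v.foldl (fun c g => (cHex.getD g []).getD c 0) (f c) := by
    intro v
    induction v with
    | nil => intro _ a ha f h1; exact ⟨ha, h1⟩
    | cons g v ih =>
      intro hv a ha f h1
      obtain ⟨hg, hg2⟩ := cg_spec hD hP h g (hv g (by simp))
      simp only [List.foldl_cons]
      refine ih (fun x hx => hv x (List.mem_cons_of_mem _ hx)) (cg g * a) (mul_mem hg ha)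
        (fun c => (cHex.getD g []).getD (f c) 0) fun c => ?_
      rw [show (⟨cg g * a, mul_mem hg ha⟩ : ↥Cz) = ⟨cg g, hg⟩ * ⟨a, ha⟩ from rfl, map_mul,
        Equiv.Perm.mul_apply, chiC_apply hD hP h ⟨cg g, hg⟩, hg2, h1]
  exact key v hv 1 (one_mem _) id fun c => by
    rw [show (⟨(1 : Fi22), one_mem _⟩ : ↥Cz) = 1 from rfl, map_one]; rfl

theorem syl_elem (k : ℕ) (hk : k < 128) : ∃ (g : Fi22) (hg : g ∈ Cz), ∀ c : Fin 45,
    (chiC hD hP h ⟨g, hg⟩ c : ℕ) = syl k c := by
  have hh := allFrom_get _ syl_words k (Nat.zero_le _) (by omega)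
  simp only [Bool.and_eq_true] at hh
  obtain ⟨hg, hg2⟩ := gv_spec hD hP h (sylW.getD k []) fun x hx => Nat.le_of_ble_eq_true (all9 hh.1 x hx)
  refine ⟨_, hg, fun c => ?_⟩
  have := allFrom_get _ hh.2 c (Nat.zero_le _) (by omega)
  rw [Bool.and_eq_true] at this
  rw [hg2, Nat.eq_of_beq_eq_true this.2]

/-- An element of the image squaring to one is conjugate in it to a representative. -/
theorem chi_invol (x : Equiv.Perm (Fin 45)) (hx : x ∈ (chiC hD hP h).range) (h2 : x * x = 1) :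
    ∃ (g : Fi22) (hg : g ∈ Cz) (r : ℕ), r < 5 ∧ ∀ c : Fin 45,
      ((chiC hD hP h ⟨g, hg⟩ * x * (chiC hD hP h ⟨g, hg⟩)⁻¹) c : ℕ) = (oHex.getD r []).getD c 0 := by
  classical
  obtain ⟨-, hcR, -⟩ := chiC_structure hD hP h
  have hel : ∀ k : Fin 128, ∃ y : ↥(chiC hD hP h).range, ∀ c : Fin 45,
      ((y : Equiv.Perm (Fin 45)) c : ℕ) = syl k c := fun k => by
    obtain ⟨g, hg, hc⟩ := syl_elem hD hP h k k.2
    exact ⟨⟨_, ⟨g, hg⟩, rfl⟩, hc⟩
  choose y hy using hel
  have ymul : ∀ a b : Fin 128, ∃ m : Fin 128, y m = y a * y b := by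
    intro a b
    have hq : chkMul (a * 128 + b) = true := by
      have : (a : ℕ) * 128 + b < 16384 := by omega
      rcases Nat.lt_or_ge ((a : ℕ) * 128 + b) 4096 with l | l
      · exact allFrom_get _ syl_mul0 _ (Nat.zero_le _) (by omega)
      rcases Nat.lt_or_ge ((a : ℕ) * 128 + b) 8192 with l | l
      · exact allFrom_get _ syl_mul1 _ (by omega) (by omega)
      rcases Nat.lt_or_ge ((a : ℕ) * 128 + b) 12288 with l | l
      · exact allFrom_get _ syl_mul2 _ (by omega) (by omega)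
      · exact allFrom_get _ syl_mul3 _ (by omega) (by omega)
    rw [chkMul, force_eq, show ((a : ℕ) * 128 + b) / 128 = a by omega,
      show ((a : ℕ) * 128 + b) % 128 = b by omega] at hq
    simp only [Bool.and_eq_true] at hq
    refine ⟨⟨_, Nat.le_of_ble_eq_true hq.1⟩, Subtype.ext (fin_equiv_eq fun c => ?_)⟩
    rw [hy, Subgroup.coe_mul, Equiv.Perm.mul_apply, hy, hy]
    exact Nat.eq_of_beq_eq_true (allFrom_get _ hq.2 c (Nat.zero_le _) (by omega))
  have y0 : y 0 = 1 := Subtype.ext (fin_equiv_eq fun c => by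
    rw [hy, Subgroup.coe_one, Equiv.Perm.one_apply]
    exact Nat.eq_of_beq_eq_true (allFrom_get _ syl_zero c (Nat.zero_le _) (by omega)))
  have yinj : Function.Injective y := by
    intro a b e
    by_contra hne
    have hq := allFrom_get _ syl_apart ((a : ℕ) * 128 + b) (Nat.zero_le _) (by omega)
    rw [show ((a : ℕ) * 128 + b) / 128 = a by omega, show ((a : ℕ) * 128 + b) % 128 = b by omega,
      Bool.or_eq_true] at hq
    rcases hq with hq | hq
    · exact hne (Fin.ext (Nat.eq_of_beq_eq_true hq))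
    · simp only [Bool.not_eq_true'] at hq
      refine absurd ?_ (Bool.eq_false_iff.1 hq)
      have hall : ∀ n ≤ 45, allFrom (fun c => Nat.beq (syl a c) (syl b c)) 0 n = true := by
        intro n
        induction n with
        | zero => intro _; rfl
        | succ n ih =>
          intro hn
          show (Nat.beq (syl a (0 + n)) (syl b (0 + n)) && _) = true
          rw [Bool.and_eq_true]
          refine ⟨?_, ih (by omega)⟩
          rw [Nat.zero_add, ← hy a ⟨n, by omega⟩, e, hy b]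
          exact Nat.beq_refl _
      exact hall 45 le_rfl
  obtain ⟨P, eP⟩ : ∃ P : Subgroup ↥(chiC hD hP h).range, (P : Set ↥(chiC hD hP h).range) = Set.range y := by
    have hinv : ∀ a : Fin 128, ∃ m, y m = (y a)⁻¹ := by
      intro a
      have hpow : ∀ n : ℕ, ∃ m, y m = y a ^ n := by
        intro n
        induction n with
        | zero => exact ⟨0, by rw [y0, pow_zero]⟩
        | succ n ih =>
          obtain ⟨m, hm⟩ := ih
          obtain ⟨m', hm'⟩ := ymul m a
          exact ⟨m', by rw [hm', hm, pow_succ]⟩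
      obtain ⟨m, hm⟩ := hpow (orderOf (y a) - 1)
      refine ⟨m, eq_inv_of_mul_eq_one_left ?_⟩
      rw [hm, ← pow_succ, Nat.sub_add_cancel (orderOf_pos (y a)), pow_orderOf_eq_one]
    exact ⟨{
      carrier := Set.range y
      one_mem' := ⟨0, y0⟩
      mul_mem' := by rintro _ _ ⟨a, rfl⟩ ⟨b, rfl⟩; exact ymul a b
      inv_mem' := by rintro _ ⟨a, rfl⟩; exact hinv a }, rfl⟩
  have hcP : Nat.card P = 128 := by
    rw [show Nat.card P = Nat.card (Set.range y) from by rw [← eP]; rfl, Nat.card_range_of_injective yinj,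
      Nat.card_fin]
  have hidx : ¬ 2 ∣ P.index := by
    have h3 := Subgroup.card_mul_index P
    rw [hcP, hcR] at h3
    intro h4; omega
  obtain ⟨a, ha⟩ := AutCard.exists_conj_mem P hidx (t := ⟨x, hx⟩) (Subtype.ext h2)
  obtain ⟨k, hk⟩ : ∃ k, y k = a * ⟨x, hx⟩ * a⁻¹ := by
    have : a * ⟨x, hx⟩ * a⁻¹ ∈ Set.range y := eP ▸ ha
    exact this
  have hk2 : (y k : Equiv.Perm (Fin 45)) * y k = 1 := by
    rw [hk]
    simp only [Subgroup.coe_mul, Subgroup.coe_inv]
    calc _ = (a : Equiv.Perm (Fin 45)) * (x * x) * (a : Equiv.Perm (Fin 45))⁻¹ := by group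
      _ = 1 := by rw [h2]; group
  have hi := allFrom_get _ syl_invol k (Nat.zero_le _) (by omega)
  obtain ⟨⟨ga, hga⟩, ega⟩ := a.2
  cases hr : Nat.blt (sylRep.getD k 5) 5 <;> rw [hr] at hi <;> simp only [cond_true, cond_false] at hi
  · exfalso
    simp only [Bool.not_eq_true'] at hi
    refine absurd ?_ (Bool.eq_false_iff.1 hi)
    have hall : ∀ n ≤ 45, allFrom (fun c => Nat.beq (syl k (syl k c)) c) 0 n = true := by
      intro n
      induction n with
      | zero => intro _; rfl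
      | succ n ih =>
        intro hn
        show (Nat.beq (syl k (syl k (0 + n))) (0 + n) && _) = true
        rw [Bool.and_eq_true]
        refine ⟨?_, ih (by omega)⟩
        rw [Nat.zero_add, ← hy k ⟨n, by omega⟩, ← hy k, ← Equiv.Perm.mul_apply, hk2, Equiv.Perm.one_apply]
        exact Nat.beq_refl _
    exact hall 45 le_rfl
  · rw [Bool.and_eq_true] at hi
    obtain ⟨hv, hv2⟩ := gv_spec hD hP h (sylConj.getD k []) fun g hg => Nat.le_of_ble_eq_true (all9 hi.1 g hg)
    refine ⟨_, mul_mem hv hga, sylRep.getD k 5, Nat.le_of_ble_eq_true hr, fun c => ?_⟩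
    rw [show (⟨gv (sylConj.getD k []) * ga, mul_mem hv hga⟩ : ↥Cz) = ⟨_, hv⟩ * ⟨ga, hga⟩ from rfl,
      map_mul, ega]
    obtain ⟨V, eV⟩ : ∃ V, V = chiC hD hP h ⟨gv (sylConj.getD k []), hv⟩ := ⟨_, rfl⟩
    rw [← eV]
    rw [show (V * (a : Equiv.Perm (Fin 45)) * x * (V * (a : Equiv.Perm (Fin 45)))⁻¹) =
      V * (a * x * (a : Equiv.Perm (Fin 45))⁻¹) * V⁻¹ by group,
      show (a : Equiv.Perm (Fin 45)) * x * (a : Equiv.Perm (Fin 45))⁻¹ = y k by rw [hk]; rfl]
    obtain ⟨d, rfl⟩ : ∃ d, V d = c := ⟨V⁻¹ c, Equiv.apply_symm_apply _ _⟩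
    rw [show (V * (y k : Equiv.Perm (Fin 45)) * V⁻¹) (V d) = V ((y k : Equiv.Perm (Fin 45)) d) by simp,
      eV, hv2, hy, hv2]
    exact Nat.eq_of_beq_eq_true (allFrom_get _ hi.2 d (Nat.zero_le _) (by omega))

/-- The representative outer lifts. -/
theorem lift_spec (r : ℕ) (hr : r < 5) : ∃ (o : Fi22) (hA : MulAut.conj o * τ₀ ∈ CA),
    (∀ i : Pt, (amove (MulAut.conj o * τ₀) i : ℕ) = field oT 128 20 (r * 3510 + i)) ∧
    ∀ c : Fin 45, (chi hD hP h ⟨MulAut.conj o * τ₀, hA⟩ c : ℕ) = (oHex.getD r []).getD c 0 := by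
  have hh := allFrom_get _ o_words r (Nat.zero_le _) (by omega)
  simp only [Bool.and_eq_true] at hh
  obtain ⟨⟨h1, h2⟩, h3⟩ := hh
  have hmv : ∀ i : Pt, (amove (MulAut.conj (wel (oWords.getD r [])) * τ₀) i : ℕ) =
      field oT 128 20 (r * 3510 + i) := by
    intro i
    have hi : (i : ℕ) < 3510 := i.2
    rw [amove_mul, amove_wel (of_letters h1), amove_tau]
    exact (Nat.eq_of_beq_eq_true (allFrom_get _ (allFrom_get _ oT_rows i (Nat.zero_le _) (by omega)) r
      (Nat.zero_le _) (by omega))).symm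
  refine ⟨_, mul_mem (conj_CA hD hP h (wel_mem _ (of_letters h1) h2)) tau_mem_CA, hmv, fun c => ?_⟩
  rw [chi_apply, hmv, (rpt_spec c).1]
  exact Nat.eq_of_beq_eq_true (allFrom_get _ h3 c (Nat.zero_le _) (by omega))

theorem lift_code (r : ℕ) (hr : r < 5) (k : ℕ) (hk : k < 1024) : chkLift r k = true := by
  rcases (show r = 0 ∨ r = 1 ∨ r = 2 ∨ r = 3 ∨ r = 4 by omega) with rfl | rfl | rfl | rfl | rfl
  exacts [allFrom_get _ lifts0 k (Nat.zero_le _) (by omega), allFrom_get _ lifts1 k (Nat.zero_le _) (by omega),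
    allFrom_get _ lifts2 k (Nat.zero_le _) (by omega), allFrom_get _ lifts3 k (Nat.zero_le _) (by omega),
    allFrom_get _ lifts4 k (Nat.zero_le _) (by omega)]

/-- A lift that squares to one is conjugate to a representative. -/
theorem lift_invol (r : ℕ) (hr : r < 5) {o : Fi22}
    (ho : ∀ i : Pt, (amove (MulAut.conj o * τ₀) i : ℕ) = field oT 128 20 (r * 3510 + i)) :
    ∀ (n k : ℕ), k < 1024 → (code r k % 4 ≠ 0 → code r k / 4 % 1024 < n) →
      ∀ t : MulAut Fi22, t = MulAut.conj (eEl k) * (MulAut.conj o * τ₀) → t * t = 1 →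
        ∃ j < 3, IsConj t (target j) := by
  intro n
  induction n with
  | zero =>
    intro k hk hn t et ht
    by_cases h0 : code r k % 4 = 0
    · exfalso
      have hc := lift_code hD hP h r hr k hk
      simp only [chkLift, force_eq, h0, Nat.beq_refl, cond_true, Bool.and_eq_true, Bool.not_eq_true'] at hc
      have ht' : ∀ i : Pt, (amove t i : ℕ) = tApp r k i := fun i => by
        obtain ⟨-, -, he⟩ := eEl_spec hD hP h k
        rw [et, amove_mul, he, ho]
        rfl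
      obtain ⟨a, ea⟩ : ∃ a, a = code r k / 4 := ⟨_, rfl⟩
      rw [← ea] at hc
      have hp : std9.getD a 0 < FiA.table.n :=
        (by decide : ∀ a < 9, std9.getD a 0 < 3510) a (Nat.le_of_ble_eq_true hc.1)
      have h1 : amove (t * t) ⟨_, hp⟩ = ⟨_, hp⟩ := by rw [ht, amove_one]
      rw [amove_mul] at h1
      have h2 := congrArg Fin.val h1
      rw [ht', ht' ⟨_, hp⟩] at h2
      have h3 : Nat.beq (tApp r k (tApp r k (std9.getD a 0))) (std9.getD a 0) = true :=
        (congrArg (Nat.beq · (std9.getD a 0)) h2).trans (Nat.beq_refl _)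
      rw [h3] at hc
      exact absurd hc.2 (by decide)
    · exact absurd (hn h0) (Nat.not_lt_zero _)
  | succ n ih =>
    intro k hk hn t et ht
    by_cases h0 : code r k % 4 = 0
    · exact ih k hk (fun h' => absurd h0 h') t et ht
    have hc := lift_code hD hP h r hr k hk
    have ht' : ∀ k' (t' : MulAut Fi22), t' = MulAut.conj (eEl k') * (MulAut.conj o * τ₀) →
        ∀ i : Pt, (amove t' i : ℕ) = tApp r k' i := fun k' t' e' i => by
      obtain ⟨-, -, he⟩ := eEl_spec hD hP h k'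
      rw [e', amove_mul, he, ho]
      rfl
    have hb0 : Nat.beq (code r k % 4) 0 = false := Bool.eq_false_iff.2 fun e => h0 (Nat.eq_of_beq_eq_true e)
    simp only [chkLift, force_eq, hb0, cond_false] at hc
    cases h1 : Nat.beq (code r k % 4) 1 <;> rw [h1] at hc <;> simp only [cond_true, cond_false] at hc
    · cases h2 : Nat.beq (code r k % 4) 2 <;> rw [h2] at hc <;> simp only [cond_true, cond_false] at hc
      · exact absurd hc (by decide)
      simp only [Bool.and_eq_true] at hc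
      obtain ⟨⟨⟨⟨q1, q2⟩, q3⟩, q4⟩, q5⟩ := hc
      obtain ⟨k', ek'⟩ : ∃ k', k' = code r k / 4 / 1024 / 32 := ⟨_, rfl⟩
      obtain ⟨u, eu⟩ : ∃ u, u = (uWords.getD r []).getD (code r k / 4 / 1024 % 32) [] := ⟨_, rfl⟩
      rw [← ek'] at q1 q2 q3 q5
      rw [← eu] at q4 q5
      obtain ⟨t', et'⟩ : ∃ t', t' = MulAut.conj (eEl k') * (MulAut.conj o * τ₀) := ⟨_, rfl⟩
      have hconj : MulAut.conj (wel u) * t' = t * MulAut.conj (wel u) := by
        refine aut_ext fun p hp => Fin.ext ?_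
        rw [amove_mul, amove_wel (of_letters q4), ht' k' t' et', amove_mul, ht' k t et,
          amove_wel (of_letters q4)]
        exact Nat.eq_of_beq_eq_true (all9 q5 (p : ℕ) hp)
      have e1 : MulAut.conj (wel u) * t' * (MulAut.conj (wel u))⁻¹ = t := by
        rw [hconj, mul_inv_cancel_right]
      have ht2 : t' * t' = 1 := by
        rw [show t' = (MulAut.conj (wel u))⁻¹ * t * MulAut.conj (wel u) by rw [← e1]; group]
        calc _ = (MulAut.conj (wel u))⁻¹ * (t * t) * MulAut.conj (wel u) := by group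
          _ = 1 := by rw [ht]; group
      have hlt : code r k' / 4 % 1024 < n := by
        have := hn h0
        have := Nat.le_of_ble_eq_true q3
        omega
      obtain ⟨j, hj, hjc⟩ := ih k' (Nat.le_of_ble_eq_true q1) (fun _ => hlt) t' et' ht2
      exact ⟨j, hj, (isConj_iff.2 ⟨MulAut.conj (wel u), e1⟩ : IsConj t' t).symm.trans hjc⟩
    · simp only [Bool.and_eq_true] at hc
      obtain ⟨⟨⟨q1, q2⟩, q3⟩, q4⟩ := hc
      obtain ⟨e, ee⟩ : ∃ e, e = roots.getD (code r k / 4 / 1024) (0, []) := ⟨_, rfl⟩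
      rw [← ee] at q2 q3 q4
      refine ⟨e.1, Nat.le_of_ble_eq_true q2, isConj_iff.2 ⟨MulAut.conj (wel e.2), ?_⟩⟩
      rw [mul_inv_eq_iff_eq_mul]
      refine aut_ext fun p hp => Fin.ext ?_
      rw [amove_mul, amove_wel (of_letters q3), ht' k t et, amove_mul,
        target_amove e.1 (Nat.le_of_ble_eq_true q2), amove_wel (of_letters q3)]
      exact Nat.eq_of_beq_eq_true (all9 q4 (p : ℕ) hp)

/-- Every outer involution is conjugate to one of the three representatives. -/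
theorem outer_invol {t : MulAut Fi22} (ht : t * t = 1) (hout : ∀ g, t ≠ MulAut.conj g) :
    ∃ j < 3, IsConj t (target j) := by
  obtain ⟨a, ha⟩ := AutCard.exists_conj_mem CA (not_dvd_index_CA hD hP h) ht
  obtain ⟨t₁, e₁⟩ : ∃ t₁, t₁ = a * t * a⁻¹ := ⟨_, rfl⟩
  rw [← e₁] at ha
  have ht₁ : t₁ * t₁ = 1 := by
    rw [e₁]
    calc _ = a * (t * t) * a⁻¹ := by group
      _ = 1 := by rw [ht]; group
  have hout₁ : ∀ g, t₁ ≠ MulAut.conj g := by
    intro g e
    obtain ⟨g', hg'⟩ : ∃ g', t = MulAut.conj g' := ⟨a⁻¹ g, by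
      rw [← TwoPairOuter.conj_mulAut, inv_inv, ← e, e₁]; group⟩
    exact hout g' hg'
  -- the image on the hexads
  obtain ⟨-, hcR, -⟩ := chiC_structure hD hP h
  have hcA : Nat.card ↥CA = 2 * 53084160 := by
    obtain ⟨-, -, hcC⟩ := chiC_structure hD hP h
    rw [← hcC]
    exact AutCard.card_two_cosets (conj_inj hD hP h) tau_ne_inner Cz CA fun a =>
      ⟨fun ha => CA_dec ha, fun ⟨g, hg, e⟩ => by
        rcases e with e | e <;> rw [e]
        exacts [conj_CA hD hP h hg, mul_mem (conj_CA hD hP h hg) tau_mem_CA]⟩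
  -- every image is the image of an inner one
  have hinner : ∀ b : ↥CA, chi hD hP h b ∈ (chiC hD hP h).range := by
    obtain ⟨o, hoA, -, ho2⟩ := lift_spec hD hP h 0 (by omega)
    have h1 : chi hD hP h ⟨MulAut.conj o * τ₀, hoA⟩ = 1 := fin_equiv_eq fun c => by
      rw [ho2, Equiv.Perm.one_apply]
      exact Nat.eq_of_beq_eq_true (allFrom_get _ o_one c (Nat.zero_le _) (by omega))
    intro b
    obtain ⟨g, hg, e | e⟩ := CA_dec b.2
    · exact ⟨⟨g, hg⟩, congrArg (chi hD hP h) (Subtype.ext e.symm)⟩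
    · have ho : MulAut.conj o ∈ CA := by
        rw [show MulAut.conj o = MulAut.conj o * τ₀ * τ₀⁻¹ by rw [mul_inv_cancel_right]]
        exact mul_mem hoA (inv_mem tau_mem_CA)
      have hgo : g * o⁻¹ ∈ Cz := mul_mem hg (inv_mem ((conj_mem_CA o).1 ho))
      refine ⟨⟨g * o⁻¹, hgo⟩, ?_⟩
      rw [chiC_apply, show b = ⟨MulAut.conj (g * o⁻¹), conj_CA hD hP h hgo⟩ * ⟨MulAut.conj o * τ₀, hoA⟩ from
        Subtype.ext (by
          show (b : MulAut Fi22) = MulAut.conj (g * o⁻¹) * (MulAut.conj o * τ₀)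
          rw [e, ← mul_assoc, ← map_mul, inv_mul_cancel_right]), map_mul (chi hD hP h), h1, mul_one]
  obtain ⟨gc, hgc, r, hr, hrep⟩ := chi_invol hD hP h (chi hD hP h ⟨t₁, ha⟩) (hinner _) (by
    rw [← map_mul, show (⟨t₁, ha⟩ : ↥CA) * ⟨t₁, ha⟩ = 1 from Subtype.ext ht₁, map_one])
  obtain ⟨t₂, e₂⟩ : ∃ t₂, t₂ = MulAut.conj gc * t₁ * (MulAut.conj gc)⁻¹ := ⟨_, rfl⟩
  obtain ⟨o, hoA, ho, ho2⟩ := lift_spec hD hP h r hr
  have hA2 : t₂ ∈ CA := e₂ ▸ mul_mem (mul_mem (conj_CA hD hP h hgc) ha) (inv_mem (conj_CA hD hP h hgc))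
  have hchi2 : chi hD hP h ⟨t₂, hA2⟩ = chi hD hP h ⟨MulAut.conj o * τ₀, hoA⟩ := fin_equiv_eq fun c => by
    rw [ho2, ← hrep c, show (⟨t₂, hA2⟩ : ↥CA) = ⟨MulAut.conj gc, conj_CA hD hP h hgc⟩ * ⟨t₁, ha⟩ *
      (⟨MulAut.conj gc, conj_CA hD hP h hgc⟩)⁻¹ from Subtype.ext e₂, map_mul, map_mul, map_inv, chiC_apply]
  obtain ⟨d, hd⟩ : ∃ d : MulAut Fi22, d = t₂ * (MulAut.conj o * τ₀)⁻¹ := ⟨_, rfl⟩
  have hdA : d ∈ CA := hd ▸ mul_mem hA2 (inv_mem hoA)
  obtain ⟨e, he, hde | hde⟩ := CA_dec hdA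
  swap
  · exfalso
    have e3 : t₂ = MulAut.conj e * τ₀ * (MulAut.conj o * τ₀) := by rw [← hde, hd, inv_mul_cancel_right]
    obtain ⟨g2, hg2⟩ : ∃ g2, τ₀ * τ₀ = MulAut.conj g2 := by
      obtain ⟨g2, h2 | h2⟩ := T22Pair.decompose tau_spec (τ₀ * τ₀)
      · exact ⟨g2, h2⟩
      · exact absurd (mul_right_cancel h2) (tau_ne_inner g2)
    have e4 : t₂ = MulAut.conj (e * τ₀ o * g2) := by
      rw [e3, map_mul, map_mul, ← hg2, ← TwoPairOuter.conj_mulAut]; group
    refine hout₁ (gc⁻¹ * (e * τ₀ o * g2) * gc) ?_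
    rw [map_mul, map_mul, ← e4, e₂, map_inv]
    group
  have hker : chiC hD hP h ⟨e, he⟩ = 1 := by
    rw [chiC_apply, show (⟨MulAut.conj e, conj_CA hD hP h he⟩ : ↥CA) =
      ⟨t₂, hA2⟩ * (⟨MulAut.conj o * τ₀, hoA⟩)⁻¹ from Subtype.ext (by
        show MulAut.conj e = t₂ * (MulAut.conj o * τ₀)⁻¹
        rw [← hde, hd]),
      map_mul, map_inv, hchi2, mul_inv_cancel]
  obtain ⟨k, hk, rfl⟩ := ker_list hD hP h he hker
  have et₂ : t₂ = MulAut.conj (eEl k) * (MulAut.conj o * τ₀) := by rw [← hde, hd, inv_mul_cancel_right]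
  have ht₂ : t₂ * t₂ = 1 := by
    rw [e₂]
    calc _ = MulAut.conj gc * (t₁ * t₁) * (MulAut.conj gc)⁻¹ := by group
      _ = 1 := by rw [ht₁]; group
  obtain ⟨j, hj, hjc⟩ := lift_invol hD hP h r hr ho 1024 k hk (fun _ => by omega) t₂ et₂ ht₂
  exact ⟨j, hj, ((isConj_iff.2 ⟨a, e₁.symm⟩ : IsConj t t₁).trans
    (isConj_iff.2 ⟨MulAut.conj gc, e₂.symm⟩)).trans hjc⟩

end CfsgLib.KnownA.FischerOut.T22Invol
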