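import Cfsg.Agent.Lib.KnownA.FischerOut.T22PairCheck
import Cfsg.Agent.Lib.KnownA.FischerOut.T22InvolData
import Cfsg.Agent.Lib.KnownA.FischerOut.T22InvolTables

/-!
Kernel checks of the certificate for the outer involutions of Fi22.
-/

set_option autoImplicit false
set_option maxRecDepth 100000

namespace CfsgLib.KnownA.FischerOut.T22Invol

open CfsgLib.InvChar.Coset
open T22Pair (cls pts)

/-- The points of the generators. -/
def std9 : List ℕ := [0, 2, 6, 16, 40, 88, 154, 43, 92]

/-- A member of the radical applied to a point. -/
noncomputable def eApp (k i : ℕ) : ℕ :=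
  [9, 8, 7, 6, 5, 4, 3, 2, 1, 0].foldl (fun i b => bif Nat.testBit k b then field eT 128 20 (b * 3510 + i) else i) i

/-- A lift applied to a point. -/
noncomputable def tApp (r k i : ℕ) : ℕ := eApp k (field oT 128 20 (r * 3510 + i))

/-- The three targets applied to a point. -/
noncomputable def tgApp (t i : ℕ) : ℕ :=
  field T22.piT 128 20 (FiA.table.follow (([[], [3], [8, 3]] : List (List ℕ)).getD t []) i)

/-- The code of a lift. -/
noncomputable def code (r k : ℕ) : ℕ := field codeT 128 32 (r * 1024 + k)

/-- The check of one lift. -/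
noncomputable def chkLift (r k : ℕ) : Bool :=
  force (code r k) fun c => force (c / 4) fun a =>
  bif Nat.beq (c % 4) 0 then
    Nat.blt a 9 && !Nat.beq (tApp r k (tApp r k (std9.getD a 0))) (std9.getD a 0)
  else bif Nat.beq (c % 4) 1 then
    force (a / 1024) fun j =>
    let e := roots.getD j (0, [])
    Nat.blt j roots.length && Nat.blt e.1 3 && letters 9 e.2 && std9.all fun p =>
      Nat.beq (FiA.table.follow e.2 (tApp r k p)) (tgApp e.1 (FiA.table.follow e.2 p))
  else bif Nat.beq (c % 4) 2 then
    force (a / 1024 / 32) fun k' =>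
    let u := (uWords.getD r []).getD (a / 1024 % 32) []
    force (code r k') fun c' =>
    Nat.blt k' 1024 && (Nat.beq (c' % 4) 1 || Nat.beq (c' % 4) 2) && Nat.blt (c' / 4 % 1024) (a % 1024) &&
      letters 9 u && std9.all fun p =>
        Nat.beq (FiA.table.follow u (tApp r k' p)) (tApp r k (FiA.table.follow u p))
  else false

/-- Apply a product of the centraliser generators to a hexad. -/
noncomputable def hWord (v : List ℕ) (c : ℕ) : ℕ := v.foldl (fun c g => (cHex.getD g []).getD c 0) c

/-- A member of the Sylow subgroup on hexads. -/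
noncomputable def syl (k c : ℕ) : ℕ := field sylT 128 20 (k * 45 + c)

/-- A word keeps the pair. -/
noncomputable def pairWord (w : List ℕ) : Bool :=
  (Nat.beq (FiA.table.follow w 16) 16 && Nat.beq (FiA.table.follow w 92) 92) ||
    (Nat.beq (FiA.table.follow w 16) 92 && Nat.beq (FiA.table.follow w 92) 16)

theorem eT_rows : allFrom (fun i => allFrom (fun b =>
    Nat.beq (field eT 128 20 (b * 3510 + i)) (FiA.table.follow (eWords.getD b []) i)) 0 10) 0 3510 = true := by
  decide +kernel

theorem oT_rows : allFrom (fun i => allFrom (fun r =>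
    Nat.beq (field oT 128 20 (r * 3510 + i)) (FiA.table.follow (oWords.getD r []) (field T22.piT 128 20 i))) 0 5)
    0 3510 = true := by
  decide +kernel

theorem e_words : allFrom (fun b => letters 9 (eWords.getD b []) &&
    Nat.beq (FiA.table.follow (eWords.getD b []) 16) 16 && Nat.beq (FiA.table.follow (eWords.getD b []) 92) 92 &&
    allFrom (fun c => Nat.beq (cls (FiA.table.follow (eWords.getD b []) (pts.getD (4 * c) 0))) c) 0 45) 0 10 =
    true := by decide +kernel

theorem o_words : allFrom (fun r => letters 9 (oWords.getD r []) && pairWord (oWords.getD r []) &&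
    allFrom (fun c => Nat.beq (cls (field oT 128 20 (r * 3510 + pts.getD (4 * c) 0)))
      ((oHex.getD r []).getD c 0)) 0 45) 0 5 = true := by decide +kernel

theorem o_one : allFrom (fun c => Nat.beq ((oHex.getD 0 []).getD c 0) c) 0 45 = true := by decide +kernel

theorem c_words : allFrom (fun g => letters 9 (cWords.getD g []) && pairWord (cWords.getD g []) &&
    allFrom (fun c => Nat.beq (cls (FiA.table.follow (cWords.getD g []) (pts.getD (4 * c) 0)))
      ((cHex.getD g []).getD c 0)) 0 45) 0 6 = true := by decide +kernel

theorem c_apart : !Nat.beq ((cHex.getD 0 []).getD 0 0) ((cHex.getD 1 []).getD 0 0) ||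
    !allFrom (fun c => Nat.beq ((cHex.getD 0 []).getD c 0) ((cHex.getD 1 []).getD c 0)) 0 45 = true := by
  decide +kernel

theorem c_ne_one : allFrom (fun g => !allFrom (fun c => Nat.beq ((cHex.getD g []).getD c 0) c) 0 45) 0 2 = true := by
  decide +kernel

theorem syl_words : allFrom (fun k => (sylW.getD k []).all (fun g => Nat.blt g 6) &&
    allFrom (fun c => Nat.blt (syl k c) 45 && Nat.beq (syl k c) (hWord (sylW.getD k []) c)) 0 45) 0 128 = true := by
  decide +kernel

theorem syl_zero : allFrom (fun c => Nat.beq (syl 0 c) c) 0 45 = true := by decide +kernel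

/-- A product in the Sylow subgroup. -/
noncomputable def chkMul (q : ℕ) : Bool :=
  force (field mulT 128 20 q) fun m => Nat.blt m 128 &&
    allFrom (fun c => Nat.beq (syl m c) (syl (q / 128) (syl (q % 128) c))) 0 45

theorem syl_mul0 : allFrom chkMul 0 4096 = true := by decide +kernel
theorem syl_mul1 : allFrom chkMul 4096 4096 = true := by decide +kernel
theorem syl_mul2 : allFrom chkMul 8192 4096 = true := by decide +kernel
theorem syl_mul3 : allFrom chkMul 12288 4096 = true := by decide +kernel

theorem syl_apart : allFrom (fun q => Nat.beq (q / 128) (q % 128) ||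
    !allFrom (fun c => Nat.beq (syl (q / 128) c) (syl (q % 128) c)) 0 45) 0 16384 = true := by decide +kernel

theorem syl_invol : allFrom (fun k =>
    bif Nat.blt (sylRep.getD k 5) 5 then
      (sylConj.getD k []).all (fun g => Nat.blt g 6) &&
        allFrom (fun c => Nat.beq (hWord (sylConj.getD k []) (syl k c))
          ((oHex.getD (sylRep.getD k 5) []).getD (hWord (sylConj.getD k []) c) 0)) 0 45
    else !allFrom (fun c => Nat.beq (syl k (syl k c)) c) 0 45) 0 128 = true := by decide +kernel

/-- The images of the nine points under a member of the radical, as one number. -/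
noncomputable def eKey' (k : ℕ) : ℕ := std9.foldr (fun p a => a * 4096 + eApp k p) 0

theorem e_sorted : allFrom (fun j => Nat.blt (field ordT 128 20 j) 1024 &&
    (Nat.beq j 1023 || Nat.blt (eKey' (field ordT 128 20 j)) (eKey' (field ordT 128 20 (j + 1))))) 0 1024 = true := by
  decide +kernel

theorem e_rank : allFrom (fun k => Nat.blt (field rankT 128 20 k) 1024 &&
    Nat.beq (field ordT 128 20 (field rankT 128 20 k)) k) 0 1024 = true := by decide +kernel

theorem lifts0 : allFrom (chkLift 0) 0 1024 = true := by decide +kernel
theorem lifts1 : allFrom (chkLift 1) 0 1024 = true := by decide +kernel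
theorem lifts2 : allFrom (chkLift 2) 0 1024 = true := by decide +kernel
theorem lifts3 : allFrom (chkLift 3) 0 1024 = true := by decide +kernel
theorem lifts4 : allFrom (chkLift 4) 0 1024 = true := by decide +kernel

end CfsgLib.KnownA.FischerOut.T22Invol
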