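import Cfsg.Agent.Lib.KnownA.FischerOut.T22Data
import Cfsg.Agent.Lib.KnownA.FischerOut.T22Pi

/-!
The images of the generators under the diagram automorphism of Fi22, as words.
-/

set_option autoImplicit false
set_option maxRecDepth 100000

namespace CfsgLib.KnownA.FischerOut.T22

open CfsgLib.InvChar.Coset

/-- The images of the generators under the diagram automorphism. -/
noncomputable def tauW (x : ℕ) : List ℕ := bif Nat.beq x 7 then pal (target1.getD 7 []) else [x]

/-- A relator with its letters replaced. -/
noncomputable def tauR (r : List ℕ) : List ℕ := (r.map tauW).flatten

/-- The check of the relators at one point. -/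
noncomputable def tauChk (i : ℕ) : Bool := FiA.rels.all fun r => Nat.beq (FiA.table.follow (tauR r) i) i

end CfsgLib.KnownA.FischerOut.T22
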