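import Cfsg.Agent.Lib.KnownA.FischerOut.T22OutBase

/-!
Kernel checks for the diagram automorphism of Fi22: relators, part 3.
-/

set_option autoImplicit false
set_option maxRecDepth 100000

namespace CfsgLib.KnownA.FischerOut.T22

open CfsgLib.InvChar.Coset

theorem tau_rels_3 : allFrom tauChk 2106 702 = true := by decide +kernel

end CfsgLib.KnownA.FischerOut.T22
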