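import Cfsg.Agent.Lib.KnownA.FischerOut.T22FixSp
import Cfsg.Agent.Lib.KnownA.FischerOut.T22FixRadical
import Cfsg.Agent.Lib.Trans3.Fi.TypeTransport
import Cfsg.Prelude.Def_FischerSpaces

/-!
The three classes of outer involutory automorphisms of a group of type M(22) and their fixed subgroups,
carried over from the presented Fi22.
-/

set_option autoImplicit false
set_option maxRecDepth 100000

namespace CfsgLib.KnownA.FischerOut.T22Fix

open CfsgLib.InvChar CfsgLib.InvChar.Coset Cfsg.Spor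
open T22 (act)
open T22Aut T22Invol

local instance : Finite Fi22 := SporFi22.card_le.1

universe u
variable {G : Type u} [Group G] (e : Fi22 ≃* G)

theorem map_fixG (φ : MulAut Fi22) (g : G) :
    g ∈ (fixG φ).map e.toMonoidHom ↔ MulAut.congr e φ g = g := by
  obtain ⟨x, rfl⟩ := e.surjective g
  rw [show MulAut.congr e φ (e x) = e (φ x) by simp [MulAut.congr]]
  constructor
  · rintro ⟨y, hy, hyx⟩
    rw [← e.injective (show e y = e x from hyx), mem_fixG.1 hy]
  · intro hx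
    exact ⟨x, e.injective hx, rfl⟩

theorem isConj_congr {s t : MulAut Fi22} :
    IsConj (MulAut.congr e s) (MulAut.congr e t) ↔ IsConj s t := by
  constructor
  · intro q
    have := (MulAut.congr e).symm.toMonoidHom.map_isConj q
    rwa [MulEquiv.coe_toMonoidHom, MulEquiv.symm_apply_apply, MulEquiv.symm_apply_apply] at this
  · exact fun q => (MulAut.congr e).toMonoidHom.map_isConj q

theorem congr_conj (x : Fi22) : MulAut.congr e (MulAut.conj x) = MulAut.conj (e x) :=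
  MulEquiv.ext fun g => by
    obtain ⟨y, rfl⟩ := e.surjective g
    simp [MulAut.congr]

theorem outer_classes [Finite G] {D : Set G} (hD : Cfsg.IsThreeTranspositionGroup D)
    (hP : Cfsg.IsPrimitiveUnderConj D) (hM : Cfsg.IsOfTypeM22 G D)
    (he : e '' conjugatesOf (SporFi22.gen 0 : Fi22) = D) :
    ∃ (s : MulAut G) (a b : G) (Cs : Subgroup G), orderOf s = 2 ∧ s ∉ (MulAut.conj : G →* MulAut G).range ∧ (∀ g : G, g ∈ Cs ↔ s g = g) ∧ Nonempty (↥Cs ≃* MulAut (Cfsg.Omega (ZMod 2) (Cfsg.quadFormPlus 4 (ZMod 2)))) ∧ a ∈ D ∧ b ∈ D ∧ a ≠ b ∧ Commute a b ∧ s a = a ∧ s b = b ∧ (∀ t : MulAut G, orderOf t = 2 → t ∉ (MulAut.conj : G →* MulAut G).range → (IsConj t s ∨ IsConj t (s * MulAut.conj a) ∨ IsConj t (s * MulAut.conj (a * b)))) ∧ ¬ IsConj s (s * MulAut.conj a) ∧ ¬ IsConj s (s * MulAut.conj (a * b)) ∧ ¬ IsConj (s * MulAut.conj a) (s * MulAut.conj (a * b)) ∧ (∀ g : G, (s * MulAut.conj a) g = g ↔ g ∈ Cs ⊓ Subgroup.centralizer ({a} : Set G)) ∧ Nonempty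 (↥(Cs ⊓ Subgroup.centralizer ({a} : Set G)) ≃* Multiplicative (ZMod 2) × Cfsg.PSp 3 (ZMod 2)) ∧ ∃ Csab O : Subgroup G, (∀ g : G, g ∈ Csab ↔ (s * MulAut.conj (a * b)) g = g) ∧ O = (Cfsg.pCore 2 ↥Csab).map Csab.subtype ∧ Cfsg.IsElementaryAbelian 2 O ∧ Nat.card O = 64 ∧ ∃ _ : (O.subgroupOf Csab).Normal, Nonempty (↥Csab ⧸ O.subgroupOf Csab ≃* Cfsg.isometryGroup (ZMod 2) (Cfsg.quadFormMinus 2 (ZMod 2) 1 1)) := by
  have hback : (e.symm : G → Fi22) '' D = conjugatesOf (SporFi22.gen 0 : Fi22) := by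
    rw [← he, Set.image_image]; simp
  have hD' : Cfsg.IsThreeTranspositionGroup (conjugatesOf (SporFi22.gen 0 : Fi22)) :=
    hback ▸ CfsgLib.Trans3.Fi.Transport.three_image e.symm hD
  have hP' : Cfsg.IsPrimitiveUnderConj (conjugatesOf (SporFi22.gen 0 : Fi22)) :=
    hback ▸ CfsgLib.Trans3.Fi.Transport.prim_image e.symm hP
  have hM' : Cfsg.IsOfTypeM22 Fi22 (conjugatesOf (SporFi22.gen 0 : Fi22)) :=
    hback ▸ CfsgLib.Trans3.Fi.Transport.m22_image e.symm hM
  obtain ⟨hg3, hg8, hne, hc⟩ := T22Pair.pair_facts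
  have hτ3 : T22Aut.tau (SporFi22.gen 3) = SporFi22.gen 3 :=
    T22Pair.tau_zero tau_spec 3 (by omega) (by omega)
  have hτ8 : T22Aut.tau (SporFi22.gen 8) = SporFi22.gen 8 :=
    T22Pair.tau_zero tau_spec 8 (by omega) (by omega)
  obtain ⟨E, eE⟩ : ∃ E : MulAut Fi22 ≃* MulAut G, E = MulAut.congr e := ⟨_, rfl⟩
  have t0 : E (target 0) = E T22Aut.tau := by rw [target_zero]
  have t1 : E (target 1) = E T22Aut.tau * MulAut.conj (e (SporFi22.gen 3)) := by
    rw [target_one, map_mul, eE, congr_conj]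
  have t2 : E (target 2) = E T22Aut.tau * MulAut.conj (e (SporFi22.gen 3) * e (SporFi22.gen 8)) := by
    rw [target_two, map_mul, eE, congr_conj, map_mul e]
  have happ : ∀ (φ : MulAut Fi22) (x : Fi22), E φ (e x) = e (φ x) := fun φ x => by
    rw [eE]; simp [MulAut.congr]
  have houter : ∀ φ : MulAut Fi22, (E φ ∈ (MulAut.conj : G →* MulAut G).range ↔ ∃ x, φ = MulAut.conj x) := by
    intro φ
    constructor
    · rintro ⟨g, hg⟩
      obtain ⟨x, rfl⟩ := e.surjective g
      refine ⟨x, E.injective ?_⟩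
      rw [← hg, eE, congr_conj]
    · rintro ⟨x, rfl⟩
      exact ⟨e x, by rw [eE, congr_conj]⟩
  have hnc : ∀ i j, i < 3 → j < 3 → i ≠ j → ¬ IsConj (E (target i)) (E (target j)) := fun i j hi hj hij => by
    rw [eE, isConj_congr]; exact target_not_conj hi hj hij
  refine ⟨E T22Aut.tau, e (SporFi22.gen 3), e (SporFi22.gen 8), (fixG T22Aut.tau).map e.toMonoidHom, ?_, ?_,
    ?_, ?_, ?_, ?_, fun q => hne (e.injective q).symm, hc.map e.toMonoidHom, ?_, ?_, ?_, ?_, ?_, ?_, ?_, ?_,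
    (fixG (target 2)).map e.toMonoidHom, ?_⟩
  · rw [MulEquiv.orderOf_eq, ← target_zero, target_order 0 (by omega)]
  · exact fun q => by
      obtain ⟨x, hx⟩ := (houter _).1 q
      exact T22Invol.tau_ne_inner x hx
  · intro g; rw [map_fixG, eE]
  · obtain ⟨f⟩ := fix_iso_aut hD' hP' hM'
    exact ⟨((e.subgroupMap _).symm).trans f⟩
  · exact he ▸ ⟨_, hg3, rfl⟩
  · exact he ▸ ⟨_, hg8, rfl⟩
  · rw [happ, hτ3]
  · rw [happ, hτ8]
  · intro t ht hout
    obtain ⟨φ, rfl⟩ := E.surjective t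
    rw [MulEquiv.orderOf_eq] at ht
    have h2 : φ * φ = 1 := by rw [← pow_two, ← ht, pow_orderOf_eq_one]
    obtain ⟨j, hj, hjc⟩ := outer_invol hD' hP' hM' h2 fun x hx => hout ((houter φ).2 ⟨x, hx⟩)
    have hjc' : IsConj (E φ) (E (target j)) := E.toMonoidHom.map_isConj hjc
    rcases (by omega : j = 0 ∨ j = 1 ∨ j = 2) with rfl | rfl | rfl
    · exact Or.inl (t0 ▸ hjc')
    · exact Or.inr (Or.inl (t1 ▸ hjc'))
    · exact Or.inr (Or.inr (t2 ▸ hjc'))
  · rw [← t1, ← t0]; exact hnc 0 1 (by omega) (by omega) (by omega)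
  · rw [← t2, ← t0]; exact hnc 0 2 (by omega) (by omega) (by omega)
  · rw [← t1, ← t2]; exact hnc 1 2 (by omega) (by omega) (by omega)
  · intro g
    rw [← t1, eE, ← map_fixG, fix_target_one hD' hP' hM', Subgroup.map_inf _ _ _ e.injective]
    refine and_congr Iff.rfl ?_
    obtain ⟨x, rfl⟩ := e.surjective g
    show e x ∈ Subgroup.map e.toMonoidHom (Subgroup.centralizer ({SporFi22.gen 3} : Set Fi22)) ↔
      e x ∈ Subgroup.centralizer ({e (SporFi22.gen 3)} : Set G)
    rw [Subgroup.mem_centralizer_singleton_iff]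
    constructor
    · rintro ⟨y, hy, hyx⟩
      rw [← show e y = e x from hyx, ← map_mul, ← map_mul, Subgroup.mem_centralizer_singleton_iff.1 hy]
    · intro q
      rw [← map_mul, ← map_mul] at q
      exact ⟨x, Subgroup.mem_centralizer_singleton_iff.2 (e.injective q), rfl⟩
  · obtain ⟨f⟩ := fix_iso_sp hD' hP' hM'
    refine ⟨(MulEquiv.subgroupCongr ?_).trans ((e.subgroupMap _).symm.trans f)⟩
    rw [Subgroup.map_inf _ _ _ e.injective]
    refine congrArg _ (SetLike.ext fun g => ?_)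
    obtain ⟨x, rfl⟩ := e.surjective g
    rw [Subgroup.mem_centralizer_singleton_iff]
    constructor
    · intro q
      rw [← map_mul, ← map_mul] at q
      exact ⟨x, Subgroup.mem_centralizer_singleton_iff.2 (e.injective q), rfl⟩
    · rintro ⟨y, hy, hyx⟩
      rw [← show e y = e x from hyx, ← map_mul, ← map_mul, Subgroup.mem_centralizer_singleton_iff.1 hy]
  · obtain ⟨O, rfl, hel, hcard, hN, ⟨f⟩⟩ := fix_two_structure hD' hP' hM'
    obtain ⟨C, eC⟩ : ∃ C : Subgroup G, C = (fixG (target 2)).map e.toMonoidHom := ⟨_, rfl⟩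
    rw [← eC]
    let w : ↥(fixG (target 2)) ≃* ↥C := (e.subgroupMap _).trans (MulEquiv.subgroupCongr eC.symm)
    have hw : ∀ x : ↥(fixG (target 2)), (w x : G) = e x := fun x => rfl
    have hcore : (Cfsg.pCore 2 ↥C).map C.subtype =
        ((Cfsg.pCore 2 ↥(fixG (target 2))).map (fixG (target 2)).subtype).map e.toMonoidHom := by
      rw [← CfsgLib.Solvable.map_pCore_equiv w 2, Subgroup.map_map, Subgroup.map_map]
      exact congrArg (fun φ => Subgroup.map φ _) (MonoidHom.ext hw)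
    refine ⟨_, ?_, rfl, ?_, ?_, ?_⟩
    · intro g; rw [eC, map_fixG, ← t2, eE]
    · rw [hcore]
      refine ⟨⟨⟨?_⟩⟩, ?_⟩
      · rintro ⟨_, x, hx, rfl⟩ ⟨_, y, hy, rfl⟩
        refine Subtype.ext ?_
        show e x * e y = e y * e x
        haveI := hel.1
        have hxy : x * y = y * x := congrArg Subtype.val
          (mul_comm' (⟨x, hx⟩ : ↥((Cfsg.pCore 2 ↥(fixG (target 2))).map (fixG (target 2)).subtype)) ⟨y, hy⟩)
        rw [← map_mul, ← map_mul, hxy]
      · rintro _ ⟨x, hx, rfl⟩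
        rw [← map_pow, hel.2 x hx, map_one]
    · rw [hcore, ← hcard]
      exact (Nat.card_congr (Subgroup.equivMapOfInjective _ _ e.injective).toEquiv).symm
    · have hsub : ((Cfsg.pCore 2 ↥C).map C.subtype).subgroupOf C = Cfsg.pCore 2 ↥C :=
        Subgroup.comap_map_eq_self_of_injective (Subgroup.subtype_injective _) _
      have hsub' : ((Cfsg.pCore 2 ↥(fixG (target 2))).map (fixG (target 2)).subtype).subgroupOf (fixG (target 2)) =
          Cfsg.pCore 2 ↥(fixG (target 2)) :=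
        Subgroup.comap_map_eq_self_of_injective (Subgroup.subtype_injective _) _
      haveI := CfsgLib.Solvable.pCore_normal 2 ↥C
      haveI := CfsgLib.Solvable.pCore_normal 2 ↥(fixG (target 2))
      have hnC : (((Cfsg.pCore 2 ↥C).map C.subtype).subgroupOf C).Normal := by rw [hsub]; infer_instance
      exact ⟨hnC, ⟨(QuotientGroup.congr _ _ w.symm (by
        rw [hsub, hsub']; exact CfsgLib.Solvable.map_pCore_equiv w.symm 2)).trans f⟩⟩

end CfsgLib.KnownA.FischerOut.T22Fix
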