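import Cfsg.Agent.Lib.KnownA.FischerOut.T22Eleven
import Cfsg.Agent.Lib.KnownA.FischerOut.T22Pi
import Cfsg.Agent.Lib.KnownA.FischerOut.T22PairData

/-!
Kernel checks of the table of hexads through the transpositions of the letters 3 and 8 of Fi22:
the commuting relation depends only on the hexads and separates them.
-/

set_option autoImplicit false
set_option maxRecDepth 100000

namespace CfsgLib.KnownA.FischerOut.T22Pair

open CfsgLib.InvChar.Coset

/-- The number of the hexad of a point. -/
noncomputable def cls (i : ℕ) : ℕ := field posT 128 20 i / 4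

/-- Two hexads commute. -/
noncomputable def bit (e c : ℕ) : Bool := Nat.testBit (rows.getD e 0) c

theorem p_three : FiA.table.follow [1, 0, 2, 1, 3, 2] 0 = 16 := by decide +kernel

theorem p_eight : FiA.table.follow [1, 0, 2, 1, 3, 2, 7, 3, 8, 7] 0 = 92 := by decide +kernel

theorem member_rows : allFrom (fun i => beqB
    (Nat.beq (FiA.table.follow [3] i) i && Nat.beq (FiA.table.follow [8] i) i &&
      !Nat.beq i 16 && !Nat.beq i 92)
    (Nat.blt (field posT 128 20 i) 180)) 0 3510 = true := by decide +kernel

theorem pts_rows : allFrom (fun i => !Nat.blt (field posT 128 20 i) 180 ||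
    Nat.beq (pts.getD (field posT 128 20 i) 0) i) 0 3510 = true := by decide +kernel

theorem point_rows : allFrom (fun k => Nat.blt (pts.getD k 0) 3510 &&
    Nat.beq (field posT 128 20 (pts.getD k 0)) k && letters 9 (words.getD k []) &&
    Nat.beq (pw FiA.table (words.getD k [])) (pts.getD k 0)) 0 180 = true := by decide +kernel

/-- One line of the commuting table. -/
noncomputable def chkRow (k : ℕ) : Bool :=
  allFrom (fun l => beqB (Nat.beq (FiA.table.follow (pal (words.getD k [])) (pts.getD l 0)) (pts.getD l 0))
    (bit (k / 4) (l / 4))) 0 180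

theorem rows_0 : allFrom chkRow 0 30 = true := by decide +kernel
theorem rows_1 : allFrom chkRow 30 30 = true := by decide +kernel
theorem rows_2 : allFrom chkRow 60 30 = true := by decide +kernel
theorem rows_3 : allFrom chkRow 90 30 = true := by decide +kernel
theorem rows_4 : allFrom chkRow 120 30 = true := by decide +kernel
theorem rows_5 : allFrom chkRow 150 30 = true := by decide +kernel

theorem rows_apart : allFrom (fun k => Nat.beq (k / 45) (k % 45) ||
    !allFrom (fun e => beqB (bit e (k / 45)) (bit e (k % 45))) 0 45) 0 2025 = true := by decide +kernel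

theorem q_rows : allFrom (fun c => Nat.blt (qL.getD c 0) 45 && Nat.beq (qL.getD (qL.getD c 0) 0) c &&
    Nat.beq (cls (field T22.piT 128 20 (pts.getD (4 * c) 0))) (qL.getD c 0)) 0 45 = true := by decide +kernel

theorem q_fix : ((List.range 45).filter fun c => !Nat.beq (qL.getD c 0) c).length = 30 := by decide +kernel

end CfsgLib.KnownA.FischerOut.T22Pair
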