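import Cfsg.Agent.Lib.KnownA.FischerOut.T22Out
import Cfsg.Agent.Lib.KnownA.FischerOut.T22PairCheck
import Cfsg.Agent.Lib.Trans3.Fi.TwoPairSig
import Mathlib.GroupTheory.Perm.Cycle.Type

/-!
The diagram automorphism of the presented Fi22 fixes the transpositions of the letters 3 and 8 and
permutes the 45 hexads through them oddly; hence no automorphism congruent to it modulo inner ones
of their joint centraliser acts trivially on that centraliser modulo its 2-radical.
-/

set_option autoImplicit false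
set_option maxRecDepth 100000
set_option linter.unusedSectionVars false

namespace CfsgLib.KnownA.FischerOut.T22Pair

open CfsgLib.InvChar CfsgLib.InvChar.Coset Cfsg.Spor
open T22 (act hStd)

local notation "g₃" => (SporFi22.gen 3 : Fi22)
local notation "g₈" => (SporFi22.gen 8 : Fi22)
local notation "Pt" => Fin FiA.table.n

theorem follow_letter (x : ℕ) (hx : x < 9) (i : Pt) :
    FiA.table.follow [x] i = (SporFi22.rep (SporFi22.gen x) i : ℕ) := by
  rw [act.follow_mem (L := [x]) (by simp; exact hx) i]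
  rw [show wprod act.gen [x] = act.gen x by simp [wprod], inv_eq_of_mul_eq_one_right (act.gg x)]
  rfl

/-- The point of the letter 3. -/
noncomputable def p₃ : Pt := ⟨16, by decide +kernel⟩

/-- The point of the letter 8. -/
noncomputable def p₈ : Pt := ⟨92, by decide +kernel⟩

theorem d_three : act.d p₃ = g₃ := (hStd 3 (by decide +kernel)).2 p₃ p_three.symm

theorem d_eight : act.d p₈ = g₈ := (hStd 8 (by decide +kernel)).2 p₈ p_eight.symm

/-- A common neighbour of the two transpositions. -/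
def Common (i : Pt) : Prop :=
  SporFi22.rep g₃ i = i ∧ SporFi22.rep g₈ i = i ∧ i ≠ p₃ ∧ i ≠ p₈

theorem common_iff (i : Pt) : Common i ↔ field posT 128 20 i < 180 := by
  have hi : (i : ℕ) < 3510 := i.2
  have h := eq_of_beqB (allFrom_get _ member_rows i (Nat.zero_le _) (by omega))
  rw [follow_letter 3 (by omega) i, follow_letter 8 (by omega) i] at h
  constructor
  · rintro ⟨h1, h2, h3, h4⟩
    rw [h1, h2] at h
    have a3 : Nat.beq (i : ℕ) 16 = false :=
      Bool.eq_false_iff.2 fun e => h3 (Fin.ext (Nat.eq_of_beq_eq_true e))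
    have a4 : Nat.beq (i : ℕ) 92 = false :=
      Bool.eq_false_iff.2 fun e => h4 (Fin.ext (Nat.eq_of_beq_eq_true e))
    rw [a3, a4] at h
    simp [Nat.beq_refl] at h
    exact h
  · intro hp
    rw [show Nat.blt (field posT 128 20 i) 180 = true by simpa [Nat.blt_eq] using hp] at h
    simp only [Bool.and_eq_true, Bool.not_eq_true'] at h
    obtain ⟨⟨⟨h1, h2⟩, h3⟩, h4⟩ := h
    refine ⟨Fin.ext (Nat.eq_of_beq_eq_true h1), Fin.ext (Nat.eq_of_beq_eq_true h2), fun e => ?_, fun e => ?_⟩
    · rw [e] at h3; exact absurd h3 (by decide)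
    · rw [e] at h4; exact absurd h4 (by decide)

theorem cls_lt {i : Pt} (hi : Common i) : cls i < 45 := by
  have := (common_iff i).1 hi
  simp only [cls]
  omega

theorem point_of (k : ℕ) (hk : k < 180) : ∃ p : Pt, (p : ℕ) = pts.getD k 0 ∧
    field posT 128 20 (p : ℕ) = k ∧ (∀ x ∈ words.getD k [], x < 9) ∧
    (p : ℕ) = pw FiA.table (words.getD k []) := by
  have h := allFrom_get _ point_rows k (Nat.zero_le _) (by omega)
  simp only [Bool.and_eq_true] at h
  obtain ⟨⟨⟨h1, h2⟩, h3⟩, h4⟩ := h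
  exact ⟨⟨pts.getD k 0, Nat.le_of_ble_eq_true h1⟩, rfl, Nat.eq_of_beq_eq_true h2,
    of_letters h3, (Nat.eq_of_beq_eq_true h4).symm⟩

/-- A point of a hexad. -/
noncomputable def rpt (c : Fin 45) : Pt := (point_of (4 * c) (by omega)).choose

theorem rpt_spec (c : Fin 45) : (rpt c : ℕ) = pts.getD (4 * c) 0 ∧
    field posT 128 20 (rpt c : ℕ) = 4 * c :=
  ⟨(point_of (4 * c) (by omega)).choose_spec.1, (point_of (4 * c) (by omega)).choose_spec.2.1⟩

theorem rpt_common (c : Fin 45) : Common (rpt c) :=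
  (common_iff _).2 (by rw [(rpt_spec c).2]; omega)

theorem cls_rpt (c : Fin 45) : cls (rpt c) = c := by
  rw [cls, (rpt_spec c).2]; omega

theorem commute_iff_bit {i j : Pt} (hi : Common i) (hj : Common j) :
    Commute (act.d i) (act.d j) ↔ bit (cls i) (cls j) = true := by
  have hk := (common_iff i).1 hi
  have hl := (common_iff j).1 hj
  obtain ⟨k, ek⟩ : ∃ k, k = field posT 128 20 (i : ℕ) := ⟨_, rfl⟩
  obtain ⟨l, el⟩ : ∃ l, l = field posT 128 20 (j : ℕ) := ⟨_, rfl⟩
  rw [← ek] at hk
  rw [← el] at hl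
  have back : ∀ p : Pt, field posT 128 20 (p : ℕ) < 180 → pts.getD (field posT 128 20 (p : ℕ)) 0 = (p : ℕ) :=
    fun p hp => by
      have hp' : (p : ℕ) < 3510 := p.2
      have h := allFrom_get _ pts_rows p (Nat.zero_le _) (by omega)
      rw [show Nat.blt (field posT 128 20 p) 180 = true by simpa [Nat.blt_eq] using hp] at h
      exact Nat.eq_of_beq_eq_true h
  obtain ⟨p, hp, -, hw, hpw⟩ := point_of k hk
  have hpi : p = i := Fin.ext (by rw [hp, ek]; exact back i (ek ▸ hk))
  subst hpi
  have hrow : chkRow k = true := by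
    rcases Nat.lt_or_ge k 90 with h | h
    · rcases Nat.lt_or_ge k 30 with h' | h'
      · exact allFrom_get _ rows_0 k (by omega) (by omega)
      rcases Nat.lt_or_ge k 60 with h'' | h''
      · exact allFrom_get _ rows_1 k (by omega) (by omega)
      · exact allFrom_get _ rows_2 k (by omega) (by omega)
    · rcases Nat.lt_or_ge k 120 with h' | h'
      · exact allFrom_get _ rows_3 k (by omega) (by omega)
      rcases Nat.lt_or_ge k 150 with h'' | h''
      · exact allFrom_get _ rows_4 k (by omega) (by omega)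
      · exact allFrom_get _ rows_5 k (by omega) (by omega)
  have h := eq_of_beqB (allFrom_get _ hrow l (Nat.zero_le _) (by omega))
  rw [el, back j (el ▸ hl)] at h
  have hpal : ∀ x ∈ pal (words.getD k []), x < 9 := pal_lt (g := 9) (by omega) hw
  rw [show cls p = k / 4 by rw [cls, ek], show cls j = field posT 128 20 (j : ℕ) / 4 from rfl, ← h,
    act.commute_iff, act.d_pw (L := words.getD k []) hw hpw, act.follow_mem hpal]
  have hinv : (wprod act.gen (pal (words.getD k [])))⁻¹ = wprod act.gen (pal (words.getD k [])) := by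
    rw [← act.wprod_reverse]
    congr 1
    simp [pal]
  rw [hinv]
  constructor
  · intro e; rw [e]; exact Nat.beq_refl _
  · intro e; exact Fin.ext (Nat.eq_of_beq_eq_true e)

/-- Two common neighbours commuting with the same common neighbours. -/
def SigEq (i j : Pt) : Prop :=
  ∀ z, Common z → (Commute (act.d z) (act.d i) ↔ Commute (act.d z) (act.d j))

theorem sigEq_iff {i j : Pt} (hi : Common i) (hj : Common j) : SigEq i j ↔ cls i = cls j := by
  constructor
  · intro h
    by_contra hne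
    have ha := cls_lt hi
    have hb := cls_lt hj
    have h2 := allFrom_get _ rows_apart (cls i * 45 + cls j) (Nat.zero_le _) (by omega)
    rw [show (cls i * 45 + cls j) / 45 = cls i by omega, show (cls i * 45 + cls j) % 45 = cls j by omega,
      Bool.or_eq_true] at h2
    rcases h2 with h2 | h2
    · exact hne (Nat.eq_of_beq_eq_true h2)
    · refine absurd ?_ (Bool.eq_false_iff.1 (by simpa using h2))
      have hall : ∀ n ≤ 45, allFrom (fun e => beqB (bit e (cls i)) (bit e (cls j))) 0 n = true := by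
        intro n
        induction n with
        | zero => intro _; rfl
        | succ n ih =>
          intro hn
          show (beqB (bit (0 + n) (cls i)) (bit (0 + n) (cls j)) && _) = true
          rw [Bool.and_eq_true]
          refine ⟨?_, ih (by omega)⟩
          have := h (rpt ⟨n, by omega⟩) (rpt_common _)
          rw [commute_iff_bit (rpt_common _) hi, commute_iff_bit (rpt_common _) hj, cls_rpt] at this
          simp only [Nat.zero_add]
          revert this
          cases bit n (cls i) <;> cases bit n (cls j) <;> simp [beqB]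
      exact hall 45 le_rfl
  · intro h z hz
    rw [commute_iff_bit hz hi, commute_iff_bit hz hj, h]

theorem d_commute_conj (k : Fi22) (i j : Pt) :
    Commute (act.d (SporFi22.rep k i)) (act.d (SporFi22.rep k j)) ↔ Commute (act.d i) (act.d j) := by
  rw [show SporFi22.rep = act.rep from rfl, ← act.conj_d, ← act.conj_d]
  refine ⟨fun h => ?_, fun h => h.map (MulAut.conj k).toMonoidHom⟩
  exact Commute.of_map (f := (MulAut.conj k).toMonoidHom) (MulAut.conj k).injective h

variable {k : Fi22}

theorem fix_points (h3 : Commute k g₃) (h8 : Commute k g₈) :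
    SporFi22.rep k p₃ = p₃ ∧ SporFi22.rep k p₈ = p₈ := by
  constructor <;> refine act.d_injective ?_ <;> rw [show SporFi22.rep = act.rep from rfl, ← act.conj_d]
  · rw [d_three, h3.eq, mul_inv_cancel_right]
  · rw [d_eight, h8.eq, mul_inv_cancel_right]

theorem common_rep (h3 : Commute k g₃) (h8 : Commute k g₈) {i : Pt} (hi : Common i) :
    Common (SporFi22.rep k i) := by
  obtain ⟨a, b, c, d⟩ := hi
  obtain ⟨q3, q8⟩ := fix_points h3 h8
  refine ⟨?_, ?_, fun e => c ((SporFi22.rep k).injective (e.trans q3.symm)),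
    fun e => d ((SporFi22.rep k).injective (e.trans q8.symm))⟩
  · rw [← Equiv.Perm.mul_apply, ← map_mul, ← h3.eq, map_mul, Equiv.Perm.mul_apply, a]
  · rw [← Equiv.Perm.mul_apply, ← map_mul, ← h8.eq, map_mul, Equiv.Perm.mul_apply, b]

theorem sigEq_rep (h3 : Commute k g₃) (h8 : Commute k g₈) {i j : Pt} (h : SigEq i j) :
    SigEq (SporFi22.rep k i) (SporFi22.rep k j) := by
  intro z hz
  have hz' := common_rep h3.inv_left h8.inv_left hz
  have e : SporFi22.rep k (SporFi22.rep k⁻¹ z) = z := by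
    rw [map_inv]; exact Equiv.apply_symm_apply _ _
  rw [← e, d_commute_conj, d_commute_conj]
  exact h _ hz'

/-- The joint centraliser. -/
def Kc : Subgroup Fi22 := Subgroup.centralizer ({g₃, g₈} : Set Fi22)

theorem mem_Kc (x : Fi22) : x ∈ Kc ↔ Commute x g₃ ∧ Commute x g₈ := by
  rw [Kc, Subgroup.mem_centralizer_iff]
  simp only [Set.mem_insert_iff, Set.mem_singleton_iff, forall_eq_or_imp, forall_eq]
  exact ⟨fun ⟨a, b⟩ => ⟨a.symm, b.symm⟩, fun ⟨a, b⟩ => ⟨a.symm, b.symm⟩⟩

/-- The map on hexads of a member of the joint centraliser. -/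
noncomputable def hmap (k : ↥Kc) (c : Fin 45) : Fin 45 :=
  ⟨cls (SporFi22.rep (k : Fi22) (rpt c)),
    cls_lt (common_rep ((mem_Kc _).1 k.2).1 ((mem_Kc _).1 k.2).2 (rpt_common c))⟩

theorem hmap_cls (k : ↥Kc) {i : Pt} (hi : Common i) :
    (hmap k ⟨cls i, cls_lt hi⟩ : ℕ) = cls (SporFi22.rep (k : Fi22) i) := by
  obtain ⟨a, b⟩ := (mem_Kc _).1 k.2
  exact (sigEq_iff (common_rep a b (rpt_common _)) (common_rep a b hi)).1
    (sigEq_rep a b ((sigEq_iff (rpt_common _) hi).2 (cls_rpt _)))

theorem hmap_one (c : Fin 45) : hmap 1 c = c := Fin.ext (by simp [hmap, cls_rpt])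

theorem hmap_mul (k l : ↥Kc) (c : Fin 45) : hmap (k * l) c = hmap k (hmap l c) := by
  refine Fin.ext ?_
  show cls (SporFi22.rep ((k * l : ↥Kc) : Fi22) (rpt c)) = _
  rw [Subgroup.coe_mul, map_mul, Equiv.Perm.mul_apply, ← hmap_cls k
    (common_rep ((mem_Kc _).1 l.2).1 ((mem_Kc _).1 l.2).2 (rpt_common c))]
  rfl

/-- The action on hexads. -/
noncomputable def hperm : ↥Kc →* Equiv.Perm (Fin 45) where
  toFun k := ⟨hmap k, hmap k⁻¹,
    fun c => by rw [← hmap_mul, inv_mul_cancel, hmap_one],
    fun c => by rw [← hmap_mul, mul_inv_cancel, hmap_one]⟩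
  map_one' := Equiv.ext hmap_one
  map_mul' k l := Equiv.ext (hmap_mul k l)

/-- The map on hexads of the diagram automorphism. -/
noncomputable def qP : Equiv.Perm (Fin 45) :=
  Function.Involutive.toPerm
    (fun c => ⟨qL.getD c 0, by
      have h := allFrom_get _ q_rows c (Nat.zero_le _) (by omega)
      simp only [Bool.and_eq_true] at h
      exact Nat.le_of_ble_eq_true h.1.1⟩)
    fun c => Fin.ext (by
      have h := allFrom_get _ q_rows c (Nat.zero_le _) (by omega)
      simp only [Bool.and_eq_true] at h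
      exact Nat.eq_of_beq_eq_true h.1.2)

theorem sign_qP : Equiv.Perm.sign qP = -1 := by
  classical
  have hs : qP.support.card = 30 := by
    have he : ∀ c : Fin 45, c ∈ qP.support ↔ qL.getD c 0 ≠ (c : ℕ) := fun c => by
      rw [Equiv.Perm.mem_support]
      exact ⟨fun h e => h (Fin.ext e), fun h e => h (congrArg Fin.val e)⟩
    have hmap : qP.support.map Fin.valEmbedding =
        ((List.range 45).filter fun c => !Nat.beq (qL.getD c 0) c).toFinset := by
      ext c
      simp only [Finset.mem_map, Fin.valEmbedding_apply, List.mem_toFinset, List.mem_filter, List.mem_range,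
        Bool.not_eq_true']
      constructor
      · rintro ⟨a, ha, rfl⟩
        exact ⟨a.2, Bool.eq_false_iff.2 fun e => (he a).1 ha (Nat.eq_of_beq_eq_true e)⟩
      · rintro ⟨hc, hb⟩
        exact ⟨⟨c, hc⟩, (he _).2 fun e => by
          have e' : qL.getD c 0 = c := e
          rw [e', Nat.beq_refl] at hb; exact absurd hb (by decide), rfl⟩
    rw [← Finset.card_map Fin.valEmbedding, hmap,
      List.toFinset_card_of_nodup (List.Nodup.filter _ List.nodup_range), q_fix]
  have hne : qP ≠ 1 := fun h => by rw [h, Equiv.Perm.support_one, Finset.card_empty] at hs; omega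
  have ho : orderOf qP = 2 := orderOf_eq_prime (Equiv.ext fun i => by
    rw [pow_two, Equiv.Perm.mul_apply, Equiv.Perm.one_apply]
    exact Function.Involutive.toPerm_involutive _ i) hne
  obtain ⟨m, hm⟩ := Equiv.Perm.cycleType_prime_order (σ := qP) (by rw [ho]; norm_num)
  have h2 : qP.cycleType.sum = 30 := by rw [Equiv.Perm.sum_cycleType, hs]
  rw [hm, ho, Multiset.sum_replicate, smul_eq_mul] at h2
  rw [Equiv.Perm.sign_of_cycleType, hm, ho, Multiset.sum_replicate, Multiset.card_replicate, smul_eq_mul,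
    Odd.neg_one_pow (by rw [show m + 1 = 15 by omega]; decide)]

theorem tau_rep {τ : MulAut Fi22}
    (hτ : ∀ x < 9, τ (SporFi22.gen x) = wprod SporFi22.gen (T22.tauW x)) :
    ∀ u i, T22.piP (SporFi22.rep u i) = SporFi22.rep (τ u) (T22.piP i) := by
  intro u
  induction (SporFi22.closure_gen ▸ Subgroup.mem_top u : u ∈ Subgroup.closure (SporFi22.gen '' Set.Iio 9))
    using Subgroup.closure_induction with
  | mem a ha =>
    obtain ⟨x, hx, rfl⟩ := ha
    have hx : x < 9 := hx
    intro i
    have hi : (i : ℕ) < 3510 := i.2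
    have h := allFrom_get _ T22.pi_step ((i : ℕ) * 9 + x) (Nat.zero_le _) (by omega)
    rw [show ((i : ℕ) * 9 + x) % 9 = x by omega, show ((i : ℕ) * 9 + x) / 9 = (i : ℕ) by omega] at h
    refine Fin.ext ?_
    rw [SporFi22.rep_gen x hx, hτ x hx]
    show field T22.piT 128 20 (SporFi22.perm x i : ℕ) = _
    rw [show (SporFi22.perm x i : ℕ) = FiA.table.app i x from FiA.valid.toPerm_apply FiA.sq hx i,
      Nat.eq_of_beq_eq_true h]
    have hr : ∀ y ∈ (T22.tauW x).reverse, y < 9 := fun y hy => T22.tauW_lt x hx y (List.mem_reverse.1 hy)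
    rw [show field T22.piT 128 20 (i : ℕ) = (T22.piP i : ℕ) from rfl,
      ← SporFi22.rep_inv_wprod _ hr (T22.piP i),
      show wprod SporFi22.gen (T22.tauW x).reverse = (wprod SporFi22.gen (T22.tauW x))⁻¹ from act.wprod_reverse _,
      inv_inv]
  | one => intro i; simp
  | mul a b _ _ ha hb =>
    intro i
    rw [map_mul, Equiv.Perm.mul_apply, ha, hb, ← Equiv.Perm.mul_apply, ← map_mul, ← map_mul τ]
  | inv a _ ha =>
    intro i
    have h := ha (SporFi22.rep a⁻¹ i)
    rw [show SporFi22.rep a (SporFi22.rep a⁻¹ i) = i by rw [map_inv]; exact Equiv.apply_symm_apply _ _] at h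
    rw [h, map_inv τ, map_inv, map_inv]
    exact (Equiv.symm_apply_apply _ _).symm

theorem tau_zero {τ : MulAut Fi22}
    (hτ : ∀ x < 9, τ (SporFi22.gen x) = wprod SporFi22.gen (T22.tauW x)) (x : ℕ) (hx : x < 9) (h7 : x ≠ 7) :
    τ (SporFi22.gen x) = SporFi22.gen x := by
  rw [hτ x hx]
  have hb : Nat.beq x 7 = false := Bool.eq_false_iff.2 fun e => h7 (Nat.eq_of_beq_eq_true e)
  simp [T22.tauW, hb, wprod]

theorem tau_d {τ : MulAut Fi22}
    (hτ : ∀ x < 9, τ (SporFi22.gen x) = wprod SporFi22.gen (T22.tauW x)) (i : Pt) :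
    τ (act.d i) = act.d (T22.piP i) := by
  obtain ⟨u, rfl⟩ := act.trans i
  have hp0 : T22.piP act.o = act.o := Fin.ext (by
    show field T22.piT 128 20 0 = 0
    decide +kernel)
  rw [show (⟨0, act.hn⟩ : Pt) = act.o from rfl, act.d_eq, show act.rep = SporFi22.rep from rfl,
    tau_rep hτ, hp0, ← show act.rep = SporFi22.rep from rfl, act.d_eq, map_mul, map_mul, map_inv,
    show τ (act.gen 0) = act.gen 0 from tau_zero hτ 0 (by omega) (by omega)]

/-- The diagram automorphism is odd on the hexads through the pair. -/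
theorem moves {τ : MulAut Fi22}
    (hτ : ∀ x < 9, τ (SporFi22.gen x) = wprod SporFi22.gen (T22.tauW x))
    (E : Subgroup Fi22) (hnorm : ∀ g, Commute g g₃ → Commute g g₈ → ∀ x ∈ E, g * x * g⁻¹ ∈ E)
    (hE : IsPGroup 2 E)
    (hperf : ∀ f : ↥Kc →* ℤˣ, (∀ x : ↥Kc, (x : Fi22) ∈ E → f x = 1) → ∀ x, f x = 1)
    {k : Fi22} (h3 : Commute k g₃) (h8 : Commute k g₈) :
    ∃ x, Commute x g₃ ∧ Commute x g₈ ∧ k * τ x * k⁻¹ * x⁻¹ ∉ E := by
  by_contra hno
  push Not at hno
  have hS := SporFi22.isThreeTranspositionClass.1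
  have hmem : ∀ i : Pt, act.d i ∈ conjugatesOf (SporFi22.gen 0 : Fi22) := fun i =>
    isConj_iff.2 ⟨(act.trans i).choose, rfl⟩
  have hK : ∀ {i : Pt}, Common i → Commute (act.d i) g₃ ∧ Commute (act.d i) g₈ := by
    intro i hi
    have q3 : Commute (act.d p₃) (act.d i) := (act.commute_iff _ _).2 (by rw [d_three]; exact hi.1)
    have q8 : Commute (act.d p₈) (act.d i) := (act.commute_iff _ _).2 (by rw [d_eight]; exact hi.2.1)
    exact ⟨d_three ▸ q3.symm, d_eight ▸ q8.symm⟩
  have hsig : ∀ {i j : Pt}, Common i → Common j → act.d i * act.d j ∈ E → SigEq i j := by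
    intro i j hi hj h z hz
    have hn : ∀ x ∈ E, act.d z * x * (act.d z)⁻¹ ∈ E := hnorm _ (hK hz).1 (hK hz).2
    refine ⟨fun c => ?_, fun c => ?_⟩
    · refine Trans3.Fi.commute_of_mul_mem hS hE (hmem j) (hmem i) (hmem z) hn ?_ c
      have := inv_mem h
      rwa [mul_inv_rev, Trans3.inv_eq hS (hmem i), Trans3.inv_eq hS (hmem j)] at this
    · exact Trans3.Fi.commute_of_mul_mem hS hE (hmem i) (hmem j) (hmem z) hn h c
  -- the kernel acts trivially, so everything acts evenly
  have htriv : ∀ x : ↥Kc, (x : Fi22) ∈ E → hperm x = 1 := by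
    intro x hx
    obtain ⟨a, b⟩ := (mem_Kc _).1 x.2
    refine Equiv.ext fun c => Fin.ext ?_
    show cls (SporFi22.rep (x : Fi22) (rpt c)) = c
    have hc := rpt_common c
    have he : act.d (SporFi22.rep (x : Fi22) (rpt c)) * act.d (rpt c) ∈ E := by
      rw [show SporFi22.rep = act.rep from rfl, ← act.conj_d]
      have := mul_mem hx (hnorm _ (hK hc).1 (hK hc).2 _ (inv_mem hx))
      rw [Trans3.inv_eq hS (hmem _)] at this
      convert this using 1
      group
    rw [(sigEq_iff (common_rep a b hc) hc).1 (hsig (common_rep a b hc) hc he), cls_rpt]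
  have heven : ∀ x : ↥Kc, Equiv.Perm.sign (hperm x) = 1 :=
    hperf (Equiv.Perm.sign.comp hperm) fun x hx => by simp [htriv x hx]
  -- the diagram automorphism
  have hpiC : ∀ {i : Pt}, Common i → Common (T22.piP i) := by
    intro i hi
    obtain ⟨a, b, c, d⟩ := hi
    have f : ∀ (x : ℕ) (p : Pt), x < 9 → x ≠ 7 → act.d p = SporFi22.gen x → T22.piP p = p :=
      fun x p hx h7 hp => act.d_injective (by rw [← tau_d hτ, hp, tau_zero hτ x hx h7])
    refine ⟨?_, ?_, fun e => c (T22.piP.injective ?_), fun e => d (T22.piP.injective ?_)⟩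
    · rw [← tau_zero hτ 3 (by omega) (by omega), ← tau_rep hτ, a]
    · rw [← tau_zero hτ 8 (by omega) (by omega), ← tau_rep hτ, b]
    · rw [e, f 3 p₃ (by omega) (by omega) d_three]
    · rw [e, f 8 p₈ (by omega) (by omega) d_eight]
  let kk : ↥Kc := ⟨k, (mem_Kc k).2 ⟨h3, h8⟩⟩
  have hq : hperm kk * qP = 1 := by
    refine Equiv.ext fun c => Fin.ext ?_
    have hc := rpt_common c
    have hqc : (⟨cls (T22.piP (rpt c)), cls_lt (hpiC hc)⟩ : Fin 45) = qP c := by
      refine Fin.ext ?_
      have h := allFrom_get _ q_rows c (Nat.zero_le _) (by omega)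
      simp only [Bool.and_eq_true] at h
      show cls (field T22.piT 128 20 (rpt c : ℕ)) = _
      rw [(rpt_spec c).1]
      exact Nat.eq_of_beq_eq_true h.2
    show (hmap kk (qP c) : ℕ) = c
    rw [← hqc, hmap_cls kk (hpiC hc)]
    have hx := hno (act.d (rpt c)) (hK hc).1 (hK hc).2
    rw [tau_d hτ, show k * act.d (T22.piP (rpt c)) * k⁻¹ = act.d (SporFi22.rep k (T22.piP (rpt c))) from
      act.conj_d _ _, Trans3.inv_eq hS (hmem _)] at hx
    rw [(sigEq_iff (common_rep h3 h8 (hpiC hc)) hc).1 (hsig (common_rep h3 h8 (hpiC hc)) hc hx), cls_rpt]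
  have h1 := congrArg Equiv.Perm.sign hq
  rw [map_mul, heven kk, sign_qP, map_one] at h1
  exact absurd h1 (by decide)

theorem automorphism_conj {τ : MulAut Fi22}
    (hτ : ∀ x < 9, τ (SporFi22.gen x) = wprod SporFi22.gen (T22.tauW x)) {d : Fi22}
    (hd : d ∈ conjugatesOf (SporFi22.gen 0 : Fi22)) : τ d ∈ conjugatesOf (SporFi22.gen 0 : Fi22) := by
  obtain ⟨u, rfl⟩ := isConj_iff.1 hd
  refine isConj_iff.2 ⟨τ u, ?_⟩
  rw [map_mul, map_mul, map_inv, tau_zero hτ 0 (by omega) (by omega)]

/-- Every automorphism is inner or the diagram one times inner. -/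
theorem decompose {τ : MulAut Fi22}
    (hτ : ∀ x < 9, τ (SporFi22.gen x) = wprod SporFi22.gen (T22.tauW x)) (φ : MulAut Fi22) :
    ∃ g, φ = MulAut.conj g ∨ φ = MulAut.conj g * τ := by
  by_cases hφ : φ ∈ Cfsg.Inn Fi22
  · obtain ⟨g, hg⟩ := MonoidHom.mem_range.1 hφ
    exact ⟨g, Or.inl hg.symm⟩
  have ht : τ ∉ Cfsg.Inn Fi22 := fun ⟨g, hg⟩ => T22.tau_outer τ hτ g hg.symm
  obtain ⟨x, hx, hxu⟩ := (Nat.card_eq_two_iff' (1 : Cfsg.Out Fi22)).1 T22.card_out
  have e1 := hxu (QuotientGroup.mk τ) (fun e => ht ((QuotientGroup.eq_one_iff τ).1 e))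
  have e2 := hxu (QuotientGroup.mk φ) (fun e => hφ ((QuotientGroup.eq_one_iff φ).1 e))
  have h : φ / τ ∈ Cfsg.Inn Fi22 := QuotientGroup.eq_iff_div_mem.1 (e2.trans e1.symm)
  obtain ⟨g, hg⟩ := MonoidHom.mem_range.1 h
  exact ⟨g, Or.inr (by rw [hg, div_mul_cancel])⟩

theorem pair_facts : (g₃ : Fi22) ∈ conjugatesOf (SporFi22.gen 0 : Fi22) ∧
    g₈ ∈ conjugatesOf (SporFi22.gen 0 : Fi22) ∧ g₈ ≠ g₃ ∧ Commute g₃ g₈ := by
  refine ⟨d_three ▸ isConj_iff.2 ⟨(act.trans p₃).choose, rfl⟩,
    d_eight ▸ isConj_iff.2 ⟨(act.trans p₈).choose, rfl⟩, fun e => ?_, ?_⟩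
  · have := act.d_injective (d_eight.trans (e.trans d_three.symm))
    exact absurd (congrArg Fin.val this) (by decide)
  · rw [← d_three, ← d_eight, act.commute_iff, d_three]
    refine Fin.ext ?_
    rw [show act.rep = SporFi22.rep from rfl, ← follow_letter 3 (by omega)]
    show FiA.table.follow [3] 92 = 92
    decide +kernel

end CfsgLib.KnownA.FischerOut.T22Pair
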