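import Cfsg.Agent.Lib.KnownA.FischerOut.T22Aut
import Cfsg.Agent.Lib.KnownA.FischerOut.T22InvolCheck
import Cfsg.Agent.Lib.Trans3.Fi.TwoPairFit
import Cfsg.Agent.Lib.Trans3.Fi.TwoPairPerm
import Cfsg.Agent.Lib.Trans3.Fi.AutCard

/-!
The kernel of the action on hexads of the centraliser of a transposition pair product in the
presented Fi22 is the 2-radical of order `2¹⁰`, listed by ten generators; the image has order 51840.
-/

set_option autoImplicit false
set_option maxRecDepth 100000
set_option linter.unusedSectionVars false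

namespace CfsgLib.KnownA.FischerOut.T22Invol

open CfsgLib.InvChar CfsgLib.InvChar.Coset Cfsg.Spor
open T22 (act)
open T22Pair (Common rpt cls cls_lt rpt_spec rpt_common cls_rpt sigEq_iff SigEq)
open T22Aut CfsgLib.Trans3.Fi

local instance : Finite Fi22 := SporFi22.card_le.1

local notation "g₃" => (SporFi22.gen 3 : Fi22)
local notation "g₈" => (SporFi22.gen 8 : Fi22)
local notation "D₀" => conjugatesOf (SporFi22.gen 0 : Fi22)
local notation "Pt" => Fin FiA.table.n

theorem all9 {q : ℕ → Bool} {L : List ℕ} (h : L.all q = true) : ∀ x ∈ L, q x = true :=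
  fun x hx => List.all_eq_true.1 h x hx

/-- A centraliser word as an automorphism of the centraliser. -/
theorem wel_mem (w : List ℕ) (hw : ∀ x ∈ w, x < 9) (hp : pairWord w = true) : wel w ∈ Cz := by
  have hr : ∀ (p : Pt), (SporFi22.rep (wel w) p : ℕ) = FiA.table.follow w p := fun p => by
    rw [← amove_conj]; exact amove_wel hw p
  have e3 : wel w * g₃ * (wel w)⁻¹ = act.d (SporFi22.rep (wel w) T22Pair.p₃) := by
    rw [← T22Pair.d_three]; exact act.conj_d _ _
  have e8 : wel w * g₈ * (wel w)⁻¹ = act.d (SporFi22.rep (wel w) T22Pair.p₈) := by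
    rw [← T22Pair.d_eight]; exact act.conj_d _ _
  have hc := (T22Pair.pair_facts).2.2.2
  rw [mem_Cz, commute_iff_eq, ← mul_inv_eq_iff_eq_mul,
    show wel w * (g₃ * g₈) * (wel w)⁻¹ = (wel w * g₃ * (wel w)⁻¹) * (wel w * g₈ * (wel w)⁻¹) by group,
    e3, e8]
  simp only [pairWord, Bool.or_eq_true, Bool.and_eq_true] at hp
  rcases hp with ⟨a, b⟩ | ⟨a, b⟩
  · rw [show SporFi22.rep (wel w) T22Pair.p₃ = T22Pair.p₃ from
      Fin.ext ((hr _).trans (Nat.eq_of_beq_eq_true a)),
      show SporFi22.rep (wel w) T22Pair.p₈ = T22Pair.p₈ from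
      Fin.ext ((hr _).trans (Nat.eq_of_beq_eq_true b)), T22Pair.d_three, T22Pair.d_eight]
  · rw [show SporFi22.rep (wel w) T22Pair.p₃ = T22Pair.p₈ from
      Fin.ext ((hr _).trans (Nat.eq_of_beq_eq_true a)),
      show SporFi22.rep (wel w) T22Pair.p₈ = T22Pair.p₃ from
      Fin.ext ((hr _).trans (Nat.eq_of_beq_eq_true b)), T22Pair.d_three, T22Pair.d_eight, hc.eq]

variable (hD : Cfsg.IsThreeTranspositionGroup (conjugatesOf (SporFi22.gen 0 : Fi22)))
variable (hP : Cfsg.IsPrimitiveUnderConj (conjugatesOf (SporFi22.gen 0 : Fi22)))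
variable (h : Cfsg.IsOfTypeM22 Fi22 (conjugatesOf (SporFi22.gen 0 : Fi22)))
include hD hP h

/-- A member of the centraliser as an element of the automorphism subgroup. -/
theorem conj_CA {g : Fi22} (hg : g ∈ Cz) : MulAut.conj g ∈ CA := (conj_mem_CA g).2 hg

/-- The hexad map of a centraliser word. -/
theorem chi_wel (w : List ℕ) (hw : ∀ x ∈ w, x < 9) (hp : pairWord w = true) (c : Fin 45) :
    (chi hD hP h ⟨MulAut.conj (wel w), conj_CA hD hP h (wel_mem w hw hp)⟩ c : ℕ) =
      cls (FiA.table.follow w (T22Pair.pts.getD (4 * c) 0)) := by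
  rw [chi_apply, show (amove (MulAut.conj (wel w)) (rpt c) : ℕ) = FiA.table.follow w (rpt c : ℕ) from
    amove_wel hw _, (rpt_spec c).1]

/-- The centraliser generators. -/
noncomputable def cg (g : ℕ) : Fi22 := wel (cWords.getD g [])

theorem cg_spec (g : ℕ) (hg : g < 6) : ∃ hm : cg g ∈ Cz, ∀ c : Fin 45,
    (chi hD hP h ⟨MulAut.conj (cg g), conj_CA hD hP h hm⟩ c : ℕ) = (cHex.getD g []).getD c 0 := by
  have hh := allFrom_get _ c_words g (Nat.zero_le _) (by omega)
  simp only [Bool.and_eq_true] at hh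
  obtain ⟨⟨h1, h2⟩, h3⟩ := hh
  refine ⟨wel_mem _ (of_letters h1) h2, fun c => ?_⟩
  refine (chi_wel hD hP h _ (of_letters h1) h2 c).trans ?_
  exact Nat.eq_of_beq_eq_true (allFrom_get _ h3 c (Nat.zero_le _) (by omega))

/-- The restriction of the action to inner automorphisms. -/
noncomputable def chiC : ↥Cz →* Equiv.Perm (Fin 45) :=
  (chi hD hP h).comp (((MulAut.conj : Fi22 →* MulAut Fi22).comp Cz.subtype).codRestrict CA
    fun g => conj_CA hD hP h g.2)

theorem chiC_apply (g : ↥Cz) :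
    chiC hD hP h g = chi hD hP h ⟨MulAut.conj (g : Fi22), conj_CA hD hP h g.2⟩ := rfl

/-- The ten generators of the radical. -/
noncomputable def eg (b : ℕ) : Fi22 := wel (eWords.getD b [])

theorem eg_spec (b : ℕ) (hb : b < 10) : ∃ hm : eg b ∈ Cz, chiC hD hP h ⟨eg b, hm⟩ = 1 ∧
    ∀ i : Pt, (amove (MulAut.conj (eg b)) i : ℕ) = field eT 128 20 (b * 3510 + i) := by
  have hh := allFrom_get _ e_words b (Nat.zero_le _) (by omega)
  simp only [Bool.and_eq_true] at hh
  obtain ⟨⟨⟨h1, h2⟩, h3⟩, h4⟩ := hh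
  have hp : pairWord (eWords.getD b []) = true := by
    simp only [pairWord, h2, h3, Bool.and_self, Bool.true_or]
  refine ⟨wel_mem _ (of_letters h1) hp, ?_, fun i => ?_⟩
  · refine Equiv.ext fun c => Fin.ext ?_
    rw [chiC_apply]
    show (chi hD hP h ⟨MulAut.conj (wel (eWords.getD b [])), _⟩ c : ℕ) = _
    rw [chi_wel hD hP h _ (of_letters h1) hp, Equiv.Perm.one_apply]
    exact Nat.eq_of_beq_eq_true (allFrom_get _ h4 c (Nat.zero_le _) (by omega))
  · have hi : (i : ℕ) < 3510 := i.2
    have := allFrom_get _ (allFrom_get _ eT_rows i (Nat.zero_le _) (by omega)) b (Nat.zero_le _) (by omega)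
    rw [Nat.eq_of_beq_eq_true this]
    exact amove_wel (of_letters h1) i

/-- A product of generators of the radical. -/
noncomputable def eEl (k : ℕ) : Fi22 :=
  [9, 8, 7, 6, 5, 4, 3, 2, 1, 0].foldl (fun a b => bif Nat.testBit k b then eg b * a else a) 1

theorem eEl_spec (k : ℕ) : ∃ hm : eEl k ∈ Cz, chiC hD hP h ⟨eEl k, hm⟩ = 1 ∧
    ∀ i : Pt, (amove (MulAut.conj (eEl k)) i : ℕ) = eApp k i := by
  have key : ∀ (L : List ℕ), (∀ b ∈ L, b < 10) → ∀ (a : Fi22) (ha : a ∈ Cz) (f : ℕ → ℕ),
      chiC hD hP h ⟨a, ha⟩ = 1 → (∀ i : Pt, (amove (MulAut.conj a) i : ℕ) = f i) →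
      ∃ hm : L.foldl (fun a b => bif Nat.testBit k b then eg b * a else a) a ∈ Cz,
        chiC hD hP h ⟨_, hm⟩ = 1 ∧ ∀ i : Pt,
          (amove (MulAut.conj (L.foldl (fun a b => bif Nat.testBit k b then eg b * a else a) a)) i : ℕ) =
            L.foldl (fun i b => bif Nat.testBit k b then field eT 128 20 (b * 3510 + i) else i) (f i) := by
    intro L
    induction L with
    | nil => intro _ a ha f h1 h2; exact ⟨ha, h1, h2⟩
    | cons b L ih =>
      intro hL a ha f h1 h2
      obtain ⟨hb, hb1, hb2⟩ := eg_spec hD hP h b (hL b (by simp))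
      simp only [List.foldl_cons]
      rcases Bool.eq_false_or_eq_true (Nat.testBit k b) with hbit | hbit <;> simp only [hbit, cond_true, cond_false]
      swap
      · exact ih (fun x hx => hL x (List.mem_cons_of_mem _ hx)) a ha f h1 h2
      · refine ih (fun x hx => hL x (List.mem_cons_of_mem _ hx)) (eg b * a) (mul_mem hb ha)
          (fun i => field eT 128 20 (b * 3510 + f i)) ?_ fun i => ?_
        · rw [show (⟨eg b * a, mul_mem hb ha⟩ : ↥Cz) = ⟨eg b, hb⟩ * ⟨a, ha⟩ from rfl, map_mul, hb1, h1,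
            one_mul]
        · rw [map_mul, amove_mul, hb2, h2]
  exact key [9, 8, 7, 6, 5, 4, 3, 2, 1, 0] (by decide) 1 (one_mem _) id (map_one _) fun i => by
    rw [map_one, amove_one]; rfl

theorem eKey_inj {k k' : ℕ} (hk : k < 1024) (hk' : k' < 1024)
    (he : ∀ p ∈ std9, eApp k p = eApp k' p) : k = k' := by
  have e1 : eKey' k = eKey' k' := by
    simp only [eKey']
    have : ∀ L : List ℕ, (∀ p ∈ L, p ∈ std9) →
        L.foldr (fun p a => a * 4096 + eApp k p) 0 = L.foldr (fun p a => a * 4096 + eApp k' p) 0 := by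
      intro L
      induction L with
      | nil => intro _; rfl
      | cons p L ih =>
        intro hL
        simp only [List.foldr_cons]
        rw [he p (hL p (by simp)), ih fun q hq => hL q (List.mem_cons_of_mem _ hq)]
    exact this std9 fun p hp => hp
  have hmono : ∀ d j, j + d + 1 < 1024 →
      eKey' (field ordT 128 20 j) < eKey' (field ordT 128 20 (j + d + 1)) := by
    intro d
    induction d with
    | zero =>
      intro j hj
      have := allFrom_get _ e_sorted j (Nat.zero_le _) (by omega)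
      simp only [Bool.and_eq_true, Bool.or_eq_true] at this
      rcases this.2 with h2 | h2
      · have := Nat.eq_of_beq_eq_true h2; omega
      · exact Nat.le_of_ble_eq_true h2
    | succ d ih =>
      intro j hj
      have := allFrom_get _ e_sorted (j + d + 1) (Nat.zero_le _) (by omega)
      simp only [Bool.and_eq_true, Bool.or_eq_true] at this
      rcases this.2 with h2 | h2
      · have := Nat.eq_of_beq_eq_true h2; omega
      · exact (ih j (by omega)).trans (Nat.le_of_ble_eq_true h2)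
  have hr : ∀ x, x < 1024 → field rankT 128 20 x < 1024 ∧ field ordT 128 20 (field rankT 128 20 x) = x := by
    intro x hx
    have := allFrom_get _ e_rank x (Nat.zero_le _) (by omega)
    rw [Bool.and_eq_true] at this
    exact ⟨Nat.le_of_ble_eq_true this.1, Nat.eq_of_beq_eq_true this.2⟩
  obtain ⟨a1, a2⟩ := hr k hk
  obtain ⟨b1, b2⟩ := hr k' hk'
  rcases Nat.lt_trichotomy (field rankT 128 20 k) (field rankT 128 20 k') with l | l | l
  · obtain ⟨d, hd⟩ : ∃ d, field rankT 128 20 k' = field rankT 128 20 k + d + 1 :=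
      ⟨field rankT 128 20 k' - field rankT 128 20 k - 1, by omega⟩
    have := hmono d _ (hd ▸ b1)
    rw [← hd, a2, b2] at this
    omega
  · rw [← a2, l, b2]
  · obtain ⟨d, hd⟩ : ∃ d, field rankT 128 20 k = field rankT 128 20 k' + d + 1 :=
      ⟨field rankT 128 20 k - field rankT 128 20 k' - 1, by omega⟩
    have := hmono d _ (hd ▸ a1)
    rw [← hd, a2, b2] at this
    omega

theorem std9_lt (p : ℕ) (hp : p ∈ std9) : p < 3510 :=
  (by decide : ∀ p ∈ std9, p < 3510) p hp

theorem eEl_injective : Function.Injective fun k : Fin 1024 => eEl k := by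
  intro a b e
  have e' : eEl a = eEl b := e
  refine Fin.ext (eKey_inj hD hP h a.2 b.2 fun p hp => ?_)
  obtain ⟨ha, -, h1⟩ := eEl_spec hD hP h a
  obtain ⟨hb, -, h2⟩ := eEl_spec hD hP h b
  have hp' : p < FiA.table.n := std9_lt hD hP h p hp
  have := h1 ⟨p, hp'⟩
  rw [e', h2 ⟨p, hp'⟩] at this
  exact this.symm

/-- The kernel of the action of the centraliser on hexads has order `2¹⁰`, its image order 51840. -/
theorem chiC_structure : Nat.card (chiC hD hP h).ker = 1024 ∧ Nat.card (chiC hD hP h).range = 51840 ∧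
    Nat.card ↥Cz = 53084160 := by
  obtain ⟨h₁, n₂⟩ := pair_nbr hD hP h
  obtain ⟨K, eK⟩ : ∃ K : Subgroup Fi22, K = Subgroup.centralizer ({g₃, g₈} : Set Fi22) := ⟨_, rfl⟩
  have hK : ∀ x, x ∈ K ↔ Commute x g₃ ∧ Commute x g₈ := fun x => by
    rw [eK]; exact T22Pair.mem_Kc x
  obtain ⟨-, E, hVE, hEK, hEC, hnorm, hcE, hcomm, hEn, F, iF, iFt, hF, ⟨φ⟩⟩ :=
    m22_pair_structure_core hD hP h h₁ n₂ hK mem_Cz rfl
  have hF2 : Fintype.card F = 2 ^ 2 := hF
  have hzsu := center_su_four hF2
  haveI : IsSimpleGroup (Cfsg.PSU 4 F 2) :=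
    CfsgLib.Classical.isSimpleGroup_psu hF2 (n := 4) (by norm_num) (by norm_num)
  have hzp : Subgroup.center (Cfsg.PSU 4 F 2) = ⊥ := center_congr
    ((QuotientGroup.quotientMulEquivOfEq hzsu).trans QuotientGroup.quotientBot).symm hzsu
  have hpsu : Nat.card (Cfsg.PSU 4 F 2) = 25920 := by
    rw [← card_su_four hF2]
    exact Nat.card_congr
      ((QuotientGroup.quotientMulEquivOfEq hzsu).trans QuotientGroup.quotientBot).toEquiv
  have hE2 : IsPGroup 2 E := isPGroup_two_of_card hcE
  have hcEc : Nat.card (E.subgroupOf Cz) = 1024 := by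
    rw [Nat.card_congr (Subgroup.subgroupOfEquivOfLe hEC).toEquiv, hcE]; norm_num
  have hcC : Nat.card ↥Cz = 53084160 := by
    have h1 := Subgroup.card_eq_card_quotient_mul_card_subgroup (E.subgroupOf Cz)
    rw [Nat.card_congr φ.toEquiv, card_aut_psu_four hF, hcEc] at h1
    rw [h1]
  have hS := SporFi22.isThreeTranspositionClass.1
  -- the radical acts trivially
  have htriv : E.subgroupOf Cz ≤ (chiC hD hP h).ker := by
    intro x hx
    rw [MonoidHom.mem_ker]
    rw [Subgroup.mem_subgroupOf] at hx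
    refine Equiv.ext fun c => Fin.ext ?_
    rw [chiC_apply, chi_apply, Equiv.Perm.one_apply]
    obtain ⟨j, ej⟩ : ∃ j, j = amove (MulAut.conj (x : Fi22)) (rpt c) := ⟨_, rfl⟩
    have hjC : Common j := ej ▸ common_amove hD hP h (conj_CA hD hP h x.2) (rpt_common c)
    obtain ⟨kc, kc', -, -⟩ := (common_commute _).1 (rpt_common c)
    have he : act.d j * act.d (rpt c) ∈ E := by
      rw [ej, d_amove, MulAut.conj_apply]
      have hn' : act.d (rpt c) * (x : Fi22)⁻¹ * (act.d (rpt c))⁻¹ ∈ E :=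
        hnorm _ ((mem_Cz _).2 (kc.mul_right kc')) _ (inv_mem hx)
      have := mul_mem hx hn'
      rw [Trans3.inv_eq hS (d_mem _)] at this
      convert this using 1
      group
    have hs : SigEq j (rpt c) := by
      intro z hz
      obtain ⟨z3, z8, -, -⟩ := (common_commute z).1 hz
      have hn : ∀ y ∈ E, act.d z * y * (act.d z)⁻¹ ∈ E :=
        fun y hy => hnorm _ ((mem_Cz _).2 (z3.mul_right z8)) y hy
      refine ⟨fun k => ?_, fun k => commute_of_mul_mem hS hE2 (d_mem _) (d_mem _) (d_mem _) hn he k⟩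
      refine commute_of_mul_mem hS hE2 (d_mem _) (d_mem _) (d_mem _) hn ?_ k
      have := inv_mem he
      rwa [mul_inv_rev, Trans3.inv_eq hS (d_mem _), Trans3.inv_eq hS (d_mem _)] at this
    rw [← ej, (sigEq_iff hjC (rpt_common c)).1 hs, cls_rpt]
  -- the image is large
  have himg : ¬ Nat.card (chiC hD hP h).range ≤ 2 := by
    intro h2
    obtain ⟨h0m, h0⟩ := cg_spec hD hP h 0 (by omega)
    obtain ⟨h1m, h1⟩ := cg_spec hD hP h 1 (by omega)
    have hne : ∀ g < 2, ∀ (hm : cg g ∈ Cz), (∀ c : Fin 45,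
        (chi hD hP h ⟨MulAut.conj (cg g), conj_CA hD hP h hm⟩ c : ℕ) = (cHex.getD g []).getD c 0) →
        chiC hD hP h ⟨cg g, hm⟩ ≠ 1 := by
      intro g hg hm hgc e
      have h3 := allFrom_get _ c_ne_one g (Nat.zero_le _) (by omega)
      simp only [Bool.not_eq_true'] at h3
      refine absurd ?_ (Bool.eq_false_iff.1 h3)
      have hall : ∀ n ≤ 45, allFrom (fun c => Nat.beq ((cHex.getD g []).getD c 0) c) 0 n = true := by
        intro n
        induction n with
        | zero => intro _; rfl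
        | succ n ih =>
          intro hn
          show (Nat.beq ((cHex.getD g []).getD (0 + n) 0) (0 + n) && _) = true
          rw [Bool.and_eq_true]
          refine ⟨?_, ih (by omega)⟩
          rw [Nat.zero_add]
          have := hgc ⟨n, by omega⟩
          rw [← chiC_apply hD hP h ⟨cg g, hm⟩, e, Equiv.Perm.one_apply] at this
          exact (congrArg (Nat.beq · n) this.symm).trans (Nat.beq_refl n)
      exact hall 45 le_rfl
    have hdiff : chiC hD hP h ⟨cg 0, h0m⟩ ≠ chiC hD hP h ⟨cg 1, h1m⟩ := by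
      intro e
      have key : ∀ c < 45, (cHex.getD 0 []).getD c 0 = (cHex.getD 1 []).getD c 0 := fun c hc => by
        have a := h0 ⟨c, hc⟩
        have b := h1 ⟨c, hc⟩
        rw [← chiC_apply hD hP h ⟨cg 0, h0m⟩, e, chiC_apply] at a
        exact a.symm.trans b
      have h4 := c_apart
      rw [Bool.or_eq_true] at h4
      rcases h4 with h4 | h4 <;> simp only [Bool.not_eq_true'] at h4
      · rw [key 0 (by omega), Nat.beq_refl] at h4; exact absurd h4 (by decide)
      · refine absurd ?_ (Bool.eq_false_iff.1 h4)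
        have hall : ∀ n ≤ 45, allFrom (fun c => Nat.beq ((cHex.getD 0 []).getD c 0)
            ((cHex.getD 1 []).getD c 0)) 0 n = true := by
          intro n
          induction n with
          | zero => intro _; rfl
          | succ n ih =>
            intro hn
            show (Nat.beq ((cHex.getD 0 []).getD (0 + n) 0) ((cHex.getD 1 []).getD (0 + n) 0) && _) = true
            rw [Bool.and_eq_true]
            exact ⟨by rw [key (0 + n) (by omega)]; exact Nat.beq_refl _, ih (by omega)⟩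
        exact hall 45 le_rfl
    haveI : Fintype (chiC hD hP h).range := Fintype.ofFinite _
    have h3 : ({1, ⟨chiC hD hP h ⟨cg 0, h0m⟩, ⟨_, rfl⟩⟩, ⟨chiC hD hP h ⟨cg 1, h1m⟩, ⟨_, rfl⟩⟩} :
        Finset (chiC hD hP h).range).card = 3 := by
      refine Finset.card_eq_three.2 ⟨_, _, _, ?_, ?_, ?_, rfl⟩
      · exact fun e => hne 0 (by omega) h0m h0 (congrArg Subtype.val e).symm
      · exact fun e => hne 1 (by omega) h1m h1 (congrArg Subtype.val e).symm
      · exact fun e => hdiff (congrArg Subtype.val e)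
    have := Finset.card_le_univ
      ({1, ⟨chiC hD hP h ⟨cg 0, h0m⟩, ⟨_, rfl⟩⟩, ⟨chiC hD hP h ⟨cg 1, h1m⟩, ⟨_, rfl⟩⟩} :
        Finset (chiC hD hP h).range)
    rw [h3, ← Nat.card_eq_fintype_card] at this
    omega
  -- so the kernel is the radical
  obtain ⟨π, eπ⟩ : ∃ π : ↥Cz →* MulAut (Cfsg.PSU 4 F 2),
      π = φ.toMonoidHom.comp (QuotientGroup.mk' (E.subgroupOf Cz)) := ⟨_, rfl⟩
  have hπs : Function.Surjective π := eπ ▸ φ.surjective.comp (QuotientGroup.mk'_surjective _)
  have hπk : π.ker = E.subgroupOf Cz := by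
    rw [eπ, ← MonoidHom.comap_ker, (MonoidHom.ker_eq_bot_iff _).2 φ.injective]
    exact QuotientGroup.ker_mk' _
  have hker : (chiC hD hP h).ker = E.subgroupOf Cz := by
    refine le_antisymm ?_ htriv
    obtain ⟨N, eN⟩ : ∃ N : Subgroup (MulAut (Cfsg.PSU 4 F 2)), N = (chiC hD hP h).ker.map π := ⟨_, rfl⟩
    have hNn : N.Normal := eN ▸ (MonoidHom.normal_ker (chiC hD hP h)).map π hπs
    rcases (Subgroup.Normal.comap hNn (MulAut.conj : Cfsg.PSU 4 F 2 →* _)).eq_bot_or_eq_top with e | e
    · intro x hx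
      rw [← hπk, MonoidHom.mem_ker]
      refine TwoPairOuter.eq_one_of_commute_inn hzp fun s => ?_
      have hxN : π x ∈ N := eN ▸ ⟨x, hx, rfl⟩
      have h1 : MulAut.conj (π x s * s⁻¹) ∈ N := by
        rw [map_mul, map_inv, ← TwoPairOuter.conj_mulAut,
          show π x * MulAut.conj s * (π x)⁻¹ * (MulAut.conj s)⁻¹ =
            π x * (MulAut.conj s * (π x)⁻¹ * (MulAut.conj s)⁻¹) by group]
        exact mul_mem hxN (hNn.conj_mem _ (inv_mem hxN) _)
      have h2 : π x s * s⁻¹ ∈ N.comap (MulAut.conj : Cfsg.PSU 4 F 2 →* _) := h1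
      rw [e, Subgroup.mem_bot, mul_inv_eq_one] at h2
      have h3 := TwoPairOuter.conj_mulAut (π x) s
      rw [h2, mul_inv_eq_iff_eq_mul] at h3
      exact h3
    · exfalso
      have hle : (MulAut.conj : Cfsg.PSU 4 F 2 →* MulAut (Cfsg.PSU 4 F 2)).range ≤ N := by
        rintro _ ⟨s, rfl⟩
        exact (e ▸ Subgroup.mem_top s : s ∈ N.comap MulAut.conj)
      have hIc : Nat.card ↥(MulAut.conj : Cfsg.PSU 4 F 2 →* MulAut (Cfsg.PSU 4 F 2)).range = 25920 := by
        rw [← hpsu]
        exact (Nat.card_congr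
          (MonoidHom.ofInjective (TwoPairOuter.conj_injective_of_center hzp)).toEquiv).symm
      have h1 := Subgroup.index_dvd_of_le hle
      have h2 := Subgroup.card_mul_index (MulAut.conj : Cfsg.PSU 4 F 2 →* MulAut (Cfsg.PSU 4 F 2)).range
      rw [hIc, card_aut_psu_four hF] at h2
      rw [show (MulAut.conj : Cfsg.PSU 4 F 2 →* MulAut (Cfsg.PSU 4 F 2)).range.index = 2 by omega] at h1
      have h3 : N.index ≤ 2 := Nat.le_of_dvd (by omega) h1
      have h4 : N.index = (chiC hD hP h).ker.index := by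
        rw [eN, Subgroup.index_map_eq _ hπs (by rw [hπk]; exact htriv)]
      rw [Subgroup.index_ker] at h4
      exact himg (by omega)
  have hck : Nat.card (chiC hD hP h).ker = 1024 := by rw [hker, hcEc]
  refine ⟨hck, ?_, hcC⟩
  have h1 := Subgroup.card_eq_card_quotient_mul_card_subgroup (chiC hD hP h).ker
  rw [Nat.card_congr (QuotientGroup.quotientKerEquivRange _).toEquiv, hck, hcC] at h1
  omega

/-- The kernel is the listed radical. -/
theorem ker_list {g : Fi22} (hg : g ∈ Cz) (h1 : chiC hD hP h ⟨g, hg⟩ = 1) :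
    ∃ k < 1024, eEl k = g := by
  obtain ⟨hck, -, -⟩ := chiC_structure hD hP h
  let f : Fin 1024 → ↥(chiC hD hP h).ker := fun k =>
    ⟨⟨eEl k, (eEl_spec hD hP h k).1⟩, (eEl_spec hD hP h k).2.1⟩
  have hf : Function.Injective f := fun a b e =>
    eEl_injective hD hP h (congrArg (fun x : ↥(chiC hD hP h).ker => ((x : ↥Cz) : Fi22)) e)
  obtain ⟨k, hk⟩ := ((Nat.bijective_iff_injective_and_card f).2
    ⟨hf, by rw [Nat.card_fin, hck]⟩).2 ⟨⟨g, hg⟩, h1⟩
  exact ⟨k, k.2, congrArg (fun x : ↥(chiC hD hP h).ker => ((x : ↥Cz) : Fi22)) hk⟩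

end CfsgLib.KnownA.FischerOut.T22Invol
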