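import Cfsg.Agent.Lib.InvChar.SporFi23Trans
import Cfsg.Agent.Lib.KnownA.FischerOut.Based

/-!
The action of the presented Fi23 on its 31671 transpositions, and the points of its generators.
-/

set_option autoImplicit false
set_option maxRecDepth 100000
set_option linter.unusedSectionVars false

namespace CfsgLib.KnownA.FischerOut.T23

open CfsgLib.InvChar CfsgLib.InvChar.Coset Cfsg.Spor CfsgLib.KnownA.FischerOut.Based

/-- The points of the generators. -/
def pts : List ℕ := [11589, 8004, 8003, 8000, 8001, 8002, 8005, 8006, 7999, 8007]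

/-- The action. -/
noncomputable def act : Based.Act F23.table Fi23 where
  gen := SporFi23.gen
  gg := SporFi23.gen_mul_self
  closure := SporFi23.closure_gen
  rep := SporFi23.rep
  inj := SporFi23.card_eq.2
  hn := F23.covered.hn
  follow L hL i := by
    rw [← SporFi23.rep_inv_wprod L hL i, map_inv]
  z := SporFi23.t
  trans p := by
    obtain ⟨-, e, he0, he⟩ := SporFi23.index_H
    obtain ⟨g, hg⟩ := QuotientGroup.mk_surjective (e p)
    refine ⟨g, e.injective ?_⟩
    rw [← he, he0, ← hg]
    show ((g * 1 : Fi23) : Fi23 ⧸ SporFi23.H) = g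
    rw [mul_one]
  stab g := by
    obtain ⟨-, e, he0, he⟩ := SporFi23.index_H
    have h1 : g ∈ SporFi23.H ↔ g * SporFi23.t * g⁻¹ = SporFi23.t := by
      rw [← SporFi23.centralizer_t, Subgroup.mem_centralizer_singleton_iff, mul_inv_eq_iff_eq_mul]
    rw [← h1, ← e.injective.eq_iff, ← he, he0]
    show ((g * 1 : Fi23) : Fi23 ⧸ SporFi23.H) = ((1 : Fi23) : Fi23 ⧸ SporFi23.H) ↔ _
    rw [mul_one, QuotientGroup.eq, mul_one, inv_mem_iff]

theorem follow_apply (L : List ℕ) (hL : ∀ x ∈ L, x < 10) (i : Fin F23.table.n) :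
    (act.rep (wprod SporFi23.gen L)⁻¹ i : ℕ) = F23.table.follow L i :=
  SporFi23.rep_inv_wprod L hL i

/-- The point of one generator from that of a neighbour. -/
theorem std_step {a b : ℕ} (ha : a < 10) (hb : b < 10)
    (hbr : ((SporFi23.gen a : Fi23) * SporFi23.gen b) ^ 3 = 1) {p : Fin F23.table.n}
    (hp : act.d p = SporFi23.gen a) {m : ℕ} (hm : F23.table.follow [b, a] p = m) :
    ∃ q : Fin F23.table.n, (q : ℕ) = m ∧ act.d q = SporFi23.gen b := by
  refine ⟨act.rep (wprod SporFi23.gen [b, a])⁻¹ p, ?_, ?_⟩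
  · rw [follow_apply [b, a] (by simp [ha, hb]) p, hm]
  · rw [← act.conj_d, hp]
    have hi : ∀ x, (SporFi23.gen x : Fi23)⁻¹ = SporFi23.gen x := fun x =>
      inv_eq_of_mul_eq_one_right (SporFi23.gen_mul_self x)
    have h := DoubleCoverUtil.braid_conj (SporFi23.gen_mul_self a) (SporFi23.gen_mul_self b) hbr
    simp only [wprod, List.map_cons, List.map_nil, List.prod_cons, List.prod_nil, mul_one, inv_inv,
      mul_inv_rev, hi]
    calc (SporFi23.gen a : Fi23) * SporFi23.gen b * SporFi23.gen a * (SporFi23.gen b * SporFi23.gen a)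
        = SporFi23.gen a * SporFi23.gen b * SporFi23.gen a * SporFi23.gen b * SporFi23.gen a := by
          simp [mul_assoc]
      _ = SporFi23.gen b := by
          rw [h, mul_assoc (SporFi23.gen b * SporFi23.gen a) (SporFi23.gen b) (SporFi23.gen b),
            SporFi23.gen_mul_self, mul_one, mul_assoc, SporFi23.gen_mul_self, mul_one]

theorem braid_of_mem {a b : ℕ} (h : [a, b, a, b, a, b] ∈ F23.rels) :
    ((SporFi23.gen a : Fi23) * SporFi23.gen b) ^ 3 = 1 := by
  have h := SporFi23.pres.gen_rel _ h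
  simpa [wprod, pow_succ, mul_assoc] using h

theorem braid_swap {a b : ℕ} (h : ((SporFi23.gen a : Fi23) * SporFi23.gen b) ^ 3 = 1) :
    ((SporFi23.gen b : Fi23) * SporFi23.gen a) ^ 3 = 1 := by
  rw [show (SporFi23.gen b : Fi23) * SporFi23.gen a = (SporFi23.gen a * SporFi23.gen b)⁻¹ by
    rw [mul_inv_rev, inv_eq_of_mul_eq_one_right (SporFi23.gen_mul_self a),
      inv_eq_of_mul_eq_one_right (SporFi23.gen_mul_self b)], inv_pow, h, inv_one]

theorem hStd : Based.Std act pts := by
  have h1 : ∃ q : Fin F23.table.n, (q : ℕ) = 8004 ∧ act.d q = SporFi23.gen 1 := by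
    refine ⟨act.rep SporFi23.W⁻¹ act.o, ?_, ?_⟩
    · rw [show (act.rep SporFi23.W⁻¹ act.o : ℕ) = F23.table.follow SporFi23.tw 0 from
        follow_apply SporFi23.tw (by decide +kernel) act.o]
      decide +kernel
    · rw [act.d_eq, show act.z = SporFi23.t from rfl, SporFi23.t]
      group
  have step : ∀ {a b m n : ℕ}, a < 10 → b < 10 → [a, b, a, b, a, b] ∈ F23.rels ∨ [b, a, b, a, b, a] ∈ F23.rels →
      (∃ q : Fin F23.table.n, (q : ℕ) = n ∧ act.d q = SporFi23.gen a) →
      F23.table.follow [b, a] n = m → ∃ q : Fin F23.table.n, (q : ℕ) = m ∧ act.d q = SporFi23.gen b := by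
    intro a b m n ha hb hr hp hm
    obtain ⟨q, hq, hd⟩ := hp
    refine std_step ha hb ?_ hd (hq.symm ▸ hm)
    rcases hr with h | h
    · exact braid_of_mem h
    · exact braid_swap (braid_of_mem h)
  have h0 := step (b := 0) (m := 11589) (by norm_num) (by norm_num) (by decide +kernel) h1 (by decide +kernel)
  have h2 := step (b := 2) (m := 8003) (by norm_num) (by norm_num) (by decide +kernel) h1 (by decide +kernel)
  have h3 := step (b := 3) (m := 8000) (by norm_num) (by norm_num) (by decide +kernel) h2 (by decide +kernel)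
  have h4 := step (b := 4) (m := 8001) (by norm_num) (by norm_num) (by decide +kernel) h3 (by decide +kernel)
  have h8 := step (b := 8) (m := 7999) (by norm_num) (by norm_num) (by decide +kernel) h3 (by decide +kernel)
  have h9 := step (b := 9) (m := 8007) (by norm_num) (by norm_num) (by decide +kernel) h8 (by decide +kernel)
  have h5 := step (b := 5) (m := 8002) (by norm_num) (by norm_num) (by decide +kernel) h4 (by decide +kernel)
  have h6 := step (b := 6) (m := 8005) (by norm_num) (by norm_num) (by decide +kernel) h5 (by decide +kernel)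
  have h7 := step (b := 7) (m := 8006) (by norm_num) (by norm_num) (by decide +kernel) h6 (by decide +kernel)
  intro i hi
  have hi : i < 10 := hi
  interval_cases i
  exacts [h0, h1, h2, h3, h4, h5, h6, h7, h8, h9]

theorem center_Fi23 : Subgroup.center Fi23 = ⊥ := by
  haveI := SporFi23.finite
  haveI := SporFi23.isSimpleGroup
  refine (Subgroup.Normal.eq_bot_or_eq_top inferInstance).resolve_right fun h => ?_
  have hc : (SporFi23.gen 0 : Fi23) * SporFi23.gen 1 = SporFi23.gen 1 * SporFi23.gen 0 :=
    ((Subgroup.mem_center_iff.1 (h ▸ Subgroup.mem_top (SporFi23.gen 0 : Fi23))) (SporFi23.gen 1)).symm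
  have h3 := SporFi23.rel01
  rw [pow_succ, pow_two] at h3
  rw [show (SporFi23.gen 0 : Fi23) * SporFi23.gen 1 * (SporFi23.gen 0 * SporFi23.gen 1) = 1 by
    nth_rewrite 2 [hc]
    rw [mul_assoc, ← mul_assoc (SporFi23.gen 1) (SporFi23.gen 1), SporFi23.gen_mul_self, one_mul,
      SporFi23.gen_mul_self], one_mul] at h3
  exact SporFi23.gen_ne 1 0 (by norm_num) (by norm_num) ⟨6, by decide +kernel⟩ (by decide +kernel)
    ((inv_eq_of_mul_eq_one_right h3).symm.trans (SporFi23.inv_gen 0))

/-- An element fixing the points of all generators is trivial. -/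
theorem eq_one_of_fix {g : Fi23} (h : ∀ i < 10, ∀ p : Fin F23.table.n, (p : ℕ) = pts.getD i 0 → act.rep g p = p) :
    g = 1 := by
  rw [← Subgroup.mem_bot, ← center_Fi23, Subgroup.mem_center_iff]
  intro u
  induction (SporFi23.closure_gen ▸ Subgroup.mem_top u : u ∈ Subgroup.closure (SporFi23.gen '' Set.Iio 10))
    using Subgroup.closure_induction with
  | mem a ha =>
    obtain ⟨i, hi, rfl⟩ := ha
    obtain ⟨p, hp, hd⟩ := hStd i hi
    have := act.conj_d g p
    rw [h i hi p hp, hd] at this
    exact (mul_inv_eq_iff_eq_mul.1 this).symm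
  | one => simp
  | mul a b _ _ ha hb => rw [mul_assoc, hb, ← mul_assoc, ha, mul_assoc]
  | inv a _ ha => rw [inv_mul_eq_iff_eq_mul, ← mul_assoc, ha, mul_inv_cancel_right]

end CfsgLib.KnownA.FischerOut.T23
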