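import Cfsg.Agent.Lib.KnownA.FischerOut.Based
import Cfsg.Agent.Lib.InvChar.SporData.F23.Data

/-! Search tree data for the diagram tuples of Fi23 (part 2). -/

set_option autoImplicit false
set_option maxRecDepth 100000

namespace CfsgLib.KnownA.FischerOut.T23

open CfsgLib.InvChar.Coset CfsgLib.KnownA.FischerOut.Based

/-- pts -/
noncomputable def r000_pts : Tr := (.node (.node (.leaf 0xd1d014b4014ea01f7b0109100a19009df011be01993011af0198b003fb00d2a00d25014ee00200000f10150c0057e0057c005860057f005810110400a1400a1c002d3000070015d002d800160000a500d0600d1a00d030056f00d0000571002d20015c014b9009e1005700057200573009f9010930077d009f2009f4010ba010b7019e200cfd014ac00cfb014a70164701639002d7010ce0015f00754007780077a0077f003f200d49003f4001fa000ef001fe000f00109600763003f1003f3001f900cfe00764007650076800d1500d17014e50108e0108c0198e001fd009db0093c00a110056e002cf002d10015b0015e00c6c009ee0056d002ce002d0009ef009f0010b4014a900cf800c5f00762003f0001f7001f80102f00761003ef00d1301089010230056c002cd014890056b014a601488003ee0197b0197a01f40)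 (.leaf 0x59000407007990061200a4400b4a008550085800d9200859008520045f0016700a4b00a340059800b4c00b4d00b4b0061500614006100060f0031b0077700d1200209007a500796004110057a00166)) (.node (.leaf 0xa080031e0031d00180004060040c0017f002040020700d730079e00d610078f00856008540085300461004600045d0022c002e3000f500a0f009ed0056a00a04010a7010ca00105003ed002e6003f9007720058e0022e0059f00a28019970076000203000f400d3500d2e00d3b014fb005930022d002e1002df00589002db002dd0110b0111d00a2d00a2100613006110031c0031a0040900163000a700d0b0075d00d220076f002d4014c0014c7014f50165d00568000b2002d5005750057700787010c3019e9014b100d550165e00dcd009ff002da00162000a6010d5010db019ef003fc0078a004010040000403003fe0155c00d4e00d5a007820000a0045e001fc00201000f200073009e5009fc0109b009e8009f7009e3003f500005001fb010a0010bf019a30075a0199c0075b003f6003f70076a0076c0058400767) (.leaf 0x0)))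
/-- par -/
noncomputable def r000_par : Tr := (.node (.node (.leaf 0x4d0004c0004b0004b00049000480004800046000460004500045000440004300043000430004200042000410003f0003f0003e0003e0003d0003c0003b0003a0003a0003900039000380003700037000360003500034000340003300033000320003200030000300002f0002e0002e0002e0002d0002c0002c0002c0002c0002b0002b0002a0002a000290002900028000280002700026000250002500024000230002200022000210002100020000200001f0001e0001c0001c0001b0001a0001a0001900018000180001800017000170001700016000160001500014000140001400012000120001100010000100000f0000f0000e0000d0000d0000d0000c0000c0000c0000b0000a0000a0000900008000080000800007000060000600005000040000400003000030000200001000010000100000000000000000000) (.leaf 0x11d0011c0011b0011800116001150010d0010d0010c0010b0010900108000f7000f5000f3000f3000f1000f0000f0000ee000ee000ed000ed000ec000e5000e5000df000dc000db000da000d8000d7)) (.node (.leaf 0xd4000d3000d1000cf000ce000ce000cc000cc000cc000c9000c9000c8000c8000c6000c6000c6000c5000c5000c4000c4000c2000c100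0c0000c0000bf000bd000ba000b9000b6000b5000b3000b3000b3000b2000b1000af000ae000ad000a9000a9000a8000a6000a6000a6000a5000a3000a2000a2000a0000a00009f0009f0009d0009c0009c0009b00099000990009900098000960009600095000910009100090000900008c000890008900088000850008500084000840008200082000810007f0007c0007b00079000770007600072000700006f0006f0006e0006e0006e0006c0006b0006a000690006900069000680006700066000650006400063000630006100060000600005f0005e0005d0005d0005c00059000590005800058000570005600055000550005400054000530005300052000520004e0004e) (.leaf 0x0)))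
/-- via -/
noncomputable def r000_via : Tr := (.node (.node (.leaf 0x400000000050000400004000060000400004000020000300002000000000500003000010000500003000060000500001000030000100006000030000600006000000000600005000000000500003000010000600006000000000600000000050000300006000000000500005000040000100000000060000500004000020000500003000040000200003000020000300001000050000600006000050000100006000060000000006000000000500003000050000600006000000000500005000040000000005000040000200005000030000200003000010000600006000050000400006000000000500005000040000600004000000000500004000020000500003000010000600005000030000000005000040000200003000050000300006000050000200005000030000200006000050000100006000010000000000) (.leaf 0x200006000030000500006000030000500003000060000500004000040000500004000040000100005000050000400005000040000400002000030000600002000060000500002000060000600000)) (.node (.leaf 0x4000060000500006000050000100006000050000200004000010000400002000050000400002000050000300003000010000600000000060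00020000300003000030000300001000000000600005000020000200006000060000300003000060000000005000050000400002000030000100006000020000500002000050000300004000040000200003000050000300001000060000600000000050000300002000030000100000000030000100006000060000000006000050000500003000030000300005000030000600004000040000400000000050000200005000030000100005000020000300005000030000100004000030000300006000050000600000000000000500002000020000100003000010000600006000000000600005000010000600006000000000600000000050000300005000040000600005) (.leaf 0x0)))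
/-- pos -/
noncomputable def r000_pos : Tr := (.node (.node (.node (.node (.node (.node (.node (.node (.leaf 0x9500000000000000000000000000000000000000000000000000000000000000000000000000000000000000000000000000000000000000000000000000000000000000000000000000000000000000000000000000000000000000000000000000000000000000000000000000000000000000000000000000000000000000000000000000000000000000000000000000000000000000000000000000000000000000000000000000000000000000000000000000000000000000000000000000000000000000000000000000000000000000000000000000000000000000000000000000000000000000000000000000000000000000000000000000000000000000000009a000000000000064000000008d0000000000000000000000000) (.leaf 0x0)) (.node (.leaf 0x0) (.leaf 0x0))) (.node (.node (.leaf 0xf00000000000000000000000000000000000000000000000000000000000a0000000000000000000000000000000000000000000000000000000000000000000000000000000000000000000000000000000000000000000000000000000000000000000000000000000000000000000000000000000) (.leaf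 0x0)) (.node (.leaf 0x0) (.leaf 0x0)))) (.node (.node (.node (.leaf 0x1160011800000000f200119000f1000f00011500000000000000000000000000000000000000000000000000000000000000000000000000000000000000000000000000000000000000000000000000000000000000000000000000000000000000000000000000000000000000000000000000000000000000000000000000000000000000000000000000000000000000000000000000000000000000000000000000000000000000000000000000000000000000000000000000000000000000000000000000000000000000000000000000000000000000000000000000) (.leaf 0x0)) (.node (.leaf 0x0) (.leaf 0x0))) (.node (.node (.leaf 0x0) (.leaf 0x0)) (.node (.leaf 0x0) (.leaf 0x0))))) (.node (.node (.node (.node (.leaf 0xef000ee0011400099000ed0000000000000000000000000000000000000000000000000000000000000000000000000000000000000000000000000000000000000000000000000000000000000000000000000000000000000000000000000000000000000000000000000000000000000000000000000000000000000000000000000000000000000000000000000000000000000000000000000000000000000000000000000000000000000000000000000000000000000000000000000000000000000000010200000000000000000000000fa0000000000000c3000000011e000fb0000000000000a000000000a2000a1)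 (.leaf 0x0)) (.node (.leaf 0x0) (.leaf 0x0))) (.node (.node (.leaf 0x0) (.leaf 0x0)) (.node (.leaf 0x0) (.leaf 0x0)))) (.node (.node (.node (.leaf 0x1e000000000000000000000000000000000000000000000000000000000000000140000000000000000000000000000000000000000000000000000000000000000000000000000000000000000000000000000000000000000000000000000000000000000000000000000000000000000000000000000000000000000000000000000000000000000000000000000000000000000000000000000000000000000000000000000000000000000000000000000000000000000000000000000000000000000000000000000000000000000000000000000000000000000000000000000000000000000000000000000000000000000000000000000000000000000000000000000000000000000000) (.leaf 0x0)) (.node (.leaf 0x0) (.leaf 0x0))) (.node (.node (.leaf 0x0) (.leaf 0x0)) (.node (.leaf 0x0) (.leaf 0x0)))))) (.node (.node (.node (.node (.node (.leaf 0xdd000d1000ec000000000000000000000000000000000000000000000000000000000000000000000000000000000000000000000000000000000000000000000000000000000000000000000000000000000000000000000000000010500000000f70000000000000f8000d8000000009700070)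 (.leaf 0x0)) (.node (.leaf 0x0) (.leaf 0x0))) (.node (.node (.leaf 0x0) (.leaf 0x0)) (.node (.leaf 0x0) (.leaf 0x0)))) (.node (.node (.node (.leaf 0x1120000000000000000000000000000000011b00000000000000000000000000000000000000000000000000000000000000000000000000000111000000000000000000000000000000000c900000000000000000000000db000000000000000000000000000000000c8000000000000000000000006600000000000007a000000000000000000000006700000000000002400000000e9000000000000000000000000000000000ff000000000000000000e600000000000000000000) (.leaf 0x0)) (.node (.leaf 0x0) (.leaf 0x0))) (.node (.node (.leaf 0x0) (.leaf 0x0)) (.node (.leaf 0x0) (.leaf 0x0))))) (.node (.node (.node (.node (.leaf 0x10c0010b000c70011c000c60010a00109000000000000000000000000000000000000000000000000000000000000000000000000000) (.leaf 0x0)) (.node (.leaf 0x0) (.leaf 0x0))) (.node (.node (.leaf 0xad000b8000000000000000000000000000000000000000000000000000000000000000000000000000000000000000000000000000000000000460000000000000000000000000000000000000000000000000000000000000000000045000000000000000000000000000000000000000000000000000000000000000000000000000000000000000000000000000000000000000000000000000000000000000000000000000000000000000000000000000000000000000000000000000000000000000000000000000000000000000000000000000000000000000000000000000000000000000000000)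 (.leaf 0x0)) (.node (.leaf 0x0) (.leaf 0x0)))) (.node (.node (.node (.leaf 0x0) (.leaf 0x0)) (.node (.leaf 0x0) (.leaf 0x0))) (.node (.node (.leaf 0x0) (.leaf 0x0)) (.node (.leaf 0x0) (.leaf 0x0))))))) (.node (.node (.node (.node (.node (.node (.leaf 0xf9000000000000000000000000000000000000000000000000000000000000000000000000000000000000000000000000000000000000000000000113001000000000000000c2000a90000000061000420001f00063000580002000000000000000000000000000000000000000000000000000000000000000000000000000000000000000000000000000000000000000000000000000000000000000000000000000000000000000000000000000000000000000000000000000000000000000000000000000000000000000000000000000000000000000000000000000000000000000000000000000000000000000000000000000000000000000000000000000000000000000000000000000000000000000000000000000000000000000000000000000000000000000000000e30000000000000000000000000) (.leaf 0x0)) (.node (.leaf 0x0) (.leaf 0x0))) (.node (.node (.leaf 0xca0000000000000000000000000000000000000000000000000000000000000000000000000000000000000000cb0000000000000000000000000000000006800000000000000000000)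 (.leaf 0x0)) (.node (.leaf 0x0) (.leaf 0x0)))) (.node (.node (.node (.leaf 0x25000000000000000000000000000000000000000000000000000000000000000000000000000000000000000000000000000000000000000000000000000000000000000000000000000000000000000000000000000000000000000000000000000000000000000000000000000000000000000000000000000000000000000000000000000000000000000000000000000000000000) (.leaf 0x0)) (.node (.leaf 0x0) (.leaf 0x0))) (.node (.node (.leaf 0x2000010000000000000000000000000000000000000000000000000000000000000000000000000000000000000000000000000000000000000000000000000000000000000000000000000000000000000000000000000000000000000000000000000000000000000000000000000000000000000000000000000000000000000000000000000000000000000000000000000000000000000000000000000000000000000000000000000000000000000000000000000000000000000000000000000000000000000000000000000000000000000000000000000000000000000000000000000000000000000000000000000000000000000000000000000000000000000000000000000000000000000000000000000000000000000000000000000000000000000000000000000000000000)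 (.leaf 0x0)) (.node (.leaf 0x0) (.leaf 0x0))))) (.node (.node (.node (.node (.leaf 0x6a0006d000000006c00000001010000000000000b300000000b40000000053000540005a000550005c000230001c0000900006000e700000000b70000000000000000000000000000000000000000000000000000000000000000000000000000000000000000000000000000000000000000000000000000000000000000000000000000000000000000000000000000000000000000000000000000000000000000000000000000000000000000000000000000000000000000000000000000000000000000000000000000000000000000000000000000000000000000000000000000000000000000000000000000000000000000000000000000000000000000000000000000000000000000000000000000000000000000000000000000000000000000000000000000000000000000000000000000000000000000) (.leaf 0x0)) (.node (.leaf 0x0) (.leaf 0x0))) (.node (.node (.leaf 0x9e000000000000000000000000000000000000000000000000000000000000000000000000000000000000000000000000000000000000000000000000000000000000000000000000000000000000000000000000000000000000000000000000000000000000000000000000000000000000000000000000000000000000000000000000000000000000000000000000000000000000000000000000000000000000000000000000000000000000000000000000000000000000000000000000000000000000006e000000000000000000000000000000000000000000000000000000000000)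 (.leaf 0x0)) (.node (.leaf 0x0) (.leaf 0x0)))) (.node (.node (.node (.leaf 0xf60000000000000000000000000000000000000000000000000000000000000000000000000000000000000000f40000000000000000000000000000000009c00000000000000000000000ae0000000000000000000000000000000009d000000000000000000000003c00000000000000000000000000000000000000000000000000000000000000000000d40000000000000000000000000000d6000000000000000000000000000000000d50000000000000000007300000000000000000000000720000000000000be000000000000000000000007f00000000000005e00000000000002c000000002d000000000c00106000000000000000000000000000000000c0000000000000000000000005f00000000000005d00000000000005b) (.leaf 0x0)) (.node (.leaf 0x0) (.leaf 0x0))) (.node (.node (.leaf 0x0) (.leaf 0x0)) (.node (.leaf 0x0) (.leaf 0x0)))))) (.node (.node (.node (.node (.node (.leaf 0xfe000fd000c500108000c40000000000000000000000000000000000000000000000000000000000000000000000000000000000000000000000000000000000000000000000000000000000) (.leaf 0x0)) (.node (.leaf 0x0)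 (.leaf 0x0))) (.node (.node (.leaf 0x0) (.leaf 0x0)) (.node (.leaf 0x0) (.leaf 0x0)))) (.node (.node (.node (.leaf 0x10e0010f0010d0011a0000000000000000000000000000000000000000000000000000000000000000000000000000000000000000000000000000000000000000000000000000000000000000000000000000000000000000000000000000000000000000000000000000000000000000000000000000000000000000000000000000000000000000000000000000000000000000000000000000000000000000000000000000000000000000000000000000000000000000000000000000000000) (.leaf 0x0)) (.node (.leaf 0x0) (.leaf 0x0))) (.node (.node (.leaf 0x0) (.leaf 0x0)) (.node (.leaf 0x0) (.leaf 0x0))))) (.node (.node (.node (.node (.leaf 0x3e000000005000000000000003f00000000400010700000000000000000000000df0000000000000bd0000000000000820000000083000000002e00080000000002f0003000035000130000e000d90000000000000bf000000008600088000000000000000000000000000041000000000000000000000000000000000000000000000000000000000000000000000000000000000000000000000000000000000000000000000000000000000000000000000000000000000000000000000000000000000000000000000000000000000000000000000000000000000000000000000000000000000000000000000000000000000000000000000000000000000000000000000000000000000000000000000000000000000000000000000000000000000000000000000000000000000000000000000000000000000000)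 (.leaf 0x0)) (.node (.leaf 0x0) (.leaf 0x0))) (.node (.node (.leaf 0x0) (.leaf 0x0)) (.node (.leaf 0x0) (.leaf 0x0)))) (.node (.node (.node (.leaf 0x0) (.leaf 0x0)) (.node (.leaf 0x0) (.leaf 0x0))) (.node (.node (.leaf 0x7c000000000000000000000000000000000000000000000000000000000000000000000000000000000000000000000000000000000000000000000000000000000000000000000000000000000000000000000000000000000000000000000000000000000000000000000000000000000000000000000000000000000000000000000000000000000000000000000000000000000000000000000000000000000000000000000000000000000000000000000000000000000000000000000000000000000000000000000000000000000000000000000000000000000000000000000000000000000000000000000000000000000000000000000000000000000000000000000000000000000000000000000000000000000000000000000000000000000000000000000000000000000000000) (.leaf 0x0)) (.node (.leaf 0x0) (.leaf 0x0)))))))) (.node (.node (.node (.node (.node (.node (.node (.leaf 0xea000d700000000960006f00037000390000000000000000000000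00000000000000000000000000000000000000000000000000000000000000000000000000000000000000000000000000000000000000000000000000000000000000000000000000000000000000000000000000000000000000000000000000000000000000000000000000000000000000000000000000000000000000000000000000000000000000000b600000000000000000000000000000000000000000000000000000c1000a80006000000000000000000000000000000000000000000000000000000000000000000000000000000000000000000000000000000000000000000000000000000000000000000000000000000000000000000000000000000000000000000) (.leaf 0x0)) (.node (.leaf 0x0) (.leaf 0x0))) (.node (.node (.leaf 0xa60000000000000000000000000000a700000000000000000000000000000000043000000000000000000e4000000000000000000000000000000000b10000000000000000008a000000000000000000000004d00000000000004c000000000000017000000000000000000000000000000000000000000000000000000000000000e50000000000000000000000000000000008b00000000000000000000000920000000000000000000000036000000000000051000000007b00000000000002a000000002900000000000000b000000000000000000000000000000000000000000000)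 (.leaf 0x0)) (.node (.leaf 0x0) (.leaf 0x0)))) (.node (.node (.node (.leaf 0x0) (.leaf 0x0)) (.node (.leaf 0x0) (.leaf 0x0))) (.node (.node (.leaf 0x0) (.leaf 0x0)) (.node (.leaf 0x0) (.leaf 0x0))))) (.node (.node (.node (.node (.leaf 0x0) (.leaf 0x0)) (.node (.leaf 0x0) (.leaf 0x0))) (.node (.node (.leaf 0xd30000000000000000000000000000b9000000000000000000000000000000000710000000000000000007d000000000000000000000002b0000000000000000000000000000000000000000000000000000000000000000000000000000000000000000000000000000000000000000000000000000000000000000000000000000ba000000000000000000000000000000000bb00000000000000000000000000000000057000000000000000000000007e0000000000000af00000000000000000000000490000000000000160000000047000050000000000000000000000000000000000000000000000000000000000000000000000000000000000000000000000000000000000000000000000000000000000000000000000007000040000000000000000000000000000000000000000) (.leaf 0x0)) (.node (.leaf 0x0) (.leaf 0x0)))) (.node (.node (.node (.leaf 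0x310004a0000000048000000000000015000000000000000000000000000000000000000000000000000000000000000000000000000000000000000000000000000000000000000000000000000000000000000000000000000000000000000000000000000000000000000000000000000000000000000000000000000000000000000000000000000000000000000000000000000000000000000000000000000000000000000000000000000000000000000000000000000000000000000000000000000000000000000000000000000000000000000000000000000000000000000000000000000000000000000000000000000000000000000000000000000000000000000000000000000000000000000000000000000000000000000000000000000000000000000000000000000000000000000000000000) (.leaf 0x0)) (.node (.leaf 0x0) (.leaf 0x0))) (.node (.node (.leaf 0x0) (.leaf 0x0)) (.node (.leaf 0x0) (.leaf 0x0)))))) (.node (.node (.node (.node (.node (.leaf 0xe10000000000000eb00000000d000000000cf00000000cc00000000cd000aa00000000620004400000000b5000bc0006500059000210001a000220001b000080000000000000000000000000000000000000000000000000000000000000000000000000000000000000000000000000000000000000000000000000000000000000000000000000000000000000000000000000000000000000000000000000000000000000000000000000000000000000000000000000000000000000000000000000000000000000000000000000000000000000000000000000000000000000000000000000000000000000000000000000000000000000000000000000)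 (.leaf 0x0)) (.node (.leaf 0x0) (.leaf 0x0))) (.node (.node (.leaf 0x0) (.leaf 0x0)) (.node (.leaf 0x0) (.leaf 0x0)))) (.node (.node (.node (.leaf 0x0) (.leaf 0x0)) (.node (.leaf 0x0) (.leaf 0x0))) (.node (.node (.leaf 0x0) (.leaf 0x0)) (.node (.leaf 0x0) (.leaf 0x0))))) (.node (.node (.node (.node (.leaf 0x0) (.leaf 0x0)) (.node (.leaf 0x0) (.leaf 0x0))) (.node (.node (.leaf 0x0) (.leaf 0x0)) (.node (.leaf 0x0) (.leaf 0x0)))) (.node (.node (.node (.leaf 0x0) (.leaf 0x0)) (.node (.leaf 0x0) (.leaf 0x0))) (.node (.node (.leaf 0x0) (.leaf 0x0)) (.node (.leaf 0x0) (.leaf 0x0))))))) (.node (.node (.node (.node (.node (.node (.leaf 0x3800027000980008c0003a00032000100001100000000000000000000000000000000000000000000000000000000000000000000000000000000000000000000000000000000000000000000000000000000000000000000000000000000000000000000000000000000000000000000000000000000000000000000000000000000000000000000000000000000000000000000000000000000000000000000000000000000000000000000000000000000000000000000000000000000000000000000000000000000000000000000000000000000000000000000000000000000000000000000000000000000000000000000000000000000000000000000000000000000000000000000000000000000000000000000000000000000000000000000000000000000000000000000000000000000000000000fc)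 (.leaf 0x0)) (.node (.leaf 0x0) (.leaf 0x0))) (.node (.node (.leaf 0x780000000000000000000000000000000000000000000000000000000000000000000000000760000000000000000000000000000000000000000000000000000000000000000000000000000000000000000000000000000000000000000000000000000000000000000000000000000000000000000000000000000000000000000000000000000000000000000000000000000000000000000000) (.leaf 0x0)) (.node (.leaf 0x0) (.leaf 0x0)))) (.node (.node (.node (.leaf 0xab000000000000093000000000000052000000009000000000000004e000000004f0000000018000190001d000e80000000000000000000000091000000000000094000000008f000000005600000000790000000000000000002600000000000000000000000000000000000000000000000000000000000000000000000000000000000000000000000000000000000000000000000000000000000000000000000000000000000000000000000000000000000000000000000000000000000000000000000000000000000000000000000000000000000000000000000000000000000000000000000000000000000000000000000000000000000000000000000000000000000000000000000000000000000000000000000000000000000000000000000000000000000000000000000000000000000000000000000)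 (.leaf 0x0)) (.node (.leaf 0x0) (.leaf 0x0))) (.node (.node (.leaf 0xa50000000000000000000000000000b00000000000000000000000000000000004b0000000000000000000000000000000000000000000000000000000000000000000000000000000000000000000000000000000000000000000000000000000000000000000000000000000000000000000000000000000000000000000000000000000000000000000000000000000000000000000000000000000000000000000000000000000000000000000000000000000000000000000000000890000000000000000000000000000000008700000000000000000000000da0000000000000000007700000000000000000000000280000000000000750000000000000000000000000000000000000000000000000000000) (.leaf 0x0)) (.node (.leaf 0x0) (.leaf 0x0))))) (.node (.node (.node (.node (.leaf 0xdc0000000000000000000000000000000011000000000000000000000000d200000000000011f00000000de00000000000000000000000ce00000000000006b000000008100000000000006900000) (.leaf 0x0)) (.node (.leaf 0x0) (.leaf 0x0))) (.node (.node (.leaf 0x0) (.leaf 0x0)) (.node (.leaf 0x0) (.leaf 0x0)))) (.node (.node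 (.node (.leaf 0xac0000000000000000000000000000000000000000000000000000000000000000000000000000000000000000000000000000000000000000000000000000000000000000000000000000000000000000000000000000000000000000000000000000000000000000000000000000000000000000000000000000000000000000000000000000000000000000000000000000117000000000000000000000000000000000000000000000000000000000000000000000000000000000000000000) (.leaf 0x0)) (.node (.leaf 0x0) (.leaf 0x0))) (.node (.node (.leaf 0x0) (.leaf 0x0)) (.node (.leaf 0x0) (.leaf 0x0)))))) (.node (.node (.node (.node (.node (.leaf 0x9f00000000a40007400000000e00000000084000850008e0003b000330003d00034000120000d00003000e200000000000000000000000000000000000000000000000000000000000000000000000000000000000000000000000000000000000000000000000000000000000000000000000000000000000000000000000000000000000000000000000000000000000000000000000000000000000000000000000000000000000000000000000000000000000000000000000000000000000000000000000000000000000000000000000000000000000000000000000000000000000000000000000000000000000000000000000000000000000000000000000000000000000000000000000000000000000000000000000000000000000000000000000000000000000000000000000000000000000000000)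 (.leaf 0x0)) (.node (.leaf 0x0) (.leaf 0x0))) (.node (.node (.leaf 0x0) (.leaf 0x0)) (.node (.leaf 0x0) (.leaf 0x0)))) (.node (.node (.node (.leaf 0x0) (.leaf 0x0)) (.node (.leaf 0x0) (.leaf 0x0))) (.node (.node (.leaf 0x0) (.leaf 0x0)) (.node (.leaf 0x0) (.leaf 0x0))))) (.node (.node (.node (.node (.leaf 0x104000000000000000000000000000000000f5000000000000000000000011d000000000000103000000000000000000000000000000000f300000000000000000000000a30000000000000b2000000000000000000000009b0000000000) (.leaf 0x0)) (.node (.leaf 0x0) (.leaf 0x0))) (.node (.node (.leaf 0x0) (.leaf 0x0)) (.node (.leaf 0x0) (.leaf 0x0)))) (.node (.node (.node (.leaf 0x0) (.leaf 0x0)) (.node (.leaf 0x0) (.leaf 0x0))) (.node (.node (.leaf 0x0) (.leaf 0x0)) (.node (.leaf 0x0) (.leaf 0x0)))))))))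
/-- prefix -/
def r000_pre : List (ℕ × Spec) := [(0, (0, [])), (1, (1, [])), (2, (2, []))]
/-- node -/
noncomputable def r000 : Based.Node := ⟨3, [(3, [])], [[8], [4], [5], [6], [7], [9], [3, 8, 2, 3, 4, 1, 2, 3, 8, 5, 4, 3, 2, 1, 0, 1, 2, 3, 4, 5, 8, 3, 2, 1, 4, 3, 2, 8, 3]], 288, r000_pts, r000_par, r000_via, r000_pos⟩

/-- pts -/
noncomputable def r0000_pts : Tr := (.leaf 0x9e000206002dc00759001f600567003fd00566003fa002cb0015a003ec0057b003ea002d9003eb002d6001f500757002cc00565002c90000400202001ff002ca01036009de0108b0016500758003e90016101491002e000cfa000f3005640197c0198901f4101f3f)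
/-- par -/
noncomputable def r0000_par : Tr := (.leaf 0x250002500023000200001f0001c0001c0001a00019000180001800015000150001400011000100000f0000f0000e0000b0000a0000a0000900009000080000800008000060000600005000040000400003000030000200002000010000100001000000000000000)
/-- via -/
noncomputable def r0000_via : Tr := (.leaf 0x50000400001000050000300005000040000500003000030000100005000040000300003000030000500004000020000500003000020000400003000050000400002000010000000003000030000100005000010000500004000050000400000000030000000000)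
/-- pos -/
noncomputable def r0000_pos : Tr := (.node (.node (.node (.node (.node (.node (.node (.node (.leaf 0x1300000000000000000000) (.leaf 0x0)) (.node (.leaf 0x0) (.leaf 0x0))) (.node (.node (.leaf 0xf000000000000000000000000000000000000000000000000000000000000000000000000000000000000000000000000000000000000000000000000000000000000000000000000000000000000000000000000000000000000000000000000000000000000000000000000000000000000000000000000000000000000000000000000000000) (.leaf 0x0)) (.node (.leaf 0x0) (.leaf 0x0)))) (.node (.node (.node (.leaf 0x0) (.leaf 0x0)) (.node (.leaf 0x0) (.leaf 0x0))) (.node (.node (.leaf 0x0) (.leaf 0x0)) (.node (.leaf 0x0) (.leaf 0x0))))) (.node (.node (.node (.node (.leaf 0x0) (.leaf 0x0)) (.node (.leaf 0x0) (.leaf 0x0))) (.node (.node (.leaf 0x0) (.leaf 0x0)) (.node (.leaf 0x0) (.leaf 0x0)))) (.node (.node (.node (.leaf 0x0) (.leaf 0x0)) (.node (.leaf 0x0) (.leaf 0x0))) (.node (.node (.leaf 0x0) (.leaf 0x0)) (.node (.leaf 0x0) (.leaf 0x0)))))) (.node (.node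 (.node (.node (.node (.leaf 0x28000000000000000000120000000000) (.leaf 0x0)) (.node (.leaf 0x0) (.leaf 0x0))) (.node (.node (.leaf 0x0) (.leaf 0x0)) (.node (.leaf 0x0) (.leaf 0x0)))) (.node (.node (.node (.leaf 0x0) (.leaf 0x0)) (.node (.leaf 0x0) (.leaf 0x0))) (.node (.node (.leaf 0x0) (.leaf 0x0)) (.node (.leaf 0x0) (.leaf 0x0))))) (.node (.node (.node (.node (.leaf 0x0) (.leaf 0x0)) (.node (.leaf 0x0) (.leaf 0x0))) (.node (.node (.leaf 0x0) (.leaf 0x0)) (.node (.leaf 0x0) (.leaf 0x0)))) (.node (.node (.node (.leaf 0x0) (.leaf 0x0)) (.node (.leaf 0x0) (.leaf 0x0))) (.node (.node (.leaf 0x0) (.leaf 0x0)) (.node (.leaf 0x0) (.leaf 0x0))))))) (.node (.node (.node (.node (.node (.node (.leaf 0xc000000000000000000090000000000000000000000000000000001f000000000000000000000000000000000000000000000000000000000000000000000000000000000000000000000000000000000000000000000000000000000000000000000000000000000000000000000000000000000000000000000000000000000000000000000000000000000000000000000000000000000000000000000000000000000000000000000000000000000000000000000000000000000000000000000000000000000000000000000000000000000000000000000000000000000000000000000000000000000000000000000000000000000000000000)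 (.leaf 0x0)) (.node (.leaf 0x0) (.leaf 0x0))) (.node (.node (.leaf 0x0) (.leaf 0x0)) (.node (.leaf 0x0) (.leaf 0x0)))) (.node (.node (.node (.leaf 0x0) (.leaf 0x0)) (.node (.leaf 0x0) (.leaf 0x0))) (.node (.node (.leaf 0x300000000000000000000000000000000000000000000000000000000000000000000000000000000000000000000000000000000000000000000000000000000000000000000000000000000000000000000000000000000000000000000000000000000000000000000000000000000000000000000000000000000000000000000000000000000000000000000000000000000000000000000000000000000000000000000000000000000000000000000000000000000000000000000000000000000000000000000000000000000000000000000000000000000000000000000000000000000000000000000000000000000000000000000000000000000000000000000000000000000000000000000000000000000000000000000000000000000000000000000000000000000000000000000) (.leaf 0x0)) (.node (.leaf 0x0) (.leaf 0x0))))) (.node (.node (.node (.node (.leaf 0x1d000000000000000000000000000000000000000000000000000000000000000000000000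000000000000000000000000002400022000150000400000000000000000000000000000000000000000000000000000000000000000000000000000000000000000000000000000000000000000000000000000000000000000000000000000000000000000000000000000000000000000000000000000000000000000000000000000000000000000000000000000000000000000000000000000000000000000000000000000000000000000000000000000000000000000000000000000000000000000000000000000000000000000000000000000000000000000000000000000000000000000000000000000000000000000000000000000000000000000000000000000000000000000000) (.leaf 0x0)) (.node (.leaf 0x0) (.leaf 0x0))) (.node (.node (.leaf 0x0) (.leaf 0x0)) (.node (.leaf 0x0) (.leaf 0x0)))) (.node (.node (.node (.leaf 0x0) (.leaf 0x0)) (.node (.leaf 0x0) (.leaf 0x0))) (.node (.node (.leaf 0x0) (.leaf 0x0)) (.node (.leaf 0x0) (.leaf 0x0)))))) (.node (.node (.node (.node (.node (.leaf 0x0) (.leaf 0x0)) (.node (.leaf 0x0) (.leaf 0x0))) (.node (.node (.leaf 0x0) (.leaf 0x0)) (.node (.leaf 0x0) (.leaf 0x0)))) (.node (.node (.node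 (.leaf 0x0) (.leaf 0x0)) (.node (.leaf 0x0) (.leaf 0x0))) (.node (.node (.leaf 0x0) (.leaf 0x0)) (.node (.leaf 0x0) (.leaf 0x0))))) (.node (.node (.node (.node (.leaf 0x260000b00017000000000000000000000000000000000000000000000000000000000000000000000000000000000000000000000000000000000000000000000000000000000000000000000000000000000000000000000000000000000000000000000000000000000000000000000000000000000000000000000000000000000000000000000000000000000000000000000000000000000000000000000000000000000000000000000000000000000000000000000000000000000000000000000000000000000000000000000000000000000000000000000000000) (.leaf 0x0)) (.node (.leaf 0x0) (.leaf 0x0))) (.node (.node (.leaf 0x0) (.leaf 0x0)) (.node (.leaf 0x0) (.leaf 0x0)))) (.node (.node (.node (.leaf 0x0) (.leaf 0x0)) (.node (.leaf 0x0) (.leaf 0x0))) (.node (.node (.leaf 0x10000000000000000000000000000000000000000000000000000000000000000000000000000000000000000000000000000000000000000000000000000000000000000000000000000000000000000000000000000000000000000000000000000000000000000000000000000000000000000000000000000000000000000000000000000000000000000000000000000000000000000000000000000000000000)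 (.leaf 0x0)) (.node (.leaf 0x0) (.leaf 0x0)))))))) (.node (.node (.node (.node (.node (.node (.node (.leaf 0x500000000000000000000000000000000000000000000000000000000000000000000000000000000000000000000000000000000000000000000000000000000000000000000000000000000000000000000000000000000000000000000000000000000000000000000000000000000000000000000000000000000000000000000000000000000000000000000000000000000000000000000000000000000000000000000000000000000000000000000000000000000000000000000000000000000000000000000000000000000000000000000000000000000000000000000000000000000000000000000000000000000000000000000000000000000000000000000000000000000000000000000000000000000000000000000000) (.leaf 0x0)) (.node (.leaf 0x0) (.leaf 0x0))) (.node (.node (.leaf 0xd0000000000000000000000000000000000000000000000000000000) (.leaf 0x0)) (.node (.leaf 0x0) (.leaf 0x0)))) (.node (.node (.node (.leaf 0x0) (.leaf 0x0)) (.node (.leaf 0x0) (.leaf 0x0))) (.node (.node (.leaf 0x0) (.leaf 0x0)) (.node (.leaf 0x0) (.leaf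 0x0))))) (.node (.node (.node (.node (.leaf 0x0) (.leaf 0x0)) (.node (.leaf 0x0) (.leaf 0x0))) (.node (.node (.leaf 0x80000000000000000000000000000000000000000000000000000000000000000000000000000000000000) (.leaf 0x0)) (.node (.leaf 0x0) (.leaf 0x0)))) (.node (.node (.node (.leaf 0x60000000000000000000000000000000000000000000000000000000000000000000000000000000000000000000000000000000000000000000000000000000000000000000000000000000000000000000000000000000000000000000000000000000000000000000000000000000000000000000000000000000000000000000000000000000000000000000000000000000000000000000000000000000000000000000000000000000000000000000000000000000000000000000000000000000000000000000000000000000000000000000000000000000000000000000000000000000000000000000000000000000000000000000000000000000000000000000000000000000000000000000000000000000000000000000000000000000000000000000000000000000000) (.leaf 0x0)) (.node (.leaf 0x0) (.leaf 0x0))) (.node (.node (.leaf 0x0) (.leaf 0x0)) (.node (.leaf 0x0) (.leaf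 0x0)))))) (.node (.node (.node (.node (.node (.leaf 0x70000000000000000002700000000000001b0000000000000190000000000000000000000000000000000000000000000001600020000100001400000000000000000000000000000000000000000000000000000000000000000000000000000000000000000000000000000000000000000000000000000000000000000000000000000000000000000000000000000000000000000000000000000000000000000000000000000000000000000000000000000000000000000000000000000000000000000000000000000000000000000000000000000000000000000000000000000000000000000000000000000) (.leaf 0x0)) (.node (.leaf 0x0) (.leaf 0x0))) (.node (.node (.leaf 0x0) (.leaf 0x0)) (.node (.leaf 0x0) (.leaf 0x0)))) (.node (.node (.node (.leaf 0x0) (.leaf 0x0)) (.node (.leaf 0x0) (.leaf 0x0))) (.node (.node (.leaf 0x0) (.leaf 0x0)) (.node (.leaf 0x0) (.leaf 0x0))))) (.node (.node (.node (.node (.leaf 0x0) (.leaf 0x0)) (.node (.leaf 0x0) (.leaf 0x0))) (.node (.node (.leaf 0x0) (.leaf 0x0)) (.node (.leaf 0x0) (.leaf 0x0)))) (.node (.node (.node (.leaf 0x0) (.leaf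 0x0)) (.node (.leaf 0x0) (.leaf 0x0))) (.node (.node (.leaf 0x0) (.leaf 0x0)) (.node (.leaf 0x0) (.leaf 0x0))))))) (.node (.node (.node (.node (.node (.node (.leaf 0x1100000000000000000000000000000000000000000002500018000000000000000000000000000000000000000000000000000000000000000000000000000000000000000000000000000000000000000000000000000000000000000000000000000000000000000000000000000000000000000000000000000000000000000000000000000000000000000000000000000000000000000000000000000000000000000000000000000000000000000000000000000000000000000000000000000000000000000000000000000000000000000000000000000000000000000000000000000000000000000000000000000000000000000000000000000000000000000000000000000000000000000000000000000000000000000000000000000000000000000000000000000000000000000000000000000000000) (.leaf 0x0)) (.node (.leaf 0x0) (.leaf 0x0))) (.node (.node (.leaf 0x0) (.leaf 0x0)) (.node (.leaf 0x0) (.leaf 0x0)))) (.node (.node (.node (.leaf 0x29000000000e00000000000000000000000000000000000000000000000000000000000000000000000000000000000000000000000000000000000000000000000000000000000000000000000000000000000000000000000000000000000000000000000000000000000000000000000000000000000000000000000000000000000000000000000000000000000000000000000000000000000000000000000000000000000000000000000000000000000000000000000000000000000000000000000000000000000000000000000000000000000000000000000000000000000000000000000000000000000000)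 (.leaf 0x0)) (.node (.leaf 0x0) (.leaf 0x0))) (.node (.node (.leaf 0x2000000000000000000000000000000000000000000000) (.leaf 0x0)) (.node (.leaf 0x0) (.leaf 0x0))))) (.node (.node (.node (.node (.leaf 0x0) (.leaf 0x0)) (.node (.leaf 0x0) (.leaf 0x0))) (.node (.node (.leaf 0x0) (.leaf 0x0)) (.node (.leaf 0x0) (.leaf 0x0)))) (.node (.node (.node (.leaf 0x0) (.leaf 0x0)) (.node (.leaf 0x0) (.leaf 0x0))) (.node (.node (.leaf 0x0) (.leaf 0x0)) (.node (.leaf 0x0) (.leaf 0x0)))))) (.node (.node (.node (.node (.node (.leaf 0x23000000000000021000000000000000000000000000000000000000000000000000000000000000000001e0001a0001c0000a000000000000000000000000000000000000000000000000000000000000000000000000000000000000000000000000000000000000000000000000000000000000000000000000000000000000000000000000000000000000000000000000000000000000000000000000000000000000000000000000000000000000000000000000000000000000000000000000000000000000000000000000000000000000000000000000000000000000000000000000000000000000000000000000000000000000000000000000000000000000000000000000000000000000000000000000000000000000000000000000000000000000000000000000000000000000000000000)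 (.leaf 0x0)) (.node (.leaf 0x0) (.leaf 0x0))) (.node (.node (.leaf 0x0) (.leaf 0x0)) (.node (.leaf 0x0) (.leaf 0x0)))) (.node (.node (.node (.leaf 0x0) (.leaf 0x0)) (.node (.leaf 0x0) (.leaf 0x0))) (.node (.node (.leaf 0x0) (.leaf 0x0)) (.node (.leaf 0x0) (.leaf 0x0))))) (.node (.node (.node (.node (.leaf 0x0) (.leaf 0x0)) (.node (.leaf 0x0) (.leaf 0x0))) (.node (.node (.leaf 0x0) (.leaf 0x0)) (.node (.leaf 0x0) (.leaf 0x0)))) (.node (.node (.node (.leaf 0x0) (.leaf 0x0)) (.node (.leaf 0x0) (.leaf 0x0))) (.node (.node (.leaf 0x0) (.leaf 0x0)) (.node (.leaf 0x0) (.leaf 0x0)))))))))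
/-- prefix -/
def r0000_pre : List (ℕ × Spec) := [(0, (0, [])), (1, (1, [])), (2, (2, [])), (3, (3, []))]
/-- node -/
noncomputable def r0000 : Based.Node := ⟨8, [(8, []), (4, [])], [[5], [6], [7], [9], [4, 3, 8, 2, 3, 4, 1, 2, 3, 8, 5, 4, 3, 2, 1, 0, 1, 2, 3, 4, 5, 8, 3, 2, 1, 4, 3, 2, 8, 3, 4], [4, 5, 6, 3, 4, 5, 2, 3, 4, 1, 2, 3, 8, 7, 6, 5, 4, 3, 2, 1, 0, 1, 2, 3, 4, 5, 6, 7, 8, 3, 2, 1, 4, 3, 2, 5, 4, 3, 6, 5, 4]], 42, r0000_pts, r0000_par, r0000_via, r0000_pos⟩

/-- pts -/
noncomputable def r00000_pts : Tr := (.leaf 0x5630075600cf900205009dd01f47)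
/-- par -/
noncomputable def r00000_par : Tr := (.leaf 0x40000100001000000000000000)
/-- via -/
noncomputable def r00000_via : Tr := (.leaf 0x20000100000000040000300000)
/-- pos -/
noncomputable def r00000_pos : Tr := (.node (.node (.node (.node (.node (.node (.node (.node (.leaf 0x0) (.leaf 0x0)) (.node (.leaf 0x0) (.leaf 0x0))) (.node (.node (.leaf 0x0) (.leaf 0x0)) (.node (.leaf 0x0) (.leaf 0x0)))) (.node (.node (.node (.leaf 0x0) (.leaf 0x0)) (.node (.leaf 0x0) (.leaf 0x0))) (.node (.node (.leaf 0x0) (.leaf 0x0)) (.node (.leaf 0x0) (.leaf 0x0))))) (.node (.node (.node (.node (.leaf 0x0) (.leaf 0x0)) (.node (.leaf 0x0) (.leaf 0x0))) (.node (.node (.leaf 0x0) (.leaf 0x0)) (.node (.leaf 0x0) (.leaf 0x0)))) (.node (.node (.node (.leaf 0x0) (.leaf 0x0)) (.node (.leaf 0x0) (.leaf 0x0))) (.node (.node (.leaf 0x0) (.leaf 0x0)) (.node (.leaf 0x0) (.leaf 0x0)))))) (.node (.node (.node (.node (.node (.leaf 0x20000000000000000000000000) (.leaf 0x0)) (.node (.leaf 0x0) (.leaf 0x0))) (.node (.node (.leaf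 0x0) (.leaf 0x0)) (.node (.leaf 0x0) (.leaf 0x0)))) (.node (.node (.node (.leaf 0x0) (.leaf 0x0)) (.node (.leaf 0x0) (.leaf 0x0))) (.node (.node (.leaf 0x0) (.leaf 0x0)) (.node (.leaf 0x0) (.leaf 0x0))))) (.node (.node (.node (.node (.leaf 0x0) (.leaf 0x0)) (.node (.leaf 0x0) (.leaf 0x0))) (.node (.node (.leaf 0x0) (.leaf 0x0)) (.node (.leaf 0x0) (.leaf 0x0)))) (.node (.node (.node (.leaf 0x0) (.leaf 0x0)) (.node (.leaf 0x0) (.leaf 0x0))) (.node (.node (.leaf 0x0) (.leaf 0x0)) (.node (.leaf 0x0) (.leaf 0x0))))))) (.node (.node (.node (.node (.node (.node (.leaf 0x0) (.leaf 0x0)) (.node (.leaf 0x0) (.leaf 0x0))) (.node (.node (.leaf 0x0) (.leaf 0x0)) (.node (.leaf 0x0) (.leaf 0x0)))) (.node (.node (.node (.leaf 0x0) (.leaf 0x0)) (.node (.leaf 0x0) (.leaf 0x0))) (.node (.node (.leaf 0x0) (.leaf 0x0)) (.node (.leaf 0x0) (.leaf 0x0))))) (.node (.node (.node (.node (.leaf 0x5000000000000000000000000000000000000000000000000000000000000000000000000000000000000000000000000000000000000000000000000000000000000000000000000000000000000000000000000000000000000000000000000000000000000000000000000000000000000000000000000000000000000000000000000000000000000000000000000000000000000000000000000000000000000000000000000000000000000000000000000000000000000000000000000000000000000000000000000000000000000000000000000000000000000000000000000000000000000000000000000000000000000000)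 (.leaf 0x0)) (.node (.leaf 0x0) (.leaf 0x0))) (.node (.node (.leaf 0x0) (.leaf 0x0)) (.node (.leaf 0x0) (.leaf 0x0)))) (.node (.node (.node (.leaf 0x0) (.leaf 0x0)) (.node (.leaf 0x0) (.leaf 0x0))) (.node (.node (.leaf 0x0) (.leaf 0x0)) (.node (.leaf 0x0) (.leaf 0x0)))))) (.node (.node (.node (.node (.node (.leaf 0x0) (.leaf 0x0)) (.node (.leaf 0x0) (.leaf 0x0))) (.node (.node (.leaf 0x0) (.leaf 0x0)) (.node (.leaf 0x0) (.leaf 0x0)))) (.node (.node (.node (.leaf 0x0) (.leaf 0x0)) (.node (.leaf 0x0) (.leaf 0x0))) (.node (.node (.leaf 0x0) (.leaf 0x0)) (.node (.leaf 0x0) (.leaf 0x0))))) (.node (.node (.node (.node (.leaf 0x40000000000000000000000000000000000000000000000000000000000000000000000000000000000000000000000000000000000000000000000000000000000000000000000000000000000000000000000000000000000000000000000000000000000000000000000000000000000000000000000000000000000000000000000000000000000000000000000000000000000000000000000000000000000000000000000000000000000000000000000000000000000000000000000000000000000000000000000000000000000000000000000)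 (.leaf 0x0)) (.node (.leaf 0x0) (.leaf 0x0))) (.node (.node (.leaf 0x0) (.leaf 0x0)) (.node (.leaf 0x0) (.leaf 0x0)))) (.node (.node (.node (.leaf 0x0) (.leaf 0x0)) (.node (.leaf 0x0) (.leaf 0x0))) (.node (.node (.leaf 0x0) (.leaf 0x0)) (.node (.leaf 0x0) (.leaf 0x0)))))))) (.node (.node (.node (.node (.node (.node (.node (.leaf 0x0) (.leaf 0x0)) (.node (.leaf 0x0) (.leaf 0x0))) (.node (.node (.leaf 0x0) (.leaf 0x0)) (.node (.leaf 0x0) (.leaf 0x0)))) (.node (.node (.node (.leaf 0x0) (.leaf 0x0)) (.node (.leaf 0x0) (.leaf 0x0))) (.node (.node (.leaf 0x0) (.leaf 0x0)) (.node (.leaf 0x0) (.leaf 0x0))))) (.node (.node (.node (.node (.leaf 0x0) (.leaf 0x0)) (.node (.leaf 0x0) (.leaf 0x0))) (.node (.node (.leaf 0x0) (.leaf 0x0)) (.node (.leaf 0x0) (.leaf 0x0)))) (.node (.node (.node (.leaf 0x300000000000000000000000000000000000000000000000000000000000000000000000000000000000000000000000000000000000000000000000000000000000000000000000000000000000000000000000000000000000000000000000000000000000000000000000000000000000000000000000000000000000000000000000000000000000000000000000000000000000000000000000000000000000000000000000000000000000000000000000000000000000000000000000000000000000000000000000000000000000000000000000000000000000000000000000000000000000000000000000000000000000000000000000000000000000000000000000000000000000000000000000000000000000000000000000000000000000000000000000000000)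 (.leaf 0x0)) (.node (.leaf 0x0) (.leaf 0x0))) (.node (.node (.leaf 0x0) (.leaf 0x0)) (.node (.leaf 0x0) (.leaf 0x0)))))) (.node (.node (.node (.node (.node (.leaf 0x0) (.leaf 0x0)) (.node (.leaf 0x0) (.leaf 0x0))) (.node (.node (.leaf 0x0) (.leaf 0x0)) (.node (.leaf 0x0) (.leaf 0x0)))) (.node (.node (.node (.leaf 0x0) (.leaf 0x0)) (.node (.leaf 0x0) (.leaf 0x0))) (.node (.node (.leaf 0x0) (.leaf 0x0)) (.node (.leaf 0x0) (.leaf 0x0))))) (.node (.node (.node (.node (.leaf 0x0) (.leaf 0x0)) (.node (.leaf 0x0) (.leaf 0x0))) (.node (.node (.leaf 0x0) (.leaf 0x0)) (.node (.leaf 0x0) (.leaf 0x0)))) (.node (.node (.node (.leaf 0x0) (.leaf 0x0)) (.node (.leaf 0x0) (.leaf 0x0))) (.node (.node (.leaf 0x0) (.leaf 0x0)) (.node (.leaf 0x0) (.leaf 0x0))))))) (.node (.node (.node (.node (.node (.node (.leaf 0x0) (.leaf 0x0)) (.node (.leaf 0x0) (.leaf 0x0))) (.node (.node (.leaf 0x0) (.leaf 0x0)) (.node (.leaf 0x0) (.leaf 0x0)))) (.node (.node (.node (.leaf 0x1000000000000000000000000000000000000000000000000000000000000000000000000000000000000000000000000000000000000000000000000000000000000000000000000000000000000000000000000000000000000000000000000000000000000000000000000000000000000000000000000000000000000000000000000000000000000000000000000000000000000000000000000000000000000000000000000000000000000000000000000000000000000000000000000000000000000000000000000000000000000000000000000000000000000000000000000000000000)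 (.leaf 0x0)) (.node (.leaf 0x0) (.leaf 0x0))) (.node (.node (.leaf 0x0) (.leaf 0x0)) (.node (.leaf 0x0) (.leaf 0x0))))) (.node (.node (.node (.node (.leaf 0x0) (.leaf 0x0)) (.node (.leaf 0x0) (.leaf 0x0))) (.node (.node (.leaf 0x0) (.leaf 0x0)) (.node (.leaf 0x0) (.leaf 0x0)))) (.node (.node (.node (.leaf 0x0) (.leaf 0x0)) (.node (.leaf 0x0) (.leaf 0x0))) (.node (.node (.leaf 0x0) (.leaf 0x0)) (.node (.leaf 0x0) (.leaf 0x0)))))) (.node (.node (.node (.node (.node (.leaf 0x0) (.leaf 0x0)) (.node (.leaf 0x0) (.leaf 0x0))) (.node (.node (.leaf 0x0) (.leaf 0x0)) (.node (.leaf 0x0) (.leaf 0x0)))) (.node (.node (.node (.leaf 0x0) (.leaf 0x0)) (.node (.leaf 0x0) (.leaf 0x0))) (.node (.node (.leaf 0x0) (.leaf 0x0)) (.node (.leaf 0x0) (.leaf 0x0))))) (.node (.node (.node (.node (.leaf 0x0) (.leaf 0x0)) (.node (.leaf 0x0) (.leaf 0x0))) (.node (.node (.leaf 0x0) (.leaf 0x0)) (.node (.leaf 0x0) (.leaf 0x0)))) (.node (.node (.node (.leaf 0x0) (.leaf 0x0)) (.node (.leaf 0x0) (.leaf 0x0))) (.node (.node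 (.leaf 0x0) (.leaf 0x0)) (.node (.leaf 0x0) (.leaf 0x0)))))))))
/-- prefix -/
def r00000_pre : List (ℕ × Spec) := [(0, (0, [])), (1, (1, [])), (2, (2, [])), (3, (3, [])), (8, (8, []))]
/-- node -/
noncomputable def r00000 : Based.Node := ⟨9, [(9, [])], [[5], [6], [7], [4, 3, 8, 2, 3, 4, 1, 2, 3, 8, 5, 4, 3, 2, 1, 0, 1, 2, 3, 4, 5, 8, 3, 2, 1, 4, 3, 2, 8, 3, 4], [4, 5, 6, 3, 4, 5, 2, 3, 4, 1, 2, 3, 8, 7, 6, 5, 4, 3, 2, 1, 0, 1, 2, 3, 4, 5, 6, 7, 8, 3, 2, 1, 4, 3, 2, 5, 4, 3, 6, 5, 4]], 6, r00000_pts, r00000_par, r00000_via, r00000_pos⟩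

/-- pts -/
noncomputable def r000000_pts : Tr := (.leaf 0x103601491000040197c01f41)
/-- par -/
noncomputable def r000000_par : Tr := (.leaf 0x300001000000000000000)
/-- via -/
noncomputable def r000000_via : Tr := (.leaf 0x200001000030000000000)
/-- pos -/
noncomputable def r000000_pos : Tr := (.node (.node (.node (.node (.node (.node (.node (.node (.leaf 0x200000000000000000000) (.leaf 0x0)) (.node (.leaf 0x0) (.leaf 0x0))) (.node (.node (.leaf 0x4000000000000000000000000000000000000000000000000000000000000000000000000000000000000000000000000000000000000000000000000000000000000000000000000000000000000000000000000000000000000000000000000000000000000000000000000000000000000000000000000000000000000000000000000000000) (.leaf 0x0)) (.node (.leaf 0x0) (.leaf 0x0)))) (.node (.node (.node (.leaf 0x0) (.leaf 0x0)) (.node (.leaf 0x0) (.leaf 0x0))) (.node (.node (.leaf 0x0) (.leaf 0x0)) (.node (.leaf 0x0) (.leaf 0x0))))) (.node (.node (.node (.node (.leaf 0x0) (.leaf 0x0)) (.node (.leaf 0x0) (.leaf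 0x0))) (.node (.node (.leaf 0x0) (.leaf 0x0)) (.node (.leaf 0x0) (.leaf 0x0)))) (.node (.node (.node (.leaf 0x0) (.leaf 0x0)) (.node (.leaf 0x0) (.leaf 0x0))) (.node (.node (.leaf 0x0) (.leaf 0x0)) (.node (.leaf 0x0) (.leaf 0x0)))))) (.node (.node (.node (.node (.node (.leaf 0x0) (.leaf 0x0)) (.node (.leaf 0x0) (.leaf 0x0))) (.node (.node (.leaf 0x0) (.leaf 0x0)) (.node (.leaf 0x0) (.leaf 0x0)))) (.node (.node (.node (.leaf 0x0) (.leaf 0x0)) (.node (.leaf 0x0) (.leaf 0x0))) (.node (.node (.leaf 0x0) (.leaf 0x0)) (.node (.leaf 0x0) (.leaf 0x0))))) (.node (.node (.node (.node (.leaf 0x0) (.leaf 0x0)) (.node (.leaf 0x0) (.leaf 0x0))) (.node (.node (.leaf 0x0) (.leaf 0x0)) (.node (.leaf 0x0) (.leaf 0x0)))) (.node (.node (.node (.leaf 0x0) (.leaf 0x0)) (.node (.leaf 0x0) (.leaf 0x0))) (.node (.node (.leaf 0x0) (.leaf 0x0)) (.node (.leaf 0x0) (.leaf 0x0))))))) (.node (.node (.node (.node (.node (.node (.leaf 0x0) (.leaf 0x0)) (.node (.leaf 0x0) (.leaf 0x0))) (.node (.node (.leaf 0x0) (.leaf 0x0))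 (.node (.leaf 0x0) (.leaf 0x0)))) (.node (.node (.node (.leaf 0x0) (.leaf 0x0)) (.node (.leaf 0x0) (.leaf 0x0))) (.node (.node (.leaf 0x100000000000000000000000000000000000000000000000000000000000000000000000000000000000000000000000000000000000000000000000000000000000000000000000000000000000000000000000000000000000000000000000000000000000000000000000000000000000000000000000000000000000000000000000000000000000000000000000000000000000000000000000000000000000000000000000000000000000000000000000000000000000000000000000000000000000000000000000000000000000000000000000000000000000000000000000000000000000000000000000000000000000000000000000000000000000000000000000000000000000000000000000000000000000000000000000000000000000000000000000000000000000000000000) (.leaf 0x0)) (.node (.leaf 0x0) (.leaf 0x0))))) (.node (.node (.node (.node (.leaf 0x0) (.leaf 0x0)) (.node (.leaf 0x0) (.leaf 0x0))) (.node (.node (.leaf 0x0) (.leaf 0x0)) (.node (.leaf 0x0) (.leaf 0x0)))) (.node (.node (.node (.leaf 0x0) (.leaf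 0x0)) (.node (.leaf 0x0) (.leaf 0x0))) (.node (.node (.leaf 0x0) (.leaf 0x0)) (.node (.leaf 0x0) (.leaf 0x0)))))) (.node (.node (.node (.node (.node (.leaf 0x0) (.leaf 0x0)) (.node (.leaf 0x0) (.leaf 0x0))) (.node (.node (.leaf 0x0) (.leaf 0x0)) (.node (.leaf 0x0) (.leaf 0x0)))) (.node (.node (.node (.leaf 0x0) (.leaf 0x0)) (.node (.leaf 0x0) (.leaf 0x0))) (.node (.node (.leaf 0x0) (.leaf 0x0)) (.node (.leaf 0x0) (.leaf 0x0))))) (.node (.node (.node (.node (.leaf 0x0) (.leaf 0x0)) (.node (.leaf 0x0) (.leaf 0x0))) (.node (.node (.leaf 0x0) (.leaf 0x0)) (.node (.leaf 0x0) (.leaf 0x0)))) (.node (.node (.node (.leaf 0x0) (.leaf 0x0)) (.node (.leaf 0x0) (.leaf 0x0))) (.node (.node (.leaf 0x0) (.leaf 0x0)) (.node (.leaf 0x0) (.leaf 0x0)))))))) (.node (.node (.node (.node (.node (.node (.node (.leaf 0x0) (.leaf 0x0)) (.node (.leaf 0x0) (.leaf 0x0))) (.node (.node (.leaf 0x0) (.leaf 0x0)) (.node (.leaf 0x0) (.leaf 0x0)))) (.node (.node (.node (.leaf 0x0) (.leaf 0x0)) (.node (.leaf 0x0) (.leaf 0x0)))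 (.node (.node (.leaf 0x0) (.leaf 0x0)) (.node (.leaf 0x0) (.leaf 0x0))))) (.node (.node (.node (.node (.leaf 0x0) (.leaf 0x0)) (.node (.leaf 0x0) (.leaf 0x0))) (.node (.node (.leaf 0x30000000000000000000000000000000000000000000000000000000000000000000000000000000000000) (.leaf 0x0)) (.node (.leaf 0x0) (.leaf 0x0)))) (.node (.node (.node (.leaf 0x0) (.leaf 0x0)) (.node (.leaf 0x0) (.leaf 0x0))) (.node (.node (.leaf 0x0) (.leaf 0x0)) (.node (.leaf 0x0) (.leaf 0x0)))))) (.node (.node (.node (.node (.node (.leaf 0x0) (.leaf 0x0)) (.node (.leaf 0x0) (.leaf 0x0))) (.node (.node (.leaf 0x0) (.leaf 0x0)) (.node (.leaf 0x0) (.leaf 0x0)))) (.node (.node (.node (.leaf 0x0) (.leaf 0x0)) (.node (.leaf 0x0) (.leaf 0x0))) (.node (.node (.leaf 0x0) (.leaf 0x0)) (.node (.leaf 0x0) (.leaf 0x0))))) (.node (.node (.node (.node (.leaf 0x0) (.leaf 0x0)) (.node (.leaf 0x0) (.leaf 0x0))) (.node (.node (.leaf 0x0) (.leaf 0x0)) (.node (.leaf 0x0) (.leaf 0x0)))) (.node (.node (.node (.leaf 0x0) (.leaf 0x0)) (.node (.leaf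 0x0) (.leaf 0x0))) (.node (.node (.leaf 0x0) (.leaf 0x0)) (.node (.leaf 0x0) (.leaf 0x0))))))) (.node (.node (.node (.node (.node (.node (.leaf 0x0) (.leaf 0x0)) (.node (.leaf 0x0) (.leaf 0x0))) (.node (.node (.leaf 0x0) (.leaf 0x0)) (.node (.leaf 0x0) (.leaf 0x0)))) (.node (.node (.node (.leaf 0x0) (.leaf 0x0)) (.node (.leaf 0x0) (.leaf 0x0))) (.node (.node (.leaf 0x0) (.leaf 0x0)) (.node (.leaf 0x0) (.leaf 0x0))))) (.node (.node (.node (.node (.leaf 0x0) (.leaf 0x0)) (.node (.leaf 0x0) (.leaf 0x0))) (.node (.node (.leaf 0x0) (.leaf 0x0)) (.node (.leaf 0x0) (.leaf 0x0)))) (.node (.node (.node (.leaf 0x0) (.leaf 0x0)) (.node (.leaf 0x0) (.leaf 0x0))) (.node (.node (.leaf 0x0) (.leaf 0x0)) (.node (.leaf 0x0) (.leaf 0x0)))))) (.node (.node (.node (.node (.node (.leaf 0x0) (.leaf 0x0)) (.node (.leaf 0x0) (.leaf 0x0))) (.node (.node (.leaf 0x0) (.leaf 0x0)) (.node (.leaf 0x0) (.leaf 0x0)))) (.node (.node (.node (.leaf 0x0) (.leaf 0x0)) (.node (.leaf 0x0) (.leaf 0x0))) (.node (.node (.leaf 0x0)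 (.leaf 0x0)) (.node (.leaf 0x0) (.leaf 0x0))))) (.node (.node (.node (.node (.leaf 0x0) (.leaf 0x0)) (.node (.leaf 0x0) (.leaf 0x0))) (.node (.node (.leaf 0x0) (.leaf 0x0)) (.node (.leaf 0x0) (.leaf 0x0)))) (.node (.node (.node (.leaf 0x0) (.leaf 0x0)) (.node (.leaf 0x0) (.leaf 0x0))) (.node (.node (.leaf 0x0) (.leaf 0x0)) (.node (.leaf 0x0) (.leaf 0x0)))))))))
/-- prefix -/
def r000000_pre : List (ℕ × Spec) := [(0, (0, [])), (1, (1, [])), (2, (2, [])), (3, (3, [])), (8, (8, [])), (9, (9, []))]
/-- node -/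
noncomputable def r000000 : Based.Node := ⟨4, [(4, [])], [[5], [6], [7], [4, 3, 8, 2, 3, 4, 1, 2, 3, 8, 5, 6, 4, 5, 3, 4, 2, 3, 8, 7, 6, 5, 4, 3, 2, 1, 2, 3, 4, 5, 6, 7, 8, 3, 2, 4, 3, 5, 4, 6, 5, 8, 3, 2, 1, 4, 3, 2, 8, 3, 4]], 5, r000000_pts, r000000_par, r000000_via, r000000_pos⟩

/-- pts -/
noncomputable def r0000000_pts : Tr := (.leaf 0x1494000030198101f42)
/-- par -/
noncomputable def r0000000_par : Tr := (.leaf 0x1000000000000000)
/-- via -/
noncomputable def r0000000_via : Tr := (.leaf 0x1000020000000000)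
/-- pos -/
noncomputable def r0000000_pos : Tr := (.node (.node (.node (.node (.node (.node (.node (.node (.leaf 0x2000000000000000) (.leaf 0x0)) (.node (.leaf 0x0) (.leaf 0x0))) (.node (.node (.leaf 0x0) (.leaf 0x0)) (.node (.leaf 0x0) (.leaf 0x0)))) (.node (.node (.node (.leaf 0x0) (.leaf 0x0)) (.node (.leaf 0x0) (.leaf 0x0))) (.node (.node (.leaf 0x0) (.leaf 0x0)) (.node (.leaf 0x0) (.leaf 0x0))))) (.node (.node (.node (.node (.leaf 0x0) (.leaf 0x0)) (.node (.leaf 0x0) (.leaf 0x0))) (.node (.node (.leaf 0x0) (.leaf 0x0)) (.node (.leaf 0x0) (.leaf 0x0)))) (.node (.node (.node (.leaf 0x0) (.leaf 0x0)) (.node (.leaf 0x0) (.leaf 0x0))) (.node (.node (.leaf 0x0) (.leaf 0x0)) (.node (.leaf 0x0) (.leaf 0x0)))))) (.node (.node (.node (.node (.node (.leaf 0x0) (.leaf 0x0)) (.node (.leaf 0x0) (.leaf 0x0))) (.node (.node (.leaf 0x0) (.leaf 0x0)) (.node (.leaf 0x0) (.leaf 0x0)))) (.node (.node (.node (.leaf 0x0) (.leaf 0x0)) (.node (.leaf 0x0) (.leaf 0x0))) (.node (.node (.leaf 0x0) (.leaf 0x0)) (.node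 (.leaf 0x0) (.leaf 0x0))))) (.node (.node (.node (.node (.leaf 0x0) (.leaf 0x0)) (.node (.leaf 0x0) (.leaf 0x0))) (.node (.node (.leaf 0x0) (.leaf 0x0)) (.node (.leaf 0x0) (.leaf 0x0)))) (.node (.node (.node (.leaf 0x0) (.leaf 0x0)) (.node (.leaf 0x0) (.leaf 0x0))) (.node (.node (.leaf 0x0) (.leaf 0x0)) (.node (.leaf 0x0) (.leaf 0x0))))))) (.node (.node (.node (.node (.node (.node (.leaf 0x0) (.leaf 0x0)) (.node (.leaf 0x0) (.leaf 0x0))) (.node (.node (.leaf 0x0) (.leaf 0x0)) (.node (.leaf 0x0) (.leaf 0x0)))) (.node (.node (.node (.leaf 0x0) (.leaf 0x0)) (.node (.leaf 0x0) (.leaf 0x0))) (.node (.node (.leaf 0x0) (.leaf 0x0)) (.node (.leaf 0x0) (.leaf 0x0))))) (.node (.node (.node (.node (.leaf 0x0) (.leaf 0x0)) (.node (.leaf 0x0) (.leaf 0x0))) (.node (.node (.leaf 0x0) (.leaf 0x0)) (.node (.leaf 0x0) (.leaf 0x0)))) (.node (.node (.node (.leaf 0x0) (.leaf 0x0)) (.node (.leaf 0x0) (.leaf 0x0))) (.node (.node (.leaf 0x0) (.leaf 0x0)) (.node (.leaf 0x0) (.leaf 0x0)))))) (.node (.node (.node (.node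 (.node (.leaf 0x0) (.leaf 0x0)) (.node (.leaf 0x0) (.leaf 0x0))) (.node (.node (.leaf 0x0) (.leaf 0x0)) (.node (.leaf 0x0) (.leaf 0x0)))) (.node (.node (.node (.leaf 0x0) (.leaf 0x0)) (.node (.leaf 0x0) (.leaf 0x0))) (.node (.node (.leaf 0x0) (.leaf 0x0)) (.node (.leaf 0x0) (.leaf 0x0))))) (.node (.node (.node (.node (.leaf 0x0) (.leaf 0x0)) (.node (.leaf 0x0) (.leaf 0x0))) (.node (.node (.leaf 0x0) (.leaf 0x0)) (.node (.leaf 0x0) (.leaf 0x0)))) (.node (.node (.node (.leaf 0x0) (.leaf 0x0)) (.node (.leaf 0x0) (.leaf 0x0))) (.node (.node (.leaf 0x0) (.leaf 0x0)) (.node (.leaf 0x0) (.leaf 0x0)))))))) (.node (.node (.node (.node (.node (.node (.node (.leaf 0x0) (.leaf 0x0)) (.node (.leaf 0x0) (.leaf 0x0))) (.node (.node (.leaf 0x0) (.leaf 0x0)) (.node (.leaf 0x0) (.leaf 0x0)))) (.node (.node (.node (.leaf 0x0) (.leaf 0x0)) (.node (.leaf 0x0) (.leaf 0x0))) (.node (.node (.leaf 0x0) (.leaf 0x0)) (.node (.leaf 0x0) (.leaf 0x0))))) (.node (.node (.node (.node (.leaf 0x0) (.leaf 0x0)) (.node (.leaf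 0x0) (.leaf 0x0))) (.node (.node (.leaf 0x30000000000000000000000000000000000000000000000000000000000000000000000000000000000000000000000000000) (.leaf 0x0)) (.node (.leaf 0x0) (.leaf 0x0)))) (.node (.node (.node (.leaf 0x0) (.leaf 0x0)) (.node (.leaf 0x0) (.leaf 0x0))) (.node (.node (.leaf 0x0) (.leaf 0x0)) (.node (.leaf 0x0) (.leaf 0x0)))))) (.node (.node (.node (.node (.node (.leaf 0x0) (.leaf 0x0)) (.node (.leaf 0x0) (.leaf 0x0))) (.node (.node (.leaf 0x0) (.leaf 0x0)) (.node (.leaf 0x0) (.leaf 0x0)))) (.node (.node (.node (.leaf 0x0) (.leaf 0x0)) (.node (.leaf 0x0) (.leaf 0x0))) (.node (.node (.leaf 0x0) (.leaf 0x0)) (.node (.leaf 0x0) (.leaf 0x0))))) (.node (.node (.node (.node (.leaf 0x0) (.leaf 0x0)) (.node (.leaf 0x0) (.leaf 0x0))) (.node (.node (.leaf 0x0) (.leaf 0x0)) (.node (.leaf 0x0) (.leaf 0x0)))) (.node (.node (.node (.leaf 0x0) (.leaf 0x0)) (.node (.leaf 0x0) (.leaf 0x0))) (.node (.node (.leaf 0x0) (.leaf 0x0)) (.node (.leaf 0x0) (.leaf 0x0))))))) (.node (.node (.node (.node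 (.node (.node (.leaf 0x0) (.leaf 0x0)) (.node (.leaf 0x0) (.leaf 0x0))) (.node (.node (.leaf 0x0) (.leaf 0x0)) (.node (.leaf 0x0) (.leaf 0x0)))) (.node (.node (.node (.leaf 0x0) (.leaf 0x0)) (.node (.leaf 0x0) (.leaf 0x0))) (.node (.node (.leaf 0x100000) (.leaf 0x0)) (.node (.leaf 0x0) (.leaf 0x0))))) (.node (.node (.node (.node (.leaf 0x0) (.leaf 0x0)) (.node (.leaf 0x0) (.leaf 0x0))) (.node (.node (.leaf 0x0) (.leaf 0x0)) (.node (.leaf 0x0) (.leaf 0x0)))) (.node (.node (.node (.leaf 0x0) (.leaf 0x0)) (.node (.leaf 0x0) (.leaf 0x0))) (.node (.node (.leaf 0x0) (.leaf 0x0)) (.node (.leaf 0x0) (.leaf 0x0)))))) (.node (.node (.node (.node (.node (.leaf 0x0) (.leaf 0x0)) (.node (.leaf 0x0) (.leaf 0x0))) (.node (.node (.leaf 0x0) (.leaf 0x0)) (.node (.leaf 0x0) (.leaf 0x0)))) (.node (.node (.node (.leaf 0x0) (.leaf 0x0)) (.node (.leaf 0x0) (.leaf 0x0))) (.node (.node (.leaf 0x0) (.leaf 0x0)) (.node (.leaf 0x0) (.leaf 0x0))))) (.node (.node (.node (.node (.leaf 0x0) (.leaf 0x0)) (.node (.leaf 0x0)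 (.leaf 0x0))) (.node (.node (.leaf 0x0) (.leaf 0x0)) (.node (.leaf 0x0) (.leaf 0x0)))) (.node (.node (.node (.leaf 0x0) (.leaf 0x0)) (.node (.leaf 0x0) (.leaf 0x0))) (.node (.node (.leaf 0x0) (.leaf 0x0)) (.node (.leaf 0x0) (.leaf 0x0)))))))))
/-- prefix -/
def r0000000_pre : List (ℕ × Spec) := [(0, (0, [])), (1, (1, [])), (2, (2, [])), (3, (3, [])), (8, (8, [])), (9, (9, [])), (4, (4, []))]
/-- node -/
noncomputable def r0000000 : Based.Node := ⟨5, [(5, [])], [[6], [7], [5, 4, 3, 8, 2, 3, 4, 1, 2, 3, 8, 5, 6, 4, 5, 3, 4, 2, 3, 8, 7, 6, 5, 4, 3, 2, 1, 2, 3, 4, 5, 6, 7, 8, 3, 2, 4, 3, 5, 4, 6, 5, 8, 3, 2, 1, 4, 3, 2, 8, 3, 4, 5]], 4, r0000000_pts, r0000000_par, r0000000_via, r0000000_pos⟩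

/-- pts -/
noncomputable def r00000000_pts : Tr := (.leaf 0x20198301f45)
/-- par -/
noncomputable def r00000000_par : Tr := (.leaf 0x0)
/-- via -/
noncomputable def r00000000_via : Tr := (.leaf 0x10000000000)
/-- pos -/
noncomputable def r00000000_pos : Tr := (.node (.node (.node (.node (.node (.node (.node (.node (.leaf 0x20000000000) (.leaf 0x0)) (.node (.leaf 0x0) (.leaf 0x0))) (.node (.node (.leaf 0x0) (.leaf 0x0)) (.node (.leaf 0x0) (.leaf 0x0)))) (.node (.node (.node (.leaf 0x0) (.leaf 0x0)) (.node (.leaf 0x0) (.leaf 0x0))) (.node (.node (.leaf 0x0) (.leaf 0x0)) (.node (.leaf 0x0) (.leaf 0x0))))) (.node (.node (.node (.node (.leaf 0x0) (.leaf 0x0)) (.node (.leaf 0x0) (.leaf 0x0))) (.node (.node (.leaf 0x0) (.leaf 0x0)) (.node (.leaf 0x0) (.leaf 0x0)))) (.node (.node (.node (.leaf 0x0) (.leaf 0x0)) (.node (.leaf 0x0) (.leaf 0x0))) (.node (.node (.leaf 0x0) (.leaf 0x0)) (.node (.leaf 0x0) (.leaf 0x0)))))) (.node (.node (.node (.node (.node (.leaf 0x0) (.leaf 0x0)) (.node (.leaf 0x0) (.leaf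 0x0))) (.node (.node (.leaf 0x0) (.leaf 0x0)) (.node (.leaf 0x0) (.leaf 0x0)))) (.node (.node (.node (.leaf 0x0) (.leaf 0x0)) (.node (.leaf 0x0) (.leaf 0x0))) (.node (.node (.leaf 0x0) (.leaf 0x0)) (.node (.leaf 0x0) (.leaf 0x0))))) (.node (.node (.node (.node (.leaf 0x0) (.leaf 0x0)) (.node (.leaf 0x0) (.leaf 0x0))) (.node (.node (.leaf 0x0) (.leaf 0x0)) (.node (.leaf 0x0) (.leaf 0x0)))) (.node (.node (.node (.leaf 0x0) (.leaf 0x0)) (.node (.leaf 0x0) (.leaf 0x0))) (.node (.node (.leaf 0x0) (.leaf 0x0)) (.node (.leaf 0x0) (.leaf 0x0))))))) (.node (.node (.node (.node (.node (.node (.leaf 0x0) (.leaf 0x0)) (.node (.leaf 0x0) (.leaf 0x0))) (.node (.node (.leaf 0x0) (.leaf 0x0)) (.node (.leaf 0x0) (.leaf 0x0)))) (.node (.node (.node (.leaf 0x0) (.leaf 0x0)) (.node (.leaf 0x0) (.leaf 0x0))) (.node (.node (.leaf 0x0) (.leaf 0x0)) (.node (.leaf 0x0) (.leaf 0x0))))) (.node (.node (.node (.node (.leaf 0x0) (.leaf 0x0)) (.node (.leaf 0x0) (.leaf 0x0))) (.node (.node (.leaf 0x0) (.leaf 0x0)) (.node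 (.leaf 0x0) (.leaf 0x0)))) (.node (.node (.node (.leaf 0x0) (.leaf 0x0)) (.node (.leaf 0x0) (.leaf 0x0))) (.node (.node (.leaf 0x0) (.leaf 0x0)) (.node (.leaf 0x0) (.leaf 0x0)))))) (.node (.node (.node (.node (.node (.leaf 0x0) (.leaf 0x0)) (.node (.leaf 0x0) (.leaf 0x0))) (.node (.node (.leaf 0x0) (.leaf 0x0)) (.node (.leaf 0x0) (.leaf 0x0)))) (.node (.node (.node (.leaf 0x0) (.leaf 0x0)) (.node (.leaf 0x0) (.leaf 0x0))) (.node (.node (.leaf 0x0) (.leaf 0x0)) (.node (.leaf 0x0) (.leaf 0x0))))) (.node (.node (.node (.node (.leaf 0x0) (.leaf 0x0)) (.node (.leaf 0x0) (.leaf 0x0))) (.node (.node (.leaf 0x0) (.leaf 0x0)) (.node (.leaf 0x0) (.leaf 0x0)))) (.node (.node (.node (.leaf 0x0) (.leaf 0x0)) (.node (.leaf 0x0) (.leaf 0x0))) (.node (.node (.leaf 0x0) (.leaf 0x0)) (.node (.leaf 0x0) (.leaf 0x0)))))))) (.node (.node (.node (.node (.node (.node (.node (.leaf 0x0) (.leaf 0x0)) (.node (.leaf 0x0) (.leaf 0x0))) (.node (.node (.leaf 0x0) (.leaf 0x0)) (.node (.leaf 0x0) (.leaf 0x0)))) (.node (.node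 (.node (.leaf 0x0) (.leaf 0x0)) (.node (.leaf 0x0) (.leaf 0x0))) (.node (.node (.leaf 0x0) (.leaf 0x0)) (.node (.leaf 0x0) (.leaf 0x0))))) (.node (.node (.node (.node (.leaf 0x0) (.leaf 0x0)) (.node (.leaf 0x0) (.leaf 0x0))) (.node (.node (.leaf 0x0) (.leaf 0x0)) (.node (.leaf 0x0) (.leaf 0x0)))) (.node (.node (.node (.leaf 0x0) (.leaf 0x0)) (.node (.leaf 0x0) (.leaf 0x0))) (.node (.node (.leaf 0x0) (.leaf 0x0)) (.node (.leaf 0x0) (.leaf 0x0)))))) (.node (.node (.node (.node (.node (.leaf 0x0) (.leaf 0x0)) (.node (.leaf 0x0) (.leaf 0x0))) (.node (.node (.leaf 0x0) (.leaf 0x0)) (.node (.leaf 0x0) (.leaf 0x0)))) (.node (.node (.node (.leaf 0x0) (.leaf 0x0)) (.node (.leaf 0x0) (.leaf 0x0))) (.node (.node (.leaf 0x0) (.leaf 0x0)) (.node (.leaf 0x0) (.leaf 0x0))))) (.node (.node (.node (.node (.leaf 0x0) (.leaf 0x0)) (.node (.leaf 0x0) (.leaf 0x0))) (.node (.node (.leaf 0x0) (.leaf 0x0)) (.node (.leaf 0x0) (.leaf 0x0)))) (.node (.node (.node (.leaf 0x0) (.leaf 0x0)) (.node (.leaf 0x0) (.leaf 0x0)))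 (.node (.node (.leaf 0x0) (.leaf 0x0)) (.node (.leaf 0x0) (.leaf 0x0))))))) (.node (.node (.node (.node (.node (.node (.leaf 0x0) (.leaf 0x0)) (.node (.leaf 0x0) (.leaf 0x0))) (.node (.node (.leaf 0x0) (.leaf 0x0)) (.node (.leaf 0x0) (.leaf 0x0)))) (.node (.node (.node (.leaf 0x0) (.leaf 0x0)) (.node (.leaf 0x0) (.leaf 0x0))) (.node (.node (.leaf 0x1000000000000000) (.leaf 0x0)) (.node (.leaf 0x0) (.leaf 0x0))))) (.node (.node (.node (.node (.leaf 0x0) (.leaf 0x0)) (.node (.leaf 0x0) (.leaf 0x0))) (.node (.node (.leaf 0x0) (.leaf 0x0)) (.node (.leaf 0x0) (.leaf 0x0)))) (.node (.node (.node (.leaf 0x0) (.leaf 0x0)) (.node (.leaf 0x0) (.leaf 0x0))) (.node (.node (.leaf 0x0) (.leaf 0x0)) (.node (.leaf 0x0) (.leaf 0x0)))))) (.node (.node (.node (.node (.node (.leaf 0x0) (.leaf 0x0)) (.node (.leaf 0x0) (.leaf 0x0))) (.node (.node (.leaf 0x0) (.leaf 0x0)) (.node (.leaf 0x0) (.leaf 0x0)))) (.node (.node (.node (.leaf 0x0) (.leaf 0x0)) (.node (.leaf 0x0) (.leaf 0x0))) (.node (.node (.leaf 0x0) (.leaf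 0x0)) (.node (.leaf 0x0) (.leaf 0x0))))) (.node (.node (.node (.node (.leaf 0x0) (.leaf 0x0)) (.node (.leaf 0x0) (.leaf 0x0))) (.node (.node (.leaf 0x0) (.leaf 0x0)) (.node (.leaf 0x0) (.leaf 0x0)))) (.node (.node (.node (.leaf 0x0) (.leaf 0x0)) (.node (.leaf 0x0) (.leaf 0x0))) (.node (.node (.leaf 0x0) (.leaf 0x0)) (.node (.leaf 0x0) (.leaf 0x0)))))))))
/-- prefix -/
def r00000000_pre : List (ℕ × Spec) := [(0, (0, [])), (1, (1, [])), (2, (2, [])), (3, (3, [])), (8, (8, [])), (9, (9, [])), (4, (4, [])), (5, (5, []))]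
/-- node -/
noncomputable def r00000000 : Based.Node := ⟨6, [(6, [])], [[7], [6, 5, 4, 3, 8, 2, 3, 4, 1, 2, 3, 8, 5, 6, 4, 5, 3, 4, 2, 3, 8, 7, 6, 5, 4, 3, 2, 1, 2, 3, 4, 5, 6, 7, 8, 3, 2, 4, 3, 5, 4, 6, 5, 8, 3, 2, 1, 4, 3, 2, 8, 3, 4, 5, 6]], 3, r00000000_pts, r00000000_par, r00000000_via, r00000000_pos⟩

/-- pts -/
noncomputable def r000000000_pts : Tr := (.leaf 0x101f46)
/-- par -/
noncomputable def r000000000_par : Tr := (.leaf 0x0)
/-- via -/
noncomputable def r000000000_via : Tr := (.leaf 0x0)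
/-- pos -/
noncomputable def r000000000_pos : Tr := (.node (.node (.node (.node (.node (.node (.node (.node (.leaf 0x100000) (.leaf 0x0)) (.node (.leaf 0x0) (.leaf 0x0))) (.node (.node (.leaf 0x0) (.leaf 0x0)) (.node (.leaf 0x0) (.leaf 0x0)))) (.node (.node (.node (.leaf 0x0) (.leaf 0x0)) (.node (.leaf 0x0) (.leaf 0x0))) (.node (.node (.leaf 0x0) (.leaf 0x0)) (.node (.leaf 0x0) (.leaf 0x0))))) (.node (.node (.node (.node (.leaf 0x0) (.leaf 0x0)) (.node (.leaf 0x0) (.leaf 0x0))) (.node (.node (.leaf 0x0) (.leaf 0x0)) (.node (.leaf 0x0) (.leaf 0x0)))) (.node (.node (.node (.leaf 0x0) (.leaf 0x0)) (.node (.leaf 0x0) (.leaf 0x0))) (.node (.node (.leaf 0x0) (.leaf 0x0)) (.node (.leaf 0x0) (.leaf 0x0)))))) (.node (.node (.node (.node (.node (.leaf 0x0) (.leaf 0x0)) (.node (.leaf 0x0) (.leaf 0x0))) (.node (.node (.leaf 0x0) (.leaf 0x0)) (.node (.leaf 0x0) (.leaf 0x0)))) (.node (.node (.node (.leaf 0x0) (.leaf 0x0)) (.node (.leaf 0x0) (.leaf 0x0))) (.node (.node (.leaf 0x0) (.leaf 0x0)) (.node (.leaf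 0x0) (.leaf 0x0))))) (.node (.node (.node (.node (.leaf 0x0) (.leaf 0x0)) (.node (.leaf 0x0) (.leaf 0x0))) (.node (.node (.leaf 0x0) (.leaf 0x0)) (.node (.leaf 0x0) (.leaf 0x0)))) (.node (.node (.node (.leaf 0x0) (.leaf 0x0)) (.node (.leaf 0x0) (.leaf 0x0))) (.node (.node (.leaf 0x0) (.leaf 0x0)) (.node (.leaf 0x0) (.leaf 0x0))))))) (.node (.node (.node (.node (.node (.node (.leaf 0x0) (.leaf 0x0)) (.node (.leaf 0x0) (.leaf 0x0))) (.node (.node (.leaf 0x0) (.leaf 0x0)) (.node (.leaf 0x0) (.leaf 0x0)))) (.node (.node (.node (.leaf 0x0) (.leaf 0x0)) (.node (.leaf 0x0) (.leaf 0x0))) (.node (.node (.leaf 0x0) (.leaf 0x0)) (.node (.leaf 0x0) (.leaf 0x0))))) (.node (.node (.node (.node (.leaf 0x0) (.leaf 0x0)) (.node (.leaf 0x0) (.leaf 0x0))) (.node (.node (.leaf 0x0) (.leaf 0x0)) (.node (.leaf 0x0) (.leaf 0x0)))) (.node (.node (.node (.leaf 0x0) (.leaf 0x0)) (.node (.leaf 0x0) (.leaf 0x0))) (.node (.node (.leaf 0x0) (.leaf 0x0)) (.node (.leaf 0x0) (.leaf 0x0)))))) (.node (.node (.node (.node (.node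 (.leaf 0x0) (.leaf 0x0)) (.node (.leaf 0x0) (.leaf 0x0))) (.node (.node (.leaf 0x0) (.leaf 0x0)) (.node (.leaf 0x0) (.leaf 0x0)))) (.node (.node (.node (.leaf 0x0) (.leaf 0x0)) (.node (.leaf 0x0) (.leaf 0x0))) (.node (.node (.leaf 0x0) (.leaf 0x0)) (.node (.leaf 0x0) (.leaf 0x0))))) (.node (.node (.node (.node (.leaf 0x0) (.leaf 0x0)) (.node (.leaf 0x0) (.leaf 0x0))) (.node (.node (.leaf 0x0) (.leaf 0x0)) (.node (.leaf 0x0) (.leaf 0x0)))) (.node (.node (.node (.leaf 0x0) (.leaf 0x0)) (.node (.leaf 0x0) (.leaf 0x0))) (.node (.node (.leaf 0x0) (.leaf 0x0)) (.node (.leaf 0x0) (.leaf 0x0)))))))) (.node (.node (.node (.node (.node (.node (.node (.leaf 0x0) (.leaf 0x0)) (.node (.leaf 0x0) (.leaf 0x0))) (.node (.node (.leaf 0x0) (.leaf 0x0)) (.node (.leaf 0x0) (.leaf 0x0)))) (.node (.node (.node (.leaf 0x0) (.leaf 0x0)) (.node (.leaf 0x0) (.leaf 0x0))) (.node (.node (.leaf 0x0) (.leaf 0x0)) (.node (.leaf 0x0) (.leaf 0x0))))) (.node (.node (.node (.node (.leaf 0x0) (.leaf 0x0)) (.node (.leaf 0x0)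 (.leaf 0x0))) (.node (.node (.leaf 0x0) (.leaf 0x0)) (.node (.leaf 0x0) (.leaf 0x0)))) (.node (.node (.node (.leaf 0x0) (.leaf 0x0)) (.node (.leaf 0x0) (.leaf 0x0))) (.node (.node (.leaf 0x0) (.leaf 0x0)) (.node (.leaf 0x0) (.leaf 0x0)))))) (.node (.node (.node (.node (.node (.leaf 0x0) (.leaf 0x0)) (.node (.leaf 0x0) (.leaf 0x0))) (.node (.node (.leaf 0x0) (.leaf 0x0)) (.node (.leaf 0x0) (.leaf 0x0)))) (.node (.node (.node (.leaf 0x0) (.leaf 0x0)) (.node (.leaf 0x0) (.leaf 0x0))) (.node (.node (.leaf 0x0) (.leaf 0x0)) (.node (.leaf 0x0) (.leaf 0x0))))) (.node (.node (.node (.node (.leaf 0x0) (.leaf 0x0)) (.node (.leaf 0x0) (.leaf 0x0))) (.node (.node (.leaf 0x0) (.leaf 0x0)) (.node (.leaf 0x0) (.leaf 0x0)))) (.node (.node (.node (.leaf 0x0) (.leaf 0x0)) (.node (.leaf 0x0) (.leaf 0x0))) (.node (.node (.leaf 0x0) (.leaf 0x0)) (.node (.leaf 0x0) (.leaf 0x0))))))) (.node (.node (.node (.node (.node (.node (.leaf 0x0) (.leaf 0x0)) (.node (.leaf 0x0) (.leaf 0x0))) (.node (.node (.leaf 0x0) (.leaf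 0x0)) (.node (.leaf 0x0) (.leaf 0x0)))) (.node (.node (.node (.leaf 0x0) (.leaf 0x0)) (.node (.leaf 0x0) (.leaf 0x0))) (.node (.node (.leaf 0x0) (.leaf 0x0)) (.node (.leaf 0x0) (.leaf 0x0))))) (.node (.node (.node (.node (.leaf 0x0) (.leaf 0x0)) (.node (.leaf 0x0) (.leaf 0x0))) (.node (.node (.leaf 0x0) (.leaf 0x0)) (.node (.leaf 0x0) (.leaf 0x0)))) (.node (.node (.node (.leaf 0x0) (.leaf 0x0)) (.node (.leaf 0x0) (.leaf 0x0))) (.node (.node (.leaf 0x0) (.leaf 0x0)) (.node (.leaf 0x0) (.leaf 0x0)))))) (.node (.node (.node (.node (.node (.leaf 0x0) (.leaf 0x0)) (.node (.leaf 0x0) (.leaf 0x0))) (.node (.node (.leaf 0x0) (.leaf 0x0)) (.node (.leaf 0x0) (.leaf 0x0)))) (.node (.node (.node (.leaf 0x0) (.leaf 0x0)) (.node (.leaf 0x0) (.leaf 0x0))) (.node (.node (.leaf 0x0) (.leaf 0x0)) (.node (.leaf 0x0) (.leaf 0x0))))) (.node (.node (.node (.node (.leaf 0x0) (.leaf 0x0)) (.node (.leaf 0x0) (.leaf 0x0))) (.node (.node (.leaf 0x0) (.leaf 0x0)) (.node (.leaf 0x0) (.leaf 0x0)))) (.node (.node (.node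 (.leaf 0x0) (.leaf 0x0)) (.node (.leaf 0x0) (.leaf 0x0))) (.node (.node (.leaf 0x0) (.leaf 0x0)) (.node (.leaf 0x0) (.leaf 0x0)))))))))
/-- prefix -/
def r000000000_pre : List (ℕ × Spec) := [(0, (0, [])), (1, (1, [])), (2, (2, [])), (3, (3, [])), (8, (8, [])), (9, (9, [])), (4, (4, [])), (5, (5, [])), (6, (6, []))]
/-- node -/
noncomputable def r000000000 : Based.Node := ⟨7, [(7, [])], [[7, 6, 5, 4, 3, 8, 2, 3, 4, 1, 2, 3, 8, 5, 6, 4, 5, 3, 4, 2, 3, 8, 7, 6, 5, 4, 3, 2, 1, 2, 3, 4, 5, 6, 7, 8, 3, 2, 4, 3, 5, 4, 6, 5, 8, 3, 2, 1, 4, 3, 2, 8, 3, 4, 5, 6, 7]], 2, r000000000_pts, r000000000_par, r000000000_via, r000000000_pos⟩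

/-- pts -/
noncomputable def r00001_pts : Tr := (.leaf 0x3e80016400562005630020500755007560149400003009dd0198101f42)
/-- par -/
noncomputable def r00001_par : Tr := (.leaf 0x80000600005000040000200002000010000100000000000000000000)
/-- via -/
noncomputable def r00001_via : Tr := (.leaf 0x20000400002000030000400002000030000100004000030000000000)
/-- pos -/
noncomputable def r00001_pos : Tr := (.node (.node (.node (.node (.node (.node (.node (.node (.leaf 0x3000000000000000) (.leaf 0x0)) (.node (.leaf 0x0) (.leaf 0x0))) (.node (.node (.leaf 0x0) (.leaf 0x0)) (.node (.leaf 0x0) (.leaf 0x0)))) (.node (.node (.node (.leaf 0x0) (.leaf 0x0)) (.node (.leaf 0x0) (.leaf 0x0))) (.node (.node (.leaf 0x0) (.leaf 0x0)) (.node (.leaf 0x0) (.leaf 0x0))))) (.node (.node (.node (.node (.leaf 0x0) (.leaf 0x0)) (.node (.leaf 0x0) (.leaf 0x0))) (.node (.node (.leaf 0x0) (.leaf 0x0)) (.node (.leaf 0x0) (.leaf 0x0)))) (.node (.node (.node (.leaf 0x0) (.leaf 0x0)) (.node (.leaf 0x0) (.leaf 0x0))) (.node (.node (.leaf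 0x0) (.leaf 0x0)) (.node (.leaf 0x0) (.leaf 0x0)))))) (.node (.node (.node (.node (.node (.leaf 0x70000000000000000000000000) (.leaf 0x0)) (.node (.leaf 0x0) (.leaf 0x0))) (.node (.node (.leaf 0x0) (.leaf 0x0)) (.node (.leaf 0x0) (.leaf 0x0)))) (.node (.node (.node (.leaf 0x0) (.leaf 0x0)) (.node (.leaf 0x0) (.leaf 0x0))) (.node (.node (.leaf 0x0) (.leaf 0x0)) (.node (.leaf 0x0) (.leaf 0x0))))) (.node (.node (.node (.node (.leaf 0x0) (.leaf 0x0)) (.node (.leaf 0x0) (.leaf 0x0))) (.node (.node (.leaf 0x0) (.leaf 0x0)) (.node (.leaf 0x0) (.leaf 0x0)))) (.node (.node (.node (.leaf 0x0) (.leaf 0x0)) (.node (.leaf 0x0) (.leaf 0x0))) (.node (.node (.leaf 0x0) (.leaf 0x0)) (.node (.leaf 0x0) (.leaf 0x0))))))) (.node (.node (.node (.node (.node (.node (.leaf 0xa00000000000000000000000000000000000000000000000000000000000000000000000000000000000000000000000000000000000000000000000000000000000000000000000000000000000000000000000000000000000000000000000000000000000000000000000000000000000000000000000000000000000000000000000000000000000000000000000000000000000000000000000000000000000000000000000000000000000000000000000000000000000000000000000000000000000000000000000000000000000000000000000000000000000000000000000000000000000000000000000000000000000000000000)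 (.leaf 0x0)) (.node (.leaf 0x0) (.leaf 0x0))) (.node (.node (.leaf 0x0) (.leaf 0x0)) (.node (.leaf 0x0) (.leaf 0x0)))) (.node (.node (.node (.leaf 0x0) (.leaf 0x0)) (.node (.leaf 0x0) (.leaf 0x0))) (.node (.node (.leaf 0x0) (.leaf 0x0)) (.node (.leaf 0x0) (.leaf 0x0))))) (.node (.node (.node (.node (.leaf 0x8000090000000000000000000000000000000000000000000000000000000000000000000000000000000000000000000000000000000000000000000000000000000000000000000000000000000000000000000000000000000000000000000000000000000000000000000000000000000000000000000000000000000000000000000000000000000000000000000000000000000000000000000000000000000000000000000000000000000000000000000000000000000000000000000000000000000000000000000000000000000000000000000000000000000000000000000000000000000000000000000000000000000000) (.leaf 0x0)) (.node (.leaf 0x0) (.leaf 0x0))) (.node (.node (.leaf 0x0) (.leaf 0x0)) (.node (.leaf 0x0) (.leaf 0x0)))) (.node (.node (.node (.leaf 0x0) (.leaf 0x0)) (.node (.leaf 0x0) (.leaf 0x0)))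 (.node (.node (.leaf 0x0) (.leaf 0x0)) (.node (.leaf 0x0) (.leaf 0x0)))))) (.node (.node (.node (.node (.node (.leaf 0x0) (.leaf 0x0)) (.node (.leaf 0x0) (.leaf 0x0))) (.node (.node (.leaf 0x0) (.leaf 0x0)) (.node (.leaf 0x0) (.leaf 0x0)))) (.node (.node (.node (.leaf 0x0) (.leaf 0x0)) (.node (.leaf 0x0) (.leaf 0x0))) (.node (.node (.leaf 0x0) (.leaf 0x0)) (.node (.leaf 0x0) (.leaf 0x0))))) (.node (.node (.node (.node (.leaf 0x50000600000000000000000000000000000000000000000000000000000000000000000000000000000000000000000000000000000000000000000000000000000000000000000000000000000000000000000000000000000000000000000000000000000000000000000000000000000000000000000000000000000000000000000000000000000000000000000000000000000000000000000000000000000000000000000000000000000000000000000000000000000000000000000000000000000000000000000000000000000000000000000) (.leaf 0x0)) (.node (.leaf 0x0) (.leaf 0x0))) (.node (.node (.leaf 0x0) (.leaf 0x0)) (.node (.leaf 0x0) (.leaf 0x0)))) (.node (.node (.node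 (.leaf 0x0) (.leaf 0x0)) (.node (.leaf 0x0) (.leaf 0x0))) (.node (.node (.leaf 0x0) (.leaf 0x0)) (.node (.leaf 0x0) (.leaf 0x0)))))))) (.node (.node (.node (.node (.node (.node (.node (.leaf 0x0) (.leaf 0x0)) (.node (.leaf 0x0) (.leaf 0x0))) (.node (.node (.leaf 0x0) (.leaf 0x0)) (.node (.leaf 0x0) (.leaf 0x0)))) (.node (.node (.node (.leaf 0x0) (.leaf 0x0)) (.node (.leaf 0x0) (.leaf 0x0))) (.node (.node (.leaf 0x0) (.leaf 0x0)) (.node (.leaf 0x0) (.leaf 0x0))))) (.node (.node (.node (.node (.leaf 0x0) (.leaf 0x0)) (.node (.leaf 0x0) (.leaf 0x0))) (.node (.node (.leaf 0x40000000000000000000000000000000000000000000000000000000000000000000000000000000000000000000000000000) (.leaf 0x0)) (.node (.leaf 0x0) (.leaf 0x0)))) (.node (.node (.node (.leaf 0x0) (.leaf 0x0)) (.node (.leaf 0x0) (.leaf 0x0))) (.node (.node (.leaf 0x0) (.leaf 0x0)) (.node (.leaf 0x0) (.leaf 0x0)))))) (.node (.node (.node (.node (.node (.leaf 0x0) (.leaf 0x0)) (.node (.leaf 0x0) (.leaf 0x0))) (.node (.node (.leaf 0x0) (.leaf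 0x0)) (.node (.leaf 0x0) (.leaf 0x0)))) (.node (.node (.node (.leaf 0x0) (.leaf 0x0)) (.node (.leaf 0x0) (.leaf 0x0))) (.node (.node (.leaf 0x0) (.leaf 0x0)) (.node (.leaf 0x0) (.leaf 0x0))))) (.node (.node (.node (.node (.leaf 0x0) (.leaf 0x0)) (.node (.leaf 0x0) (.leaf 0x0))) (.node (.node (.leaf 0x0) (.leaf 0x0)) (.node (.leaf 0x0) (.leaf 0x0)))) (.node (.node (.node (.leaf 0x0) (.leaf 0x0)) (.node (.leaf 0x0) (.leaf 0x0))) (.node (.node (.leaf 0x0) (.leaf 0x0)) (.node (.leaf 0x0) (.leaf 0x0))))))) (.node (.node (.node (.node (.node (.node (.leaf 0x0) (.leaf 0x0)) (.node (.leaf 0x0) (.leaf 0x0))) (.node (.node (.leaf 0x0) (.leaf 0x0)) (.node (.leaf 0x0) (.leaf 0x0)))) (.node (.node (.node (.leaf 0x2000000000000000000000000000000000000000000000000000000000000000000000000000000000000000000000000000000000000000000000000000000000000000000000000000000000000000000000000000000000000000000000000000000000000000000000000000000000000000000000000000000000000000000000000000000000000000000000000000000000000000000000000000000000000000000000000000000000000000000000000000000000000000000000000000000000000000000000000000000000000000000000000000000000000000000000000000000000)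 (.leaf 0x0)) (.node (.leaf 0x0) (.leaf 0x0))) (.node (.node (.leaf 0x100000) (.leaf 0x0)) (.node (.leaf 0x0) (.leaf 0x0))))) (.node (.node (.node (.node (.leaf 0x0) (.leaf 0x0)) (.node (.leaf 0x0) (.leaf 0x0))) (.node (.node (.leaf 0x0) (.leaf 0x0)) (.node (.leaf 0x0) (.leaf 0x0)))) (.node (.node (.node (.leaf 0x0) (.leaf 0x0)) (.node (.leaf 0x0) (.leaf 0x0))) (.node (.node (.leaf 0x0) (.leaf 0x0)) (.node (.leaf 0x0) (.leaf 0x0)))))) (.node (.node (.node (.node (.node (.leaf 0xb0000000000000000000000000000000000000000000000000000000000000000000000000000000000000000000000000000000000000000000000000000000000000000000000000000000000000000000000000000000000000000000000000000000000000000000000000000000000000000000000000000000000000000000000000000000000000000000000000000000000000000000000000000000000000000000000000000000000000000000000000000000000000000000000000000000000000000000000000000000000000000000000000000000000000000000000000000000000000000000000000000000000000000000000000000000000000000)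 (.leaf 0x0)) (.node (.leaf 0x0) (.leaf 0x0))) (.node (.node (.leaf 0x0) (.leaf 0x0)) (.node (.leaf 0x0) (.leaf 0x0)))) (.node (.node (.node (.leaf 0x0) (.leaf 0x0)) (.node (.leaf 0x0) (.leaf 0x0))) (.node (.node (.leaf 0x0) (.leaf 0x0)) (.node (.leaf 0x0) (.leaf 0x0))))) (.node (.node (.node (.node (.leaf 0x0) (.leaf 0x0)) (.node (.leaf 0x0) (.leaf 0x0))) (.node (.node (.leaf 0x0) (.leaf 0x0)) (.node (.leaf 0x0) (.leaf 0x0)))) (.node (.node (.node (.leaf 0x0) (.leaf 0x0)) (.node (.leaf 0x0) (.leaf 0x0))) (.node (.node (.leaf 0x0) (.leaf 0x0)) (.node (.leaf 0x0) (.leaf 0x0)))))))))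
/-- prefix -/
def r00001_pre : List (ℕ × Spec) := [(0, (0, [])), (1, (1, [])), (2, (2, [])), (3, (3, [])), (8, (4, []))]
/-- node -/
noncomputable def r00001 : Based.Node := ⟨9, [(5, [])], [[6], [7], [9], [8, 3, 4, 2, 3, 8, 9, 1, 2, 3, 8, 4, 3, 2, 1, 0, 1, 2, 3, 4, 8, 3, 2, 1, 9, 8, 3, 2, 4, 3, 8], [5, 4, 3, 8, 2, 3, 4, 1, 2, 3, 8, 5, 6, 4, 5, 3, 4, 2, 3, 8, 7, 6, 5, 4, 3, 2, 1, 2, 3, 4, 5, 6, 7, 8, 3, 2, 4, 3, 5, 4, 6, 5, 8, 3, 2, 1, 4, 3, 2, 8, 3, 4, 5]], 12, r00001_pts, r00001_par, r00001_via, r00001_pos⟩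

/-- pts -/
noncomputable def r000010_pts : Tr := (.leaf 0x1f6002d9002cc003fd0015a003fa001ff019890057b002d601f3f)
/-- par -/
noncomputable def r000010_par : Tr := (.leaf 0x500004000020000200001000010000100000000000000000000)
/-- via -/
noncomputable def r000010_via : Tr := (.leaf 0x200001000020000000002000010000000001000000000000000)
/-- pos -/
noncomputable def r000010_pos : Tr := (.node (.node (.node (.node (.node (.node (.node (.node (.leaf 0x0) (.leaf 0x0)) (.node (.leaf 0x0) (.leaf 0x0))) (.node (.node (.leaf 0x0) (.leaf 0x0)) (.node (.leaf 0x0) (.leaf 0x0)))) (.node (.node (.node (.leaf 0x0) (.leaf 0x0)) (.node (.leaf 0x0) (.leaf 0x0))) (.node (.node (.leaf 0x0) (.leaf 0x0)) (.node (.leaf 0x0) (.leaf 0x0))))) (.node (.node (.node (.node (.leaf 0x0) (.leaf 0x0)) (.node (.leaf 0x0) (.leaf 0x0))) (.node (.node (.leaf 0x0) (.leaf 0x0)) (.node (.leaf 0x0) (.leaf 0x0)))) (.node (.node (.node (.leaf 0x0) (.leaf 0x0)) (.node (.leaf 0x0) (.leaf 0x0))) (.node (.node (.leaf 0x0) (.leaf 0x0)) (.node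 (.leaf 0x0) (.leaf 0x0)))))) (.node (.node (.node (.node (.node (.leaf 0x0) (.leaf 0x0)) (.node (.leaf 0x0) (.leaf 0x0))) (.node (.node (.leaf 0x0) (.leaf 0x0)) (.node (.leaf 0x0) (.leaf 0x0)))) (.node (.node (.node (.leaf 0x0) (.leaf 0x0)) (.node (.leaf 0x0) (.leaf 0x0))) (.node (.node (.leaf 0x0) (.leaf 0x0)) (.node (.leaf 0x0) (.leaf 0x0))))) (.node (.node (.node (.node (.leaf 0x0) (.leaf 0x0)) (.node (.leaf 0x0) (.leaf 0x0))) (.node (.node (.leaf 0x0) (.leaf 0x0)) (.node (.leaf 0x0) (.leaf 0x0)))) (.node (.node (.node (.leaf 0x0) (.leaf 0x0)) (.node (.leaf 0x0) (.leaf 0x0))) (.node (.node (.leaf 0x0) (.leaf 0x0)) (.node (.leaf 0x0) (.leaf 0x0))))))) (.node (.node (.node (.node (.node (.node (.leaf 0x6000000000000000000000000000000000000000000000000000000000000000000000000000000000000000000000000000000000000000000000000000000000000000000000000000000000000000000000000000000000000000000000000000000000000000000000000000000000000000000000000000000000000000000000000000000000000000000000000000000000000000000000000000000000000000000000000000000000000000000000000000000000000000000000000000000000000000000000000000000000000000000000000000000000000000000)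 (.leaf 0x0)) (.node (.leaf 0x0) (.leaf 0x0))) (.node (.node (.leaf 0x0) (.leaf 0x0)) (.node (.leaf 0x0) (.leaf 0x0)))) (.node (.node (.node (.leaf 0x0) (.leaf 0x0)) (.node (.leaf 0x0) (.leaf 0x0))) (.node (.node (.leaf 0x0) (.leaf 0x0)) (.node (.leaf 0x0) (.leaf 0x0))))) (.node (.node (.node (.node (.leaf 0x2000000000000000000000000000000000000000000000000000000000000000000000000000000000000000000000000000000000000000000000000000000000000000000000000000000000000000000000000000000000000000000000000000000000000000000000000000000000000000000000000000000000000000000000000000000000000000000000000000000000000000000000000000000000000000000000000000000000000000000000000000000000000000000000000000000000000000000000000000000000000000000000000000000000000000000000000000000000000000000000000000000000000000000000000000000000000000000000000000000000000000000000000000000000000000000000000000000000000000000000000000000000000000) (.leaf 0x0)) (.node (.leaf 0x0) (.leaf 0x0))) (.node (.node (.leaf 0x0) (.leaf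 0x0)) (.node (.leaf 0x0) (.leaf 0x0)))) (.node (.node (.node (.leaf 0x0) (.leaf 0x0)) (.node (.leaf 0x0) (.leaf 0x0))) (.node (.node (.leaf 0x0) (.leaf 0x0)) (.node (.leaf 0x0) (.leaf 0x0)))))) (.node (.node (.node (.node (.node (.leaf 0x0) (.leaf 0x0)) (.node (.leaf 0x0) (.leaf 0x0))) (.node (.node (.leaf 0x0) (.leaf 0x0)) (.node (.leaf 0x0) (.leaf 0x0)))) (.node (.node (.node (.leaf 0x0) (.leaf 0x0)) (.node (.leaf 0x0) (.leaf 0x0))) (.node (.node (.leaf 0x0) (.leaf 0x0)) (.node (.leaf 0x0) (.leaf 0x0))))) (.node (.node (.node (.node (.leaf 0x0) (.leaf 0x0)) (.node (.leaf 0x0) (.leaf 0x0))) (.node (.node (.leaf 0x0) (.leaf 0x0)) (.node (.leaf 0x0) (.leaf 0x0)))) (.node (.node (.node (.leaf 0x0) (.leaf 0x0)) (.node (.leaf 0x0) (.leaf 0x0))) (.node (.node (.leaf 0x0) (.leaf 0x0)) (.node (.leaf 0x0) (.leaf 0x0)))))))) (.node (.node (.node (.node (.node (.node (.node (.leaf 0x0) (.leaf 0x0)) (.node (.leaf 0x0) (.leaf 0x0))) (.node (.node (.leaf 0x0) (.leaf 0x0)) (.node (.leaf 0x0) (.leaf 0x0))))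 (.node (.node (.node (.leaf 0x0) (.leaf 0x0)) (.node (.leaf 0x0) (.leaf 0x0))) (.node (.node (.leaf 0x0) (.leaf 0x0)) (.node (.leaf 0x0) (.leaf 0x0))))) (.node (.node (.node (.node (.leaf 0x0) (.leaf 0x0)) (.node (.leaf 0x0) (.leaf 0x0))) (.node (.node (.leaf 0x0) (.leaf 0x0)) (.node (.leaf 0x0) (.leaf 0x0)))) (.node (.node (.node (.leaf 0x0) (.leaf 0x0)) (.node (.leaf 0x0) (.leaf 0x0))) (.node (.node (.leaf 0x0) (.leaf 0x0)) (.node (.leaf 0x0) (.leaf 0x0)))))) (.node (.node (.node (.node (.node (.leaf 0x90000000000000010000000000000000000000000000000000000000000000000800000000000000000000000000000000000000000000000000000000000000000000000000000000000000000000000000000000000000000000000000000000000000000000000000000000000000000000000000000000000000000000000000000000000000000000000000000000000000000000000000000000000000000000000000000000000000000000000000000000000000000000000000000000000000000000000000000000000000000000000000000000000000000000) (.leaf 0x0)) (.node (.leaf 0x0) (.leaf 0x0)))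 (.node (.node (.leaf 0x0) (.leaf 0x0)) (.node (.leaf 0x0) (.leaf 0x0)))) (.node (.node (.node (.leaf 0x0) (.leaf 0x0)) (.node (.leaf 0x0) (.leaf 0x0))) (.node (.node (.leaf 0x0) (.leaf 0x0)) (.node (.leaf 0x0) (.leaf 0x0))))) (.node (.node (.node (.node (.leaf 0x0) (.leaf 0x0)) (.node (.leaf 0x0) (.leaf 0x0))) (.node (.node (.leaf 0x0) (.leaf 0x0)) (.node (.leaf 0x0) (.leaf 0x0)))) (.node (.node (.node (.leaf 0x0) (.leaf 0x0)) (.node (.leaf 0x0) (.leaf 0x0))) (.node (.node (.leaf 0x0) (.leaf 0x0)) (.node (.leaf 0x0) (.leaf 0x0))))))) (.node (.node (.node (.node (.node (.node (.leaf 0x400000000000000000000000000000000000000000000a00000000000000000000000000000000000000000000000000000000000000000000000000000000000000000000000000000000000000000000000000000000000000000000000000000000000000000000000000000000000000000000000000000000000000000000000000000000000000000000000000000000000000000000000000000000000000000000000000000000000000000000000000000000000000000000000000000000000000000000000000000000000000000000000000000000000000000000000000000000000000000000000000000000000000000000000000000000000000000000000000000000000000000000000000000000000000000000000000000000000000000000000000000000000000000000000000000000000000)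 (.leaf 0x0)) (.node (.leaf 0x0) (.leaf 0x0))) (.node (.node (.leaf 0x0) (.leaf 0x0)) (.node (.leaf 0x0) (.leaf 0x0)))) (.node (.node (.node (.leaf 0x0) (.leaf 0x0)) (.node (.leaf 0x0) (.leaf 0x0))) (.node (.node (.leaf 0x3000000000000000000000000000000000000000000000) (.leaf 0x0)) (.node (.leaf 0x0) (.leaf 0x0))))) (.node (.node (.node (.node (.leaf 0x0) (.leaf 0x0)) (.node (.leaf 0x0) (.leaf 0x0))) (.node (.node (.leaf 0x0) (.leaf 0x0)) (.node (.leaf 0x0) (.leaf 0x0)))) (.node (.node (.node (.leaf 0x0) (.leaf 0x0)) (.node (.leaf 0x0) (.leaf 0x0))) (.node (.node (.leaf 0x0) (.leaf 0x0)) (.node (.leaf 0x0) (.leaf 0x0)))))) (.node (.node (.node (.node (.node (.leaf 0x70000000000000050000000000000000000000000000000000000000000000000000000000000000000000000000000000000000000000000000000000000000000000000000000000000000000000000000000000000000000000000000000000000000000000000000000000000000000000000000000000000000000000000000000000000000000000000000000000000000000000000000000000000000000000000000000000000000000000000000000000000000000000000000000000000000000000000000000000000000000000000000000000000000000000000000000000000000000000000000000000000000000000000000000000000000000000000000000000000000000000000000000000000000000000000000000000000000000000000000000000000000000000000000000000)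 (.leaf 0x0)) (.node (.leaf 0x0) (.leaf 0x0))) (.node (.node (.leaf 0x0) (.leaf 0x0)) (.node (.leaf 0x0) (.leaf 0x0)))) (.node (.node (.node (.leaf 0x0) (.leaf 0x0)) (.node (.leaf 0x0) (.leaf 0x0))) (.node (.node (.leaf 0x0) (.leaf 0x0)) (.node (.leaf 0x0) (.leaf 0x0))))) (.node (.node (.node (.node (.leaf 0x0) (.leaf 0x0)) (.node (.leaf 0x0) (.leaf 0x0))) (.node (.node (.leaf 0x0) (.leaf 0x0)) (.node (.leaf 0x0) (.leaf 0x0)))) (.node (.node (.node (.leaf 0x0) (.leaf 0x0)) (.node (.leaf 0x0) (.leaf 0x0))) (.node (.node (.leaf 0x0) (.leaf 0x0)) (.node (.leaf 0x0) (.leaf 0x0)))))))))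
/-- prefix -/
def r000010_pre : List (ℕ × Spec) := [(0, (0, [])), (1, (1, [])), (2, (2, [])), (3, (3, [])), (8, (4, [])), (9, (5, []))]
/-- node -/
noncomputable def r000010 : Based.Node := ⟨4, [(8, []), (0, [1, 2, 3, 4, 5, 6, 8, 3, 2, 1, 4, 3, 2, 5, 4, 3]), (0, [1, 2, 3, 4, 5, 6, 8, 3, 2, 1, 4, 3, 2, 5, 4, 3, 9, 8])], [[7], [9], [6, 5, 4, 3, 8, 2, 3, 4, 1, 2, 3, 8, 5, 6, 4, 5, 3, 4, 2, 3, 8, 7, 6, 5, 4, 3, 2, 1, 2, 3, 4, 5, 6, 7, 8, 3, 2, 4, 3, 5, 4, 6, 5, 8, 3, 2, 1, 4, 3, 2, 8, 3, 4, 5, 6]], 11, r000010_pts, r000010_par, r000010_via, r000010_pos⟩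

/-- pts -/
noncomputable def r0000100_pts : Tr := (.leaf 0x1f47)
/-- par -/
noncomputable def r0000100_par : Tr := (.leaf 0x0)
/-- via -/
noncomputable def r0000100_via : Tr := (.leaf 0x0)
/-- pos -/
noncomputable def r0000100_pos : Tr := (.node (.node (.node (.node (.node (.node (.node (.node (.leaf 0x0) (.leaf 0x0)) (.node (.leaf 0x0) (.leaf 0x0))) (.node (.node (.leaf 0x0) (.leaf 0x0)) (.node (.leaf 0x0) (.leaf 0x0)))) (.node (.node (.node (.leaf 0x0) (.leaf 0x0)) (.node (.leaf 0x0) (.leaf 0x0))) (.node (.node (.leaf 0x0) (.leaf 0x0)) (.node (.leaf 0x0) (.leaf 0x0))))) (.node (.node (.node (.node (.leaf 0x0) (.leaf 0x0)) (.node (.leaf 0x0) (.leaf 0x0))) (.node (.node (.leaf 0x0) (.leaf 0x0)) (.node (.leaf 0x0) (.leaf 0x0)))) (.node (.node (.node (.leaf 0x0) (.leaf 0x0)) (.node (.leaf 0x0) (.leaf 0x0))) (.node (.node (.leaf 0x0) (.leaf 0x0)) (.node (.leaf 0x0) (.leaf 0x0)))))) (.node (.node (.node (.node (.node (.leaf 0x0) (.leaf 0x0)) (.node (.leaf 0x0) (.leaf 0x0))) (.node (.node (.leaf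 0x0) (.leaf 0x0)) (.node (.leaf 0x0) (.leaf 0x0)))) (.node (.node (.node (.leaf 0x0) (.leaf 0x0)) (.node (.leaf 0x0) (.leaf 0x0))) (.node (.node (.leaf 0x0) (.leaf 0x0)) (.node (.leaf 0x0) (.leaf 0x0))))) (.node (.node (.node (.node (.leaf 0x0) (.leaf 0x0)) (.node (.leaf 0x0) (.leaf 0x0))) (.node (.node (.leaf 0x0) (.leaf 0x0)) (.node (.leaf 0x0) (.leaf 0x0)))) (.node (.node (.node (.leaf 0x0) (.leaf 0x0)) (.node (.leaf 0x0) (.leaf 0x0))) (.node (.node (.leaf 0x0) (.leaf 0x0)) (.node (.leaf 0x0) (.leaf 0x0))))))) (.node (.node (.node (.node (.node (.node (.leaf 0x0) (.leaf 0x0)) (.node (.leaf 0x0) (.leaf 0x0))) (.node (.node (.leaf 0x0) (.leaf 0x0)) (.node (.leaf 0x0) (.leaf 0x0)))) (.node (.node (.node (.leaf 0x0) (.leaf 0x0)) (.node (.leaf 0x0) (.leaf 0x0))) (.node (.node (.leaf 0x0) (.leaf 0x0)) (.node (.leaf 0x0) (.leaf 0x0))))) (.node (.node (.node (.node (.leaf 0x0) (.leaf 0x0)) (.node (.leaf 0x0) (.leaf 0x0))) (.node (.node (.leaf 0x0) (.leaf 0x0)) (.node (.leaf 0x0) (.leaf 0x0))))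 (.node (.node (.node (.leaf 0x0) (.leaf 0x0)) (.node (.leaf 0x0) (.leaf 0x0))) (.node (.node (.leaf 0x0) (.leaf 0x0)) (.node (.leaf 0x0) (.leaf 0x0)))))) (.node (.node (.node (.node (.node (.leaf 0x0) (.leaf 0x0)) (.node (.leaf 0x0) (.leaf 0x0))) (.node (.node (.leaf 0x0) (.leaf 0x0)) (.node (.leaf 0x0) (.leaf 0x0)))) (.node (.node (.node (.leaf 0x0) (.leaf 0x0)) (.node (.leaf 0x0) (.leaf 0x0))) (.node (.node (.leaf 0x0) (.leaf 0x0)) (.node (.leaf 0x0) (.leaf 0x0))))) (.node (.node (.node (.node (.leaf 0x0) (.leaf 0x0)) (.node (.leaf 0x0) (.leaf 0x0))) (.node (.node (.leaf 0x0) (.leaf 0x0)) (.node (.leaf 0x0) (.leaf 0x0)))) (.node (.node (.node (.leaf 0x0) (.leaf 0x0)) (.node (.leaf 0x0) (.leaf 0x0))) (.node (.node (.leaf 0x0) (.leaf 0x0)) (.node (.leaf 0x0) (.leaf 0x0)))))))) (.node (.node (.node (.node (.node (.node (.node (.leaf 0x0) (.leaf 0x0)) (.node (.leaf 0x0) (.leaf 0x0))) (.node (.node (.leaf 0x0) (.leaf 0x0)) (.node (.leaf 0x0) (.leaf 0x0)))) (.node (.node (.node (.leaf 0x0) (.leaf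 0x0)) (.node (.leaf 0x0) (.leaf 0x0))) (.node (.node (.leaf 0x0) (.leaf 0x0)) (.node (.leaf 0x0) (.leaf 0x0))))) (.node (.node (.node (.node (.leaf 0x0) (.leaf 0x0)) (.node (.leaf 0x0) (.leaf 0x0))) (.node (.node (.leaf 0x0) (.leaf 0x0)) (.node (.leaf 0x0) (.leaf 0x0)))) (.node (.node (.node (.leaf 0x0) (.leaf 0x0)) (.node (.leaf 0x0) (.leaf 0x0))) (.node (.node (.leaf 0x0) (.leaf 0x0)) (.node (.leaf 0x0) (.leaf 0x0)))))) (.node (.node (.node (.node (.node (.leaf 0x0) (.leaf 0x0)) (.node (.leaf 0x0) (.leaf 0x0))) (.node (.node (.leaf 0x0) (.leaf 0x0)) (.node (.leaf 0x0) (.leaf 0x0)))) (.node (.node (.node (.leaf 0x0) (.leaf 0x0)) (.node (.leaf 0x0) (.leaf 0x0))) (.node (.node (.leaf 0x0) (.leaf 0x0)) (.node (.leaf 0x0) (.leaf 0x0))))) (.node (.node (.node (.node (.leaf 0x0) (.leaf 0x0)) (.node (.leaf 0x0) (.leaf 0x0))) (.node (.node (.leaf 0x0) (.leaf 0x0)) (.node (.leaf 0x0) (.leaf 0x0)))) (.node (.node (.node (.leaf 0x0) (.leaf 0x0)) (.node (.leaf 0x0) (.leaf 0x0))) (.node (.node (.leaf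 0x0) (.leaf 0x0)) (.node (.leaf 0x0) (.leaf 0x0))))))) (.node (.node (.node (.node (.node (.node (.leaf 0x0) (.leaf 0x0)) (.node (.leaf 0x0) (.leaf 0x0))) (.node (.node (.leaf 0x0) (.leaf 0x0)) (.node (.leaf 0x0) (.leaf 0x0)))) (.node (.node (.node (.leaf 0x0) (.leaf 0x0)) (.node (.leaf 0x0) (.leaf 0x0))) (.node (.node (.leaf 0x0) (.leaf 0x0)) (.node (.leaf 0x0) (.leaf 0x0))))) (.node (.node (.node (.node (.leaf 0x0) (.leaf 0x0)) (.node (.leaf 0x0) (.leaf 0x0))) (.node (.node (.leaf 0x0) (.leaf 0x0)) (.node (.leaf 0x0) (.leaf 0x0)))) (.node (.node (.node (.leaf 0x0) (.leaf 0x0)) (.node (.leaf 0x0) (.leaf 0x0))) (.node (.node (.leaf 0x0) (.leaf 0x0)) (.node (.leaf 0x0) (.leaf 0x0)))))) (.node (.node (.node (.node (.node (.leaf 0x0) (.leaf 0x0)) (.node (.leaf 0x0) (.leaf 0x0))) (.node (.node (.leaf 0x0) (.leaf 0x0)) (.node (.leaf 0x0) (.leaf 0x0)))) (.node (.node (.node (.leaf 0x0) (.leaf 0x0)) (.node (.leaf 0x0) (.leaf 0x0))) (.node (.node (.leaf 0x0) (.leaf 0x0)) (.node (.leaf 0x0) (.leaf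 0x0))))) (.node (.node (.node (.node (.leaf 0x0) (.leaf 0x0)) (.node (.leaf 0x0) (.leaf 0x0))) (.node (.node (.leaf 0x0) (.leaf 0x0)) (.node (.leaf 0x0) (.leaf 0x0)))) (.node (.node (.node (.leaf 0x0) (.leaf 0x0)) (.node (.leaf 0x0) (.leaf 0x0))) (.node (.node (.leaf 0x0) (.leaf 0x0)) (.node (.leaf 0x0) (.leaf 0x0)))))))))
/-- prefix -/
def r0000100_pre : List (ℕ × Spec) := [(0, (0, [])), (1, (1, [])), (2, (2, [])), (3, (3, [])), (8, (4, [])), (9, (5, [])), (4, (8, []))]
/-- node -/
noncomputable def r0000100 : Based.Node := ⟨5, [(9, [])], [], 1, r0000100_pts, r0000100_par, r0000100_via, r0000100_pos⟩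

/-- pts -/
noncomputable def r00001000_pts : Tr := (.leaf 0x0)
/-- par -/
noncomputable def r00001000_par : Tr := (.leaf 0x0)
/-- via -/
noncomputable def r00001000_via : Tr := (.leaf 0x0)
/-- pos -/
noncomputable def r00001000_pos : Tr := (.node (.node (.node (.node (.node (.node (.node (.node (.leaf 0x0) (.leaf 0x0)) (.node (.leaf 0x0) (.leaf 0x0))) (.node (.node (.leaf 0x0) (.leaf 0x0)) (.node (.leaf 0x0) (.leaf 0x0)))) (.node (.node (.node (.leaf 0x0) (.leaf 0x0)) (.node (.leaf 0x0) (.leaf 0x0))) (.node (.node (.leaf 0x0) (.leaf 0x0)) (.node (.leaf 0x0) (.leaf 0x0))))) (.node (.node (.node (.node (.leaf 0x0) (.leaf 0x0)) (.node (.leaf 0x0) (.leaf 0x0))) (.node (.node (.leaf 0x0) (.leaf 0x0)) (.node (.leaf 0x0) (.leaf 0x0)))) (.node (.node (.node (.leaf 0x0) (.leaf 0x0)) (.node (.leaf 0x0) (.leaf 0x0))) (.node (.node (.leaf 0x0) (.leaf 0x0)) (.node (.leaf 0x0) (.leaf 0x0)))))) (.node (.node (.node (.node (.node (.leaf 0x0) (.leaf 0x0)) (.node (.leaf 0x0) (.leaf 0x0))) (.node (.node (.leaf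 0x0) (.leaf 0x0)) (.node (.leaf 0x0) (.leaf 0x0)))) (.node (.node (.node (.leaf 0x0) (.leaf 0x0)) (.node (.leaf 0x0) (.leaf 0x0))) (.node (.node (.leaf 0x0) (.leaf 0x0)) (.node (.leaf 0x0) (.leaf 0x0))))) (.node (.node (.node (.node (.leaf 0x0) (.leaf 0x0)) (.node (.leaf 0x0) (.leaf 0x0))) (.node (.node (.leaf 0x0) (.leaf 0x0)) (.node (.leaf 0x0) (.leaf 0x0)))) (.node (.node (.node (.leaf 0x0) (.leaf 0x0)) (.node (.leaf 0x0) (.leaf 0x0))) (.node (.node (.leaf 0x0) (.leaf 0x0)) (.node (.leaf 0x0) (.leaf 0x0))))))) (.node (.node (.node (.node (.node (.node (.leaf 0x0) (.leaf 0x0)) (.node (.leaf 0x0) (.leaf 0x0))) (.node (.node (.leaf 0x0) (.leaf 0x0)) (.node (.leaf 0x0) (.leaf 0x0)))) (.node (.node (.node (.leaf 0x0) (.leaf 0x0)) (.node (.leaf 0x0) (.leaf 0x0))) (.node (.node (.leaf 0x0) (.leaf 0x0)) (.node (.leaf 0x0) (.leaf 0x0))))) (.node (.node (.node (.node (.leaf 0x0) (.leaf 0x0)) (.node (.leaf 0x0) (.leaf 0x0))) (.node (.node (.leaf 0x0) (.leaf 0x0)) (.node (.leaf 0x0) (.leaf 0x0))))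 (.node (.node (.node (.leaf 0x0) (.leaf 0x0)) (.node (.leaf 0x0) (.leaf 0x0))) (.node (.node (.leaf 0x0) (.leaf 0x0)) (.node (.leaf 0x0) (.leaf 0x0)))))) (.node (.node (.node (.node (.node (.leaf 0x0) (.leaf 0x0)) (.node (.leaf 0x0) (.leaf 0x0))) (.node (.node (.leaf 0x0) (.leaf 0x0)) (.node (.leaf 0x0) (.leaf 0x0)))) (.node (.node (.node (.leaf 0x0) (.leaf 0x0)) (.node (.leaf 0x0) (.leaf 0x0))) (.node (.node (.leaf 0x0) (.leaf 0x0)) (.node (.leaf 0x0) (.leaf 0x0))))) (.node (.node (.node (.node (.leaf 0x0) (.leaf 0x0)) (.node (.leaf 0x0) (.leaf 0x0))) (.node (.node (.leaf 0x0) (.leaf 0x0)) (.node (.leaf 0x0) (.leaf 0x0)))) (.node (.node (.node (.leaf 0x0) (.leaf 0x0)) (.node (.leaf 0x0) (.leaf 0x0))) (.node (.node (.leaf 0x0) (.leaf 0x0)) (.node (.leaf 0x0) (.leaf 0x0)))))))) (.node (.node (.node (.node (.node (.node (.node (.leaf 0x0) (.leaf 0x0)) (.node (.leaf 0x0) (.leaf 0x0))) (.node (.node (.leaf 0x0) (.leaf 0x0)) (.node (.leaf 0x0) (.leaf 0x0)))) (.node (.node (.node (.leaf 0x0) (.leaf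 0x0)) (.node (.leaf 0x0) (.leaf 0x0))) (.node (.node (.leaf 0x0) (.leaf 0x0)) (.node (.leaf 0x0) (.leaf 0x0))))) (.node (.node (.node (.node (.leaf 0x0) (.leaf 0x0)) (.node (.leaf 0x0) (.leaf 0x0))) (.node (.node (.leaf 0x0) (.leaf 0x0)) (.node (.leaf 0x0) (.leaf 0x0)))) (.node (.node (.node (.leaf 0x0) (.leaf 0x0)) (.node (.leaf 0x0) (.leaf 0x0))) (.node (.node (.leaf 0x0) (.leaf 0x0)) (.node (.leaf 0x0) (.leaf 0x0)))))) (.node (.node (.node (.node (.node (.leaf 0x0) (.leaf 0x0)) (.node (.leaf 0x0) (.leaf 0x0))) (.node (.node (.leaf 0x0) (.leaf 0x0)) (.node (.leaf 0x0) (.leaf 0x0)))) (.node (.node (.node (.leaf 0x0) (.leaf 0x0)) (.node (.leaf 0x0) (.leaf 0x0))) (.node (.node (.leaf 0x0) (.leaf 0x0)) (.node (.leaf 0x0) (.leaf 0x0))))) (.node (.node (.node (.node (.leaf 0x0) (.leaf 0x0)) (.node (.leaf 0x0) (.leaf 0x0))) (.node (.node (.leaf 0x0) (.leaf 0x0)) (.node (.leaf 0x0) (.leaf 0x0)))) (.node (.node (.node (.leaf 0x0) (.leaf 0x0)) (.node (.leaf 0x0) (.leaf 0x0))) (.node (.node (.leaf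 0x0) (.leaf 0x0)) (.node (.leaf 0x0) (.leaf 0x0))))))) (.node (.node (.node (.node (.node (.node (.leaf 0x0) (.leaf 0x0)) (.node (.leaf 0x0) (.leaf 0x0))) (.node (.node (.leaf 0x0) (.leaf 0x0)) (.node (.leaf 0x0) (.leaf 0x0)))) (.node (.node (.node (.leaf 0x0) (.leaf 0x0)) (.node (.leaf 0x0) (.leaf 0x0))) (.node (.node (.leaf 0x0) (.leaf 0x0)) (.node (.leaf 0x0) (.leaf 0x0))))) (.node (.node (.node (.node (.leaf 0x0) (.leaf 0x0)) (.node (.leaf 0x0) (.leaf 0x0))) (.node (.node (.leaf 0x0) (.leaf 0x0)) (.node (.leaf 0x0) (.leaf 0x0)))) (.node (.node (.node (.leaf 0x0) (.leaf 0x0)) (.node (.leaf 0x0) (.leaf 0x0))) (.node (.node (.leaf 0x0) (.leaf 0x0)) (.node (.leaf 0x0) (.leaf 0x0)))))) (.node (.node (.node (.node (.node (.leaf 0x0) (.leaf 0x0)) (.node (.leaf 0x0) (.leaf 0x0))) (.node (.node (.leaf 0x0) (.leaf 0x0)) (.node (.leaf 0x0) (.leaf 0x0)))) (.node (.node (.node (.leaf 0x0) (.leaf 0x0)) (.node (.leaf 0x0) (.leaf 0x0))) (.node (.node (.leaf 0x0) (.leaf 0x0)) (.node (.leaf 0x0) (.leaf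 0x0))))) (.node (.node (.node (.node (.leaf 0x0) (.leaf 0x0)) (.node (.leaf 0x0) (.leaf 0x0))) (.node (.node (.leaf 0x0) (.leaf 0x0)) (.node (.leaf 0x0) (.leaf 0x0)))) (.node (.node (.node (.leaf 0x0) (.leaf 0x0)) (.node (.leaf 0x0) (.leaf 0x0))) (.node (.node (.leaf 0x0) (.leaf 0x0)) (.node (.leaf 0x0) (.leaf 0x0)))))))))
/-- prefix -/
def r00001000_pre : List (ℕ × Spec) := [(0, (0, [])), (1, (1, [])), (2, (2, [])), (3, (3, [])), (8, (4, [])), (9, (5, [])), (4, (8, [])), (5, (9, []))]
/-- node -/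
noncomputable def r00001000 : Based.Node := ⟨6, [], [], 0, r00001000_pts, r00001000_par, r00001000_via, r00001000_pos⟩

/-- pts -/
noncomputable def r0000101_pts : Tr := (.leaf 0x101f4701f46)
/-- par -/
noncomputable def r0000101_par : Tr := (.leaf 0x0)
/-- via -/
noncomputable def r0000101_via : Tr := (.leaf 0x0)
/-- pos -/
noncomputable def r0000101_pos : Tr := (.node (.node (.node (.node (.node (.node (.node (.node (.leaf 0x200000) (.leaf 0x0)) (.node (.leaf 0x0) (.leaf 0x0))) (.node (.node (.leaf 0x0) (.leaf 0x0)) (.node (.leaf 0x0) (.leaf 0x0)))) (.node (.node (.node (.leaf 0x0) (.leaf 0x0)) (.node (.leaf 0x0) (.leaf 0x0))) (.node (.node (.leaf 0x0) (.leaf 0x0)) (.node (.leaf 0x0) (.leaf 0x0))))) (.node (.node (.node (.node (.leaf 0x0) (.leaf 0x0)) (.node (.leaf 0x0) (.leaf 0x0))) (.node (.node (.leaf 0x0) (.leaf 0x0)) (.node (.leaf 0x0) (.leaf 0x0)))) (.node (.node (.node (.leaf 0x0) (.leaf 0x0)) (.node (.leaf 0x0) (.leaf 0x0))) (.node (.node (.leaf 0x0) (.leaf 0x0)) (.node (.leaf 0x0)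 (.leaf 0x0)))))) (.node (.node (.node (.node (.node (.leaf 0x0) (.leaf 0x0)) (.node (.leaf 0x0) (.leaf 0x0))) (.node (.node (.leaf 0x0) (.leaf 0x0)) (.node (.leaf 0x0) (.leaf 0x0)))) (.node (.node (.node (.leaf 0x0) (.leaf 0x0)) (.node (.leaf 0x0) (.leaf 0x0))) (.node (.node (.leaf 0x0) (.leaf 0x0)) (.node (.leaf 0x0) (.leaf 0x0))))) (.node (.node (.node (.node (.leaf 0x0) (.leaf 0x0)) (.node (.leaf 0x0) (.leaf 0x0))) (.node (.node (.leaf 0x0) (.leaf 0x0)) (.node (.leaf 0x0) (.leaf 0x0)))) (.node (.node (.node (.leaf 0x0) (.leaf 0x0)) (.node (.leaf 0x0) (.leaf 0x0))) (.node (.node (.leaf 0x0) (.leaf 0x0)) (.node (.leaf 0x0) (.leaf 0x0))))))) (.node (.node (.node (.node (.node (.node (.leaf 0x0) (.leaf 0x0)) (.node (.leaf 0x0) (.leaf 0x0))) (.node (.node (.leaf 0x0) (.leaf 0x0)) (.node (.leaf 0x0) (.leaf 0x0)))) (.node (.node (.node (.leaf 0x0) (.leaf 0x0)) (.node (.leaf 0x0) (.leaf 0x0))) (.node (.node (.leaf 0x0) (.leaf 0x0)) (.node (.leaf 0x0) (.leaf 0x0))))) (.node (.node (.node (.node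 (.leaf 0x0) (.leaf 0x0)) (.node (.leaf 0x0) (.leaf 0x0))) (.node (.node (.leaf 0x0) (.leaf 0x0)) (.node (.leaf 0x0) (.leaf 0x0)))) (.node (.node (.node (.leaf 0x0) (.leaf 0x0)) (.node (.leaf 0x0) (.leaf 0x0))) (.node (.node (.leaf 0x0) (.leaf 0x0)) (.node (.leaf 0x0) (.leaf 0x0)))))) (.node (.node (.node (.node (.node (.leaf 0x0) (.leaf 0x0)) (.node (.leaf 0x0) (.leaf 0x0))) (.node (.node (.leaf 0x0) (.leaf 0x0)) (.node (.leaf 0x0) (.leaf 0x0)))) (.node (.node (.node (.leaf 0x0) (.leaf 0x0)) (.node (.leaf 0x0) (.leaf 0x0))) (.node (.node (.leaf 0x0) (.leaf 0x0)) (.node (.leaf 0x0) (.leaf 0x0))))) (.node (.node (.node (.node (.leaf 0x0) (.leaf 0x0)) (.node (.leaf 0x0) (.leaf 0x0))) (.node (.node (.leaf 0x0) (.leaf 0x0)) (.node (.leaf 0x0) (.leaf 0x0)))) (.node (.node (.node (.leaf 0x0) (.leaf 0x0)) (.node (.leaf 0x0) (.leaf 0x0))) (.node (.node (.leaf 0x10000000000000000000000000000000000000000000000000000000000000000000000000000000000000000000000000000000000000000000000000000000000000000000000000000000000000000000000000000000000000000000000000000000000000000000000000000000000000000000000000000000000000000000000000000000000000000000000000000000000000000000000000000000000000000000000000000000000000000000)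 (.leaf 0x0)) (.node (.leaf 0x0) (.leaf 0x0)))))))) (.node (.node (.node (.node (.node (.node (.node (.leaf 0x0) (.leaf 0x0)) (.node (.leaf 0x0) (.leaf 0x0))) (.node (.node (.leaf 0x0) (.leaf 0x0)) (.node (.leaf 0x0) (.leaf 0x0)))) (.node (.node (.node (.leaf 0x0) (.leaf 0x0)) (.node (.leaf 0x0) (.leaf 0x0))) (.node (.node (.leaf 0x0) (.leaf 0x0)) (.node (.leaf 0x0) (.leaf 0x0))))) (.node (.node (.node (.node (.leaf 0x0) (.leaf 0x0)) (.node (.leaf 0x0) (.leaf 0x0))) (.node (.node (.leaf 0x0) (.leaf 0x0)) (.node (.leaf 0x0) (.leaf 0x0)))) (.node (.node (.node (.leaf 0x0) (.leaf 0x0)) (.node (.leaf 0x0) (.leaf 0x0))) (.node (.node (.leaf 0x0) (.leaf 0x0)) (.node (.leaf 0x0) (.leaf 0x0)))))) (.node (.node (.node (.node (.node (.leaf 0x0) (.leaf 0x0)) (.node (.leaf 0x0) (.leaf 0x0))) (.node (.node (.leaf 0x0) (.leaf 0x0)) (.node (.leaf 0x0) (.leaf 0x0)))) (.node (.node (.node (.leaf 0x0) (.leaf 0x0)) (.node (.leaf 0x0) (.leaf 0x0))) (.node (.node (.leaf 0x0) (.leaf 0x0)) (.node (.leaf 0x0) (.leaf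 0x0))))) (.node (.node (.node (.node (.leaf 0x0) (.leaf 0x0)) (.node (.leaf 0x0) (.leaf 0x0))) (.node (.node (.leaf 0x0) (.leaf 0x0)) (.node (.leaf 0x0) (.leaf 0x0)))) (.node (.node (.node (.leaf 0x0) (.leaf 0x0)) (.node (.leaf 0x0) (.leaf 0x0))) (.node (.node (.leaf 0x0) (.leaf 0x0)) (.node (.leaf 0x0) (.leaf 0x0))))))) (.node (.node (.node (.node (.node (.node (.leaf 0x0) (.leaf 0x0)) (.node (.leaf 0x0) (.leaf 0x0))) (.node (.node (.leaf 0x0) (.leaf 0x0)) (.node (.leaf 0x0) (.leaf 0x0)))) (.node (.node (.node (.leaf 0x0) (.leaf 0x0)) (.node (.leaf 0x0) (.leaf 0x0))) (.node (.node (.leaf 0x0) (.leaf 0x0)) (.node (.leaf 0x0) (.leaf 0x0))))) (.node (.node (.node (.node (.leaf 0x0) (.leaf 0x0)) (.node (.leaf 0x0) (.leaf 0x0))) (.node (.node (.leaf 0x0) (.leaf 0x0)) (.node (.leaf 0x0) (.leaf 0x0)))) (.node (.node (.node (.leaf 0x0) (.leaf 0x0)) (.node (.leaf 0x0) (.leaf 0x0))) (.node (.node (.leaf 0x0) (.leaf 0x0)) (.node (.leaf 0x0) (.leaf 0x0)))))) (.node (.node (.node (.node (.node (.leaf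 0x0) (.leaf 0x0)) (.node (.leaf 0x0) (.leaf 0x0))) (.node (.node (.leaf 0x0) (.leaf 0x0)) (.node (.leaf 0x0) (.leaf 0x0)))) (.node (.node (.node (.leaf 0x0) (.leaf 0x0)) (.node (.leaf 0x0) (.leaf 0x0))) (.node (.node (.leaf 0x0) (.leaf 0x0)) (.node (.leaf 0x0) (.leaf 0x0))))) (.node (.node (.node (.node (.leaf 0x0) (.leaf 0x0)) (.node (.leaf 0x0) (.leaf 0x0))) (.node (.node (.leaf 0x0) (.leaf 0x0)) (.node (.leaf 0x0) (.leaf 0x0)))) (.node (.node (.node (.leaf 0x0) (.leaf 0x0)) (.node (.leaf 0x0) (.leaf 0x0))) (.node (.node (.leaf 0x0) (.leaf 0x0)) (.node (.leaf 0x0) (.leaf 0x0)))))))))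
/-- prefix -/
def r0000101_pre : List (ℕ × Spec) := [(0, (0, [])), (1, (1, [])), (2, (2, [])), (3, (3, [])), (8, (4, [])), (9, (5, [])), (4, (0, [1, 2, 3, 4, 5, 6, 8, 3, 2, 1, 4, 3, 2, 5, 4, 3]))]
/-- node -/
noncomputable def r0000101 : Based.Node := ⟨5, [(7, []), (9, [])], [[7, 6, 5, 4, 3, 8, 2, 3, 4, 1, 2, 3, 8, 5, 6, 4, 5, 3, 4, 2, 3, 8, 7, 6, 5, 4, 3, 2, 1, 2, 3, 4, 5, 6, 7, 8, 3, 2, 4, 3, 5, 4, 6, 5, 8, 3, 2, 1, 4, 3, 2, 8, 3, 4, 5, 6, 7]], 3, r0000101_pts, r0000101_par, r0000101_via, r0000101_pos⟩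

/-- pts -/
noncomputable def r00001010_pts : Tr := (.leaf 0x0)
/-- par -/
noncomputable def r00001010_par : Tr := (.leaf 0x0)
/-- via -/
noncomputable def r00001010_via : Tr := (.leaf 0x0)
/-- pos -/
noncomputable def r00001010_pos : Tr := (.node (.node (.node (.node (.node (.node (.node (.node (.leaf 0x0) (.leaf 0x0)) (.node (.leaf 0x0) (.leaf 0x0))) (.node (.node (.leaf 0x0) (.leaf 0x0)) (.node (.leaf 0x0) (.leaf 0x0)))) (.node (.node (.node (.leaf 0x0) (.leaf 0x0)) (.node (.leaf 0x0) (.leaf 0x0))) (.node (.node (.leaf 0x0) (.leaf 0x0)) (.node (.leaf 0x0) (.leaf 0x0))))) (.node (.node (.node (.node (.leaf 0x0) (.leaf 0x0)) (.node (.leaf 0x0) (.leaf 0x0))) (.node (.node (.leaf 0x0) (.leaf 0x0)) (.node (.leaf 0x0) (.leaf 0x0)))) (.node (.node (.node (.leaf 0x0) (.leaf 0x0)) (.node (.leaf 0x0) (.leaf 0x0))) (.node (.node (.leaf 0x0) (.leaf 0x0)) (.node (.leaf 0x0) (.leaf 0x0)))))) (.node (.node (.node (.node (.node (.leaf 0x0) (.leaf 0x0)) (.node (.leaf 0x0) (.leaf 0x0))) (.node (.node (.leaf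 0x0) (.leaf 0x0)) (.node (.leaf 0x0) (.leaf 0x0)))) (.node (.node (.node (.leaf 0x0) (.leaf 0x0)) (.node (.leaf 0x0) (.leaf 0x0))) (.node (.node (.leaf 0x0) (.leaf 0x0)) (.node (.leaf 0x0) (.leaf 0x0))))) (.node (.node (.node (.node (.leaf 0x0) (.leaf 0x0)) (.node (.leaf 0x0) (.leaf 0x0))) (.node (.node (.leaf 0x0) (.leaf 0x0)) (.node (.leaf 0x0) (.leaf 0x0)))) (.node (.node (.node (.leaf 0x0) (.leaf 0x0)) (.node (.leaf 0x0) (.leaf 0x0))) (.node (.node (.leaf 0x0) (.leaf 0x0)) (.node (.leaf 0x0) (.leaf 0x0))))))) (.node (.node (.node (.node (.node (.node (.leaf 0x0) (.leaf 0x0)) (.node (.leaf 0x0) (.leaf 0x0))) (.node (.node (.leaf 0x0) (.leaf 0x0)) (.node (.leaf 0x0) (.leaf 0x0)))) (.node (.node (.node (.leaf 0x0) (.leaf 0x0)) (.node (.leaf 0x0) (.leaf 0x0))) (.node (.node (.leaf 0x0) (.leaf 0x0)) (.node (.leaf 0x0) (.leaf 0x0))))) (.node (.node (.node (.node (.leaf 0x0) (.leaf 0x0)) (.node (.leaf 0x0) (.leaf 0x0))) (.node (.node (.leaf 0x0) (.leaf 0x0)) (.node (.leaf 0x0) (.leaf 0x0))))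 (.node (.node (.node (.leaf 0x0) (.leaf 0x0)) (.node (.leaf 0x0) (.leaf 0x0))) (.node (.node (.leaf 0x0) (.leaf 0x0)) (.node (.leaf 0x0) (.leaf 0x0)))))) (.node (.node (.node (.node (.node (.leaf 0x0) (.leaf 0x0)) (.node (.leaf 0x0) (.leaf 0x0))) (.node (.node (.leaf 0x0) (.leaf 0x0)) (.node (.leaf 0x0) (.leaf 0x0)))) (.node (.node (.node (.leaf 0x0) (.leaf 0x0)) (.node (.leaf 0x0) (.leaf 0x0))) (.node (.node (.leaf 0x0) (.leaf 0x0)) (.node (.leaf 0x0) (.leaf 0x0))))) (.node (.node (.node (.node (.leaf 0x0) (.leaf 0x0)) (.node (.leaf 0x0) (.leaf 0x0))) (.node (.node (.leaf 0x0) (.leaf 0x0)) (.node (.leaf 0x0) (.leaf 0x0)))) (.node (.node (.node (.leaf 0x0) (.leaf 0x0)) (.node (.leaf 0x0) (.leaf 0x0))) (.node (.node (.leaf 0x0) (.leaf 0x0)) (.node (.leaf 0x0) (.leaf 0x0)))))))) (.node (.node (.node (.node (.node (.node (.node (.leaf 0x0) (.leaf 0x0)) (.node (.leaf 0x0) (.leaf 0x0))) (.node (.node (.leaf 0x0) (.leaf 0x0)) (.node (.leaf 0x0) (.leaf 0x0)))) (.node (.node (.node (.leaf 0x0) (.leaf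 0x0)) (.node (.leaf 0x0) (.leaf 0x0))) (.node (.node (.leaf 0x0) (.leaf 0x0)) (.node (.leaf 0x0) (.leaf 0x0))))) (.node (.node (.node (.node (.leaf 0x0) (.leaf 0x0)) (.node (.leaf 0x0) (.leaf 0x0))) (.node (.node (.leaf 0x0) (.leaf 0x0)) (.node (.leaf 0x0) (.leaf 0x0)))) (.node (.node (.node (.leaf 0x0) (.leaf 0x0)) (.node (.leaf 0x0) (.leaf 0x0))) (.node (.node (.leaf 0x0) (.leaf 0x0)) (.node (.leaf 0x0) (.leaf 0x0)))))) (.node (.node (.node (.node (.node (.leaf 0x0) (.leaf 0x0)) (.node (.leaf 0x0) (.leaf 0x0))) (.node (.node (.leaf 0x0) (.leaf 0x0)) (.node (.leaf 0x0) (.leaf 0x0)))) (.node (.node (.node (.leaf 0x0) (.leaf 0x0)) (.node (.leaf 0x0) (.leaf 0x0))) (.node (.node (.leaf 0x0) (.leaf 0x0)) (.node (.leaf 0x0) (.leaf 0x0))))) (.node (.node (.node (.node (.leaf 0x0) (.leaf 0x0)) (.node (.leaf 0x0) (.leaf 0x0))) (.node (.node (.leaf 0x0) (.leaf 0x0)) (.node (.leaf 0x0) (.leaf 0x0)))) (.node (.node (.node (.leaf 0x0) (.leaf 0x0)) (.node (.leaf 0x0) (.leaf 0x0))) (.node (.node (.leaf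 0x0) (.leaf 0x0)) (.node (.leaf 0x0) (.leaf 0x0))))))) (.node (.node (.node (.node (.node (.node (.leaf 0x0) (.leaf 0x0)) (.node (.leaf 0x0) (.leaf 0x0))) (.node (.node (.leaf 0x0) (.leaf 0x0)) (.node (.leaf 0x0) (.leaf 0x0)))) (.node (.node (.node (.leaf 0x0) (.leaf 0x0)) (.node (.leaf 0x0) (.leaf 0x0))) (.node (.node (.leaf 0x0) (.leaf 0x0)) (.node (.leaf 0x0) (.leaf 0x0))))) (.node (.node (.node (.node (.leaf 0x0) (.leaf 0x0)) (.node (.leaf 0x0) (.leaf 0x0))) (.node (.node (.leaf 0x0) (.leaf 0x0)) (.node (.leaf 0x0) (.leaf 0x0)))) (.node (.node (.node (.leaf 0x0) (.leaf 0x0)) (.node (.leaf 0x0) (.leaf 0x0))) (.node (.node (.leaf 0x0) (.leaf 0x0)) (.node (.leaf 0x0) (.leaf 0x0)))))) (.node (.node (.node (.node (.node (.leaf 0x0) (.leaf 0x0)) (.node (.leaf 0x0) (.leaf 0x0))) (.node (.node (.leaf 0x0) (.leaf 0x0)) (.node (.leaf 0x0) (.leaf 0x0)))) (.node (.node (.node (.leaf 0x0) (.leaf 0x0)) (.node (.leaf 0x0) (.leaf 0x0))) (.node (.node (.leaf 0x0) (.leaf 0x0)) (.node (.leaf 0x0) (.leaf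 0x0))))) (.node (.node (.node (.node (.leaf 0x0) (.leaf 0x0)) (.node (.leaf 0x0) (.leaf 0x0))) (.node (.node (.leaf 0x0) (.leaf 0x0)) (.node (.leaf 0x0) (.leaf 0x0)))) (.node (.node (.node (.leaf 0x0) (.leaf 0x0)) (.node (.leaf 0x0) (.leaf 0x0))) (.node (.node (.leaf 0x0) (.leaf 0x0)) (.node (.leaf 0x0) (.leaf 0x0)))))))))
/-- prefix -/
def r00001010_pre : List (ℕ × Spec) := [(0, (0, [])), (1, (1, [])), (2, (2, [])), (3, (3, [])), (8, (4, [])), (9, (5, [])), (4, (0, [1, 2, 3, 4, 5, 6, 8, 3, 2, 1, 4, 3, 2, 5, 4, 3])), (5, (7, []))]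
/-- node -/
noncomputable def r00001010 : Based.Node := ⟨6, [(1, [2, 3, 4, 5, 6, 7, 8, 3, 2, 4, 3, 5, 4, 6, 5, 8, 3, 2, 1, 4, 3, 2, 8, 3, 4, 5, 6, 7])], [], 1, r00001010_pts, r00001010_par, r00001010_via, r00001010_pos⟩

/-- pts -/
noncomputable def r000010100_pts : Tr := (.leaf 0x0)
/-- par -/
noncomputable def r000010100_par : Tr := (.leaf 0x0)
/-- via -/
noncomputable def r000010100_via : Tr := (.leaf 0x0)
/-- pos -/
noncomputable def r000010100_pos : Tr := (.node (.node (.node (.node (.node (.node (.node (.node (.leaf 0x0) (.leaf 0x0)) (.node (.leaf 0x0) (.leaf 0x0))) (.node (.node (.leaf 0x0) (.leaf 0x0)) (.node (.leaf 0x0) (.leaf 0x0)))) (.node (.node (.node (.leaf 0x0) (.leaf 0x0)) (.node (.leaf 0x0) (.leaf 0x0))) (.node (.node (.leaf 0x0) (.leaf 0x0)) (.node (.leaf 0x0) (.leaf 0x0))))) (.node (.node (.node (.node (.leaf 0x0) (.leaf 0x0)) (.node (.leaf 0x0) (.leaf 0x0))) (.node (.node (.leaf 0x0) (.leaf 0x0)) (.node (.leaf 0x0) (.leaf 0x0)))) (.node (.node (.node (.leaf 0x0) (.leaf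 0x0)) (.node (.leaf 0x0) (.leaf 0x0))) (.node (.node (.leaf 0x0) (.leaf 0x0)) (.node (.leaf 0x0) (.leaf 0x0)))))) (.node (.node (.node (.node (.node (.leaf 0x0) (.leaf 0x0)) (.node (.leaf 0x0) (.leaf 0x0))) (.node (.node (.leaf 0x0) (.leaf 0x0)) (.node (.leaf 0x0) (.leaf 0x0)))) (.node (.node (.node (.leaf 0x0) (.leaf 0x0)) (.node (.leaf 0x0) (.leaf 0x0))) (.node (.node (.leaf 0x0) (.leaf 0x0)) (.node (.leaf 0x0) (.leaf 0x0))))) (.node (.node (.node (.node (.leaf 0x0) (.leaf 0x0)) (.node (.leaf 0x0) (.leaf 0x0))) (.node (.node (.leaf 0x0) (.leaf 0x0)) (.node (.leaf 0x0) (.leaf 0x0)))) (.node (.node (.node (.leaf 0x0) (.leaf 0x0)) (.node (.leaf 0x0) (.leaf 0x0))) (.node (.node (.leaf 0x0) (.leaf 0x0)) (.node (.leaf 0x0) (.leaf 0x0))))))) (.node (.node (.node (.node (.node (.node (.leaf 0x0) (.leaf 0x0)) (.node (.leaf 0x0) (.leaf 0x0))) (.node (.node (.leaf 0x0) (.leaf 0x0)) (.node (.leaf 0x0) (.leaf 0x0)))) (.node (.node (.node (.leaf 0x0) (.leaf 0x0)) (.node (.leaf 0x0) (.leaf 0x0))) (.node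 (.node (.leaf 0x0) (.leaf 0x0)) (.node (.leaf 0x0) (.leaf 0x0))))) (.node (.node (.node (.node (.leaf 0x0) (.leaf 0x0)) (.node (.leaf 0x0) (.leaf 0x0))) (.node (.node (.leaf 0x0) (.leaf 0x0)) (.node (.leaf 0x0) (.leaf 0x0)))) (.node (.node (.node (.leaf 0x0) (.leaf 0x0)) (.node (.leaf 0x0) (.leaf 0x0))) (.node (.node (.leaf 0x0) (.leaf 0x0)) (.node (.leaf 0x0) (.leaf 0x0)))))) (.node (.node (.node (.node (.node (.leaf 0x0) (.leaf 0x0)) (.node (.leaf 0x0) (.leaf 0x0))) (.node (.node (.leaf 0x0) (.leaf 0x0)) (.node (.leaf 0x0) (.leaf 0x0)))) (.node (.node (.node (.leaf 0x0) (.leaf 0x0)) (.node (.leaf 0x0) (.leaf 0x0))) (.node (.node (.leaf 0x0) (.leaf 0x0)) (.node (.leaf 0x0) (.leaf 0x0))))) (.node (.node (.node (.node (.leaf 0x0) (.leaf 0x0)) (.node (.leaf 0x0) (.leaf 0x0))) (.node (.node (.leaf 0x0) (.leaf 0x0)) (.node (.leaf 0x0) (.leaf 0x0)))) (.node (.node (.node (.leaf 0x0) (.leaf 0x0)) (.node (.leaf 0x0) (.leaf 0x0))) (.node (.node (.leaf 0x0) (.leaf 0x0)) (.node (.leaf 0x0) (.leaf 0x0))))))))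 (.node (.node (.node (.node (.node (.node (.node (.leaf 0x0) (.leaf 0x0)) (.node (.leaf 0x0) (.leaf 0x0))) (.node (.node (.leaf 0x0) (.leaf 0x0)) (.node (.leaf 0x0) (.leaf 0x0)))) (.node (.node (.node (.leaf 0x0) (.leaf 0x0)) (.node (.leaf 0x0) (.leaf 0x0))) (.node (.node (.leaf 0x0) (.leaf 0x0)) (.node (.leaf 0x0) (.leaf 0x0))))) (.node (.node (.node (.node (.leaf 0x0) (.leaf 0x0)) (.node (.leaf 0x0) (.leaf 0x0))) (.node (.node (.leaf 0x0) (.leaf 0x0)) (.node (.leaf 0x0) (.leaf 0x0)))) (.node (.node (.node (.leaf 0x0) (.leaf 0x0)) (.node (.leaf 0x0) (.leaf 0x0))) (.node (.node (.leaf 0x0) (.leaf 0x0)) (.node (.leaf 0x0) (.leaf 0x0)))))) (.node (.node (.node (.node (.node (.leaf 0x0) (.leaf 0x0)) (.node (.leaf 0x0) (.leaf 0x0))) (.node (.node (.leaf 0x0) (.leaf 0x0)) (.node (.leaf 0x0) (.leaf 0x0)))) (.node (.node (.node (.leaf 0x0) (.leaf 0x0)) (.node (.leaf 0x0) (.leaf 0x0))) (.node (.node (.leaf 0x0) (.leaf 0x0)) (.node (.leaf 0x0) (.leaf 0x0))))) (.node (.node (.node (.node (.leaf 0x0)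 (.leaf 0x0)) (.node (.leaf 0x0) (.leaf 0x0))) (.node (.node (.leaf 0x0) (.leaf 0x0)) (.node (.leaf 0x0) (.leaf 0x0)))) (.node (.node (.node (.leaf 0x0) (.leaf 0x0)) (.node (.leaf 0x0) (.leaf 0x0))) (.node (.node (.leaf 0x0) (.leaf 0x0)) (.node (.leaf 0x0) (.leaf 0x0))))))) (.node (.node (.node (.node (.node (.node (.leaf 0x0) (.leaf 0x0)) (.node (.leaf 0x0) (.leaf 0x0))) (.node (.node (.leaf 0x0) (.leaf 0x0)) (.node (.leaf 0x0) (.leaf 0x0)))) (.node (.node (.node (.leaf 0x0) (.leaf 0x0)) (.node (.leaf 0x0) (.leaf 0x0))) (.node (.node (.leaf 0x0) (.leaf 0x0)) (.node (.leaf 0x0) (.leaf 0x0))))) (.node (.node (.node (.node (.leaf 0x0) (.leaf 0x0)) (.node (.leaf 0x0) (.leaf 0x0))) (.node (.node (.leaf 0x0) (.leaf 0x0)) (.node (.leaf 0x0) (.leaf 0x0)))) (.node (.node (.node (.leaf 0x0) (.leaf 0x0)) (.node (.leaf 0x0) (.leaf 0x0))) (.node (.node (.leaf 0x0) (.leaf 0x0)) (.node (.leaf 0x0) (.leaf 0x0)))))) (.node (.node (.node (.node (.node (.leaf 0x0) (.leaf 0x0)) (.node (.leaf 0x0) (.leaf 0x0)))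 (.node (.node (.leaf 0x0) (.leaf 0x0)) (.node (.leaf 0x0) (.leaf 0x0)))) (.node (.node (.node (.leaf 0x0) (.leaf 0x0)) (.node (.leaf 0x0) (.leaf 0x0))) (.node (.node (.leaf 0x0) (.leaf 0x0)) (.node (.leaf 0x0) (.leaf 0x0))))) (.node (.node (.node (.node (.leaf 0x0) (.leaf 0x0)) (.node (.leaf 0x0) (.leaf 0x0))) (.node (.node (.leaf 0x0) (.leaf 0x0)) (.node (.leaf 0x0) (.leaf 0x0)))) (.node (.node (.node (.leaf 0x0) (.leaf 0x0)) (.node (.leaf 0x0) (.leaf 0x0))) (.node (.node (.leaf 0x0) (.leaf 0x0)) (.node (.leaf 0x0) (.leaf 0x0)))))))))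
/-- prefix -/
def r000010100_pre : List (ℕ × Spec) := [(0, (0, [])), (1, (1, [])), (2, (2, [])), (3, (3, [])), (8, (4, [])), (9, (5, [])), (4, (0, [1, 2, 3, 4, 5, 6, 8, 3, 2, 1, 4, 3, 2, 5, 4, 3])), (5, (7, [])), (6, (1, [2, 3, 4, 5, 6, 7, 8, 3, 2, 4, 3, 5, 4, 6, 5, 8, 3, 2, 1, 4, 3, 2, 8, 3, 4, 5, 6, 7]))]
/-- node -/
noncomputable def r000010100 : Based.Node := ⟨7, [], [], 0, r000010100_pts, r000010100_par, r000010100_via, r000010100_pos⟩

/-- pts -/
noncomputable def r00001011_pts : Tr := (.leaf 0x0)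
/-- par -/
noncomputable def r00001011_par : Tr := (.leaf 0x0)
/-- via -/
noncomputable def r00001011_via : Tr := (.leaf 0x0)
/-- pos -/
noncomputable def r00001011_pos : Tr := (.node (.node (.node (.node (.node (.node (.node (.node (.leaf 0x0) (.leaf 0x0)) (.node (.leaf 0x0) (.leaf 0x0))) (.node (.node (.leaf 0x0) (.leaf 0x0)) (.node (.leaf 0x0) (.leaf 0x0)))) (.node (.node (.node (.leaf 0x0) (.leaf 0x0)) (.node (.leaf 0x0) (.leaf 0x0))) (.node (.node (.leaf 0x0) (.leaf 0x0)) (.node (.leaf 0x0) (.leaf 0x0))))) (.node (.node (.node (.node (.leaf 0x0) (.leaf 0x0)) (.node (.leaf 0x0) (.leaf 0x0))) (.node (.node (.leaf 0x0) (.leaf 0x0)) (.node (.leaf 0x0) (.leaf 0x0)))) (.node (.node (.node (.leaf 0x0) (.leaf 0x0)) (.node (.leaf 0x0) (.leaf 0x0))) (.node (.node (.leaf 0x0) (.leaf 0x0)) (.node (.leaf 0x0) (.leaf 0x0)))))) (.node (.node (.node (.node (.node (.leaf 0x0) (.leaf 0x0)) (.node (.leaf 0x0) (.leaf 0x0))) (.node (.node (.leaf 0x0) (.leaf 0x0)) (.node (.leaf 0x0) (.leaf 0x0)))) (.node (.node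 (.node (.leaf 0x0) (.leaf 0x0)) (.node (.leaf 0x0) (.leaf 0x0))) (.node (.node (.leaf 0x0) (.leaf 0x0)) (.node (.leaf 0x0) (.leaf 0x0))))) (.node (.node (.node (.node (.leaf 0x0) (.leaf 0x0)) (.node (.leaf 0x0) (.leaf 0x0))) (.node (.node (.leaf 0x0) (.leaf 0x0)) (.node (.leaf 0x0) (.leaf 0x0)))) (.node (.node (.node (.leaf 0x0) (.leaf 0x0)) (.node (.leaf 0x0) (.leaf 0x0))) (.node (.node (.leaf 0x0) (.leaf 0x0)) (.node (.leaf 0x0) (.leaf 0x0))))))) (.node (.node (.node (.node (.node (.node (.leaf 0x0) (.leaf 0x0)) (.node (.leaf 0x0) (.leaf 0x0))) (.node (.node (.leaf 0x0) (.leaf 0x0)) (.node (.leaf 0x0) (.leaf 0x0)))) (.node (.node (.node (.leaf 0x0) (.leaf 0x0)) (.node (.leaf 0x0) (.leaf 0x0))) (.node (.node (.leaf 0x0) (.leaf 0x0)) (.node (.leaf 0x0) (.leaf 0x0))))) (.node (.node (.node (.node (.leaf 0x0) (.leaf 0x0)) (.node (.leaf 0x0) (.leaf 0x0))) (.node (.node (.leaf 0x0) (.leaf 0x0)) (.node (.leaf 0x0) (.leaf 0x0)))) (.node (.node (.node (.leaf 0x0) (.leaf 0x0)) (.node (.leaf 0x0) (.leaf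 0x0))) (.node (.node (.leaf 0x0) (.leaf 0x0)) (.node (.leaf 0x0) (.leaf 0x0)))))) (.node (.node (.node (.node (.node (.leaf 0x0) (.leaf 0x0)) (.node (.leaf 0x0) (.leaf 0x0))) (.node (.node (.leaf 0x0) (.leaf 0x0)) (.node (.leaf 0x0) (.leaf 0x0)))) (.node (.node (.node (.leaf 0x0) (.leaf 0x0)) (.node (.leaf 0x0) (.leaf 0x0))) (.node (.node (.leaf 0x0) (.leaf 0x0)) (.node (.leaf 0x0) (.leaf 0x0))))) (.node (.node (.node (.node (.leaf 0x0) (.leaf 0x0)) (.node (.leaf 0x0) (.leaf 0x0))) (.node (.node (.leaf 0x0) (.leaf 0x0)) (.node (.leaf 0x0) (.leaf 0x0)))) (.node (.node (.node (.leaf 0x0) (.leaf 0x0)) (.node (.leaf 0x0) (.leaf 0x0))) (.node (.node (.leaf 0x0) (.leaf 0x0)) (.node (.leaf 0x0) (.leaf 0x0)))))))) (.node (.node (.node (.node (.node (.node (.node (.leaf 0x0) (.leaf 0x0)) (.node (.leaf 0x0) (.leaf 0x0))) (.node (.node (.leaf 0x0) (.leaf 0x0)) (.node (.leaf 0x0) (.leaf 0x0)))) (.node (.node (.node (.leaf 0x0) (.leaf 0x0)) (.node (.leaf 0x0) (.leaf 0x0))) (.node (.node (.leaf 0x0) (.leaf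 0x0)) (.node (.leaf 0x0) (.leaf 0x0))))) (.node (.node (.node (.node (.leaf 0x0) (.leaf 0x0)) (.node (.leaf 0x0) (.leaf 0x0))) (.node (.node (.leaf 0x0) (.leaf 0x0)) (.node (.leaf 0x0) (.leaf 0x0)))) (.node (.node (.node (.leaf 0x0) (.leaf 0x0)) (.node (.leaf 0x0) (.leaf 0x0))) (.node (.node (.leaf 0x0) (.leaf 0x0)) (.node (.leaf 0x0) (.leaf 0x0)))))) (.node (.node (.node (.node (.node (.leaf 0x0) (.leaf 0x0)) (.node (.leaf 0x0) (.leaf 0x0))) (.node (.node (.leaf 0x0) (.leaf 0x0)) (.node (.leaf 0x0) (.leaf 0x0)))) (.node (.node (.node (.leaf 0x0) (.leaf 0x0)) (.node (.leaf 0x0) (.leaf 0x0))) (.node (.node (.leaf 0x0) (.leaf 0x0)) (.node (.leaf 0x0) (.leaf 0x0))))) (.node (.node (.node (.node (.leaf 0x0) (.leaf 0x0)) (.node (.leaf 0x0) (.leaf 0x0))) (.node (.node (.leaf 0x0) (.leaf 0x0)) (.node (.leaf 0x0) (.leaf 0x0)))) (.node (.node (.node (.leaf 0x0) (.leaf 0x0)) (.node (.leaf 0x0) (.leaf 0x0))) (.node (.node (.leaf 0x0) (.leaf 0x0)) (.node (.leaf 0x0) (.leaf 0x0))))))) (.node (.node (.node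 (.node (.node (.node (.leaf 0x0) (.leaf 0x0)) (.node (.leaf 0x0) (.leaf 0x0))) (.node (.node (.leaf 0x0) (.leaf 0x0)) (.node (.leaf 0x0) (.leaf 0x0)))) (.node (.node (.node (.leaf 0x0) (.leaf 0x0)) (.node (.leaf 0x0) (.leaf 0x0))) (.node (.node (.leaf 0x0) (.leaf 0x0)) (.node (.leaf 0x0) (.leaf 0x0))))) (.node (.node (.node (.node (.leaf 0x0) (.leaf 0x0)) (.node (.leaf 0x0) (.leaf 0x0))) (.node (.node (.leaf 0x0) (.leaf 0x0)) (.node (.leaf 0x0) (.leaf 0x0)))) (.node (.node (.node (.leaf 0x0) (.leaf 0x0)) (.node (.leaf 0x0) (.leaf 0x0))) (.node (.node (.leaf 0x0) (.leaf 0x0)) (.node (.leaf 0x0) (.leaf 0x0)))))) (.node (.node (.node (.node (.node (.leaf 0x0) (.leaf 0x0)) (.node (.leaf 0x0) (.leaf 0x0))) (.node (.node (.leaf 0x0) (.leaf 0x0)) (.node (.leaf 0x0) (.leaf 0x0)))) (.node (.node (.node (.leaf 0x0) (.leaf 0x0)) (.node (.leaf 0x0) (.leaf 0x0))) (.node (.node (.leaf 0x0) (.leaf 0x0)) (.node (.leaf 0x0) (.leaf 0x0))))) (.node (.node (.node (.node (.leaf 0x0) (.leaf 0x0)) (.node (.leaf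 0x0) (.leaf 0x0))) (.node (.node (.leaf 0x0) (.leaf 0x0)) (.node (.leaf 0x0) (.leaf 0x0)))) (.node (.node (.node (.leaf 0x0) (.leaf 0x0)) (.node (.leaf 0x0) (.leaf 0x0))) (.node (.node (.leaf 0x0) (.leaf 0x0)) (.node (.leaf 0x0) (.leaf 0x0)))))))))
/-- prefix -/
def r00001011_pre : List (ℕ × Spec) := [(0, (0, [])), (1, (1, [])), (2, (2, [])), (3, (3, [])), (8, (4, [])), (9, (5, [])), (4, (0, [1, 2, 3, 4, 5, 6, 8, 3, 2, 1, 4, 3, 2, 5, 4, 3])), (5, (9, []))]
/-- node -/
noncomputable def r00001011 : Based.Node := ⟨6, [], [], 0, r00001011_pts, r00001011_par, r00001011_via, r00001011_pos⟩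

/-- pts -/
noncomputable def r0000102_pts : Tr := (.leaf 0x101f46)
/-- par -/
noncomputable def r0000102_par : Tr := (.leaf 0x0)
/-- via -/
noncomputable def r0000102_via : Tr := (.leaf 0x0)
/-- pos -/
noncomputable def r0000102_pos : Tr := (.node (.node (.node (.node (.node (.node (.node (.node (.leaf 0x100000) (.leaf 0x0)) (.node (.leaf 0x0) (.leaf 0x0))) (.node (.node (.leaf 0x0) (.leaf 0x0)) (.node (.leaf 0x0) (.leaf 0x0)))) (.node (.node (.node (.leaf 0x0) (.leaf 0x0)) (.node (.leaf 0x0) (.leaf 0x0))) (.node (.node (.leaf 0x0) (.leaf 0x0)) (.node (.leaf 0x0) (.leaf 0x0))))) (.node (.node (.node (.node (.leaf 0x0) (.leaf 0x0)) (.node (.leaf 0x0) (.leaf 0x0))) (.node (.node (.leaf 0x0) (.leaf 0x0)) (.node (.leaf 0x0) (.leaf 0x0)))) (.node (.node (.node (.leaf 0x0) (.leaf 0x0)) (.node (.leaf 0x0) (.leaf 0x0))) (.node (.node (.leaf 0x0) (.leaf 0x0)) (.node (.leaf 0x0) (.leaf 0x0)))))) (.node (.node (.node (.node (.node (.leaf 0x0) (.leaf 0x0)) (.node (.leaf 0x0) (.leaf 0x0))) (.node (.node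 (.leaf 0x0) (.leaf 0x0)) (.node (.leaf 0x0) (.leaf 0x0)))) (.node (.node (.node (.leaf 0x0) (.leaf 0x0)) (.node (.leaf 0x0) (.leaf 0x0))) (.node (.node (.leaf 0x0) (.leaf 0x0)) (.node (.leaf 0x0) (.leaf 0x0))))) (.node (.node (.node (.node (.leaf 0x0) (.leaf 0x0)) (.node (.leaf 0x0) (.leaf 0x0))) (.node (.node (.leaf 0x0) (.leaf 0x0)) (.node (.leaf 0x0) (.leaf 0x0)))) (.node (.node (.node (.leaf 0x0) (.leaf 0x0)) (.node (.leaf 0x0) (.leaf 0x0))) (.node (.node (.leaf 0x0) (.leaf 0x0)) (.node (.leaf 0x0) (.leaf 0x0))))))) (.node (.node (.node (.node (.node (.node (.leaf 0x0) (.leaf 0x0)) (.node (.leaf 0x0) (.leaf 0x0))) (.node (.node (.leaf 0x0) (.leaf 0x0)) (.node (.leaf 0x0) (.leaf 0x0)))) (.node (.node (.node (.leaf 0x0) (.leaf 0x0)) (.node (.leaf 0x0) (.leaf 0x0))) (.node (.node (.leaf 0x0) (.leaf 0x0)) (.node (.leaf 0x0) (.leaf 0x0))))) (.node (.node (.node (.node (.leaf 0x0) (.leaf 0x0)) (.node (.leaf 0x0) (.leaf 0x0))) (.node (.node (.leaf 0x0) (.leaf 0x0)) (.node (.leaf 0x0) (.leaf 0x0))))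 (.node (.node (.node (.leaf 0x0) (.leaf 0x0)) (.node (.leaf 0x0) (.leaf 0x0))) (.node (.node (.leaf 0x0) (.leaf 0x0)) (.node (.leaf 0x0) (.leaf 0x0)))))) (.node (.node (.node (.node (.node (.leaf 0x0) (.leaf 0x0)) (.node (.leaf 0x0) (.leaf 0x0))) (.node (.node (.leaf 0x0) (.leaf 0x0)) (.node (.leaf 0x0) (.leaf 0x0)))) (.node (.node (.node (.leaf 0x0) (.leaf 0x0)) (.node (.leaf 0x0) (.leaf 0x0))) (.node (.node (.leaf 0x0) (.leaf 0x0)) (.node (.leaf 0x0) (.leaf 0x0))))) (.node (.node (.node (.node (.leaf 0x0) (.leaf 0x0)) (.node (.leaf 0x0) (.leaf 0x0))) (.node (.node (.leaf 0x0) (.leaf 0x0)) (.node (.leaf 0x0) (.leaf 0x0)))) (.node (.node (.node (.leaf 0x0) (.leaf 0x0)) (.node (.leaf 0x0) (.leaf 0x0))) (.node (.node (.leaf 0x0) (.leaf 0x0)) (.node (.leaf 0x0) (.leaf 0x0)))))))) (.node (.node (.node (.node (.node (.node (.node (.leaf 0x0) (.leaf 0x0)) (.node (.leaf 0x0) (.leaf 0x0))) (.node (.node (.leaf 0x0) (.leaf 0x0)) (.node (.leaf 0x0) (.leaf 0x0)))) (.node (.node (.node (.leaf 0x0) (.leaf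 0x0)) (.node (.leaf 0x0) (.leaf 0x0))) (.node (.node (.leaf 0x0) (.leaf 0x0)) (.node (.leaf 0x0) (.leaf 0x0))))) (.node (.node (.node (.node (.leaf 0x0) (.leaf 0x0)) (.node (.leaf 0x0) (.leaf 0x0))) (.node (.node (.leaf 0x0) (.leaf 0x0)) (.node (.leaf 0x0) (.leaf 0x0)))) (.node (.node (.node (.leaf 0x0) (.leaf 0x0)) (.node (.leaf 0x0) (.leaf 0x0))) (.node (.node (.leaf 0x0) (.leaf 0x0)) (.node (.leaf 0x0) (.leaf 0x0)))))) (.node (.node (.node (.node (.node (.leaf 0x0) (.leaf 0x0)) (.node (.leaf 0x0) (.leaf 0x0))) (.node (.node (.leaf 0x0) (.leaf 0x0)) (.node (.leaf 0x0) (.leaf 0x0)))) (.node (.node (.node (.leaf 0x0) (.leaf 0x0)) (.node (.leaf 0x0) (.leaf 0x0))) (.node (.node (.leaf 0x0) (.leaf 0x0)) (.node (.leaf 0x0) (.leaf 0x0))))) (.node (.node (.node (.node (.leaf 0x0) (.leaf 0x0)) (.node (.leaf 0x0) (.leaf 0x0))) (.node (.node (.leaf 0x0) (.leaf 0x0)) (.node (.leaf 0x0) (.leaf 0x0)))) (.node (.node (.node (.leaf 0x0) (.leaf 0x0)) (.node (.leaf 0x0) (.leaf 0x0))) (.node (.node (.leaf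 0x0) (.leaf 0x0)) (.node (.leaf 0x0) (.leaf 0x0))))))) (.node (.node (.node (.node (.node (.node (.leaf 0x0) (.leaf 0x0)) (.node (.leaf 0x0) (.leaf 0x0))) (.node (.node (.leaf 0x0) (.leaf 0x0)) (.node (.leaf 0x0) (.leaf 0x0)))) (.node (.node (.node (.leaf 0x0) (.leaf 0x0)) (.node (.leaf 0x0) (.leaf 0x0))) (.node (.node (.leaf 0x0) (.leaf 0x0)) (.node (.leaf 0x0) (.leaf 0x0))))) (.node (.node (.node (.node (.leaf 0x0) (.leaf 0x0)) (.node (.leaf 0x0) (.leaf 0x0))) (.node (.node (.leaf 0x0) (.leaf 0x0)) (.node (.leaf 0x0) (.leaf 0x0)))) (.node (.node (.node (.leaf 0x0) (.leaf 0x0)) (.node (.leaf 0x0) (.leaf 0x0))) (.node (.node (.leaf 0x0) (.leaf 0x0)) (.node (.leaf 0x0) (.leaf 0x0)))))) (.node (.node (.node (.node (.node (.leaf 0x0) (.leaf 0x0)) (.node (.leaf 0x0) (.leaf 0x0))) (.node (.node (.leaf 0x0) (.leaf 0x0)) (.node (.leaf 0x0) (.leaf 0x0)))) (.node (.node (.node (.leaf 0x0) (.leaf 0x0)) (.node (.leaf 0x0) (.leaf 0x0))) (.node (.node (.leaf 0x0) (.leaf 0x0)) (.node (.leaf 0x0) (.leaf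 0x0))))) (.node (.node (.node (.node (.leaf 0x0) (.leaf 0x0)) (.node (.leaf 0x0) (.leaf 0x0))) (.node (.node (.leaf 0x0) (.leaf 0x0)) (.node (.leaf 0x0) (.leaf 0x0)))) (.node (.node (.node (.leaf 0x0) (.leaf 0x0)) (.node (.leaf 0x0) (.leaf 0x0))) (.node (.node (.leaf 0x0) (.leaf 0x0)) (.node (.leaf 0x0) (.leaf 0x0)))))))))
/-- prefix -/
def r0000102_pre : List (ℕ × Spec) := [(0, (0, [])), (1, (1, [])), (2, (2, [])), (3, (3, [])), (8, (4, [])), (9, (5, [])), (4, (0, [1, 2, 3, 4, 5, 6, 8, 3, 2, 1, 4, 3, 2, 5, 4, 3, 9, 8]))]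
/-- node -/
noncomputable def r0000102 : Based.Node := ⟨5, [(7, [])], [[7, 6, 5, 4, 3, 8, 2, 3, 4, 1, 2, 3, 8, 5, 6, 4, 5, 3, 4, 2, 3, 8, 7, 6, 5, 4, 3, 2, 1, 2, 3, 4, 5, 6, 7, 8, 3, 2, 4, 3, 5, 4, 6, 5, 8, 3, 2, 1, 4, 3, 2, 8, 3, 4, 5, 6, 7]], 2, r0000102_pts, r0000102_par, r0000102_via, r0000102_pos⟩

/-- pts -/
noncomputable def r00001020_pts : Tr := (.leaf 0x0)
/-- par -/
noncomputable def r00001020_par : Tr := (.leaf 0x0)
/-- via -/
noncomputable def r00001020_via : Tr := (.leaf 0x0)
/-- pos -/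
noncomputable def r00001020_pos : Tr := (.node (.node (.node (.node (.node (.node (.node (.node (.leaf 0x0) (.leaf 0x0)) (.node (.leaf 0x0) (.leaf 0x0))) (.node (.node (.leaf 0x0) (.leaf 0x0)) (.node (.leaf 0x0) (.leaf 0x0)))) (.node (.node (.node (.leaf 0x0) (.leaf 0x0)) (.node (.leaf 0x0) (.leaf 0x0))) (.node (.node (.leaf 0x0) (.leaf 0x0)) (.node (.leaf 0x0) (.leaf 0x0))))) (.node (.node (.node (.node (.leaf 0x0) (.leaf 0x0)) (.node (.leaf 0x0) (.leaf 0x0))) (.node (.node (.leaf 0x0) (.leaf 0x0)) (.node (.leaf 0x0) (.leaf 0x0)))) (.node (.node (.node (.leaf 0x0) (.leaf 0x0)) (.node (.leaf 0x0) (.leaf 0x0))) (.node (.node (.leaf 0x0) (.leaf 0x0)) (.node (.leaf 0x0) (.leaf 0x0)))))) (.node (.node (.node (.node (.node (.leaf 0x0) (.leaf 0x0)) (.node (.leaf 0x0) (.leaf 0x0))) (.node (.node (.leaf 0x0) (.leaf 0x0)) (.node (.leaf 0x0) (.leaf 0x0)))) (.node (.node (.node (.leaf 0x0) (.leaf 0x0)) (.node (.leaf 0x0) (.leaf 0x0))) (.node (.node (.leaf 0x0) (.leaf 0x0)) (.node (.leaf 0x0) (.leaf 0x0)))))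 (.node (.node (.node (.node (.leaf 0x0) (.leaf 0x0)) (.node (.leaf 0x0) (.leaf 0x0))) (.node (.node (.leaf 0x0) (.leaf 0x0)) (.node (.leaf 0x0) (.leaf 0x0)))) (.node (.node (.node (.leaf 0x0) (.leaf 0x0)) (.node (.leaf 0x0) (.leaf 0x0))) (.node (.node (.leaf 0x0) (.leaf 0x0)) (.node (.leaf 0x0) (.leaf 0x0))))))) (.node (.node (.node (.node (.node (.node (.leaf 0x0) (.leaf 0x0)) (.node (.leaf 0x0) (.leaf 0x0))) (.node (.node (.leaf 0x0) (.leaf 0x0)) (.node (.leaf 0x0) (.leaf 0x0)))) (.node (.node (.node (.leaf 0x0) (.leaf 0x0)) (.node (.leaf 0x0) (.leaf 0x0))) (.node (.node (.leaf 0x0) (.leaf 0x0)) (.node (.leaf 0x0) (.leaf 0x0))))) (.node (.node (.node (.node (.leaf 0x0) (.leaf 0x0)) (.node (.leaf 0x0) (.leaf 0x0))) (.node (.node (.leaf 0x0) (.leaf 0x0)) (.node (.leaf 0x0) (.leaf 0x0)))) (.node (.node (.node (.leaf 0x0) (.leaf 0x0)) (.node (.leaf 0x0) (.leaf 0x0))) (.node (.node (.leaf 0x0) (.leaf 0x0)) (.node (.leaf 0x0) (.leaf 0x0)))))) (.node (.node (.node (.node (.node (.leaf 0x0) (.leaf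 0x0)) (.node (.leaf 0x0) (.leaf 0x0))) (.node (.node (.leaf 0x0) (.leaf 0x0)) (.node (.leaf 0x0) (.leaf 0x0)))) (.node (.node (.node (.leaf 0x0) (.leaf 0x0)) (.node (.leaf 0x0) (.leaf 0x0))) (.node (.node (.leaf 0x0) (.leaf 0x0)) (.node (.leaf 0x0) (.leaf 0x0))))) (.node (.node (.node (.node (.leaf 0x0) (.leaf 0x0)) (.node (.leaf 0x0) (.leaf 0x0))) (.node (.node (.leaf 0x0) (.leaf 0x0)) (.node (.leaf 0x0) (.leaf 0x0)))) (.node (.node (.node (.leaf 0x0) (.leaf 0x0)) (.node (.leaf 0x0) (.leaf 0x0))) (.node (.node (.leaf 0x0) (.leaf 0x0)) (.node (.leaf 0x0) (.leaf 0x0)))))))) (.node (.node (.node (.node (.node (.node (.node (.leaf 0x0) (.leaf 0x0)) (.node (.leaf 0x0) (.leaf 0x0))) (.node (.node (.leaf 0x0) (.leaf 0x0)) (.node (.leaf 0x0) (.leaf 0x0)))) (.node (.node (.node (.leaf 0x0) (.leaf 0x0)) (.node (.leaf 0x0) (.leaf 0x0))) (.node (.node (.leaf 0x0) (.leaf 0x0)) (.node (.leaf 0x0) (.leaf 0x0))))) (.node (.node (.node (.node (.leaf 0x0) (.leaf 0x0)) (.node (.leaf 0x0) (.leaf 0x0))) (.node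 (.node (.leaf 0x0) (.leaf 0x0)) (.node (.leaf 0x0) (.leaf 0x0)))) (.node (.node (.node (.leaf 0x0) (.leaf 0x0)) (.node (.leaf 0x0) (.leaf 0x0))) (.node (.node (.leaf 0x0) (.leaf 0x0)) (.node (.leaf 0x0) (.leaf 0x0)))))) (.node (.node (.node (.node (.node (.leaf 0x0) (.leaf 0x0)) (.node (.leaf 0x0) (.leaf 0x0))) (.node (.node (.leaf 0x0) (.leaf 0x0)) (.node (.leaf 0x0) (.leaf 0x0)))) (.node (.node (.node (.leaf 0x0) (.leaf 0x0)) (.node (.leaf 0x0) (.leaf 0x0))) (.node (.node (.leaf 0x0) (.leaf 0x0)) (.node (.leaf 0x0) (.leaf 0x0))))) (.node (.node (.node (.node (.leaf 0x0) (.leaf 0x0)) (.node (.leaf 0x0) (.leaf 0x0))) (.node (.node (.leaf 0x0) (.leaf 0x0)) (.node (.leaf 0x0) (.leaf 0x0)))) (.node (.node (.node (.leaf 0x0) (.leaf 0x0)) (.node (.leaf 0x0) (.leaf 0x0))) (.node (.node (.leaf 0x0) (.leaf 0x0)) (.node (.leaf 0x0) (.leaf 0x0))))))) (.node (.node (.node (.node (.node (.node (.leaf 0x0) (.leaf 0x0)) (.node (.leaf 0x0) (.leaf 0x0))) (.node (.node (.leaf 0x0) (.leaf 0x0)) (.node (.leaf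 0x0) (.leaf 0x0)))) (.node (.node (.node (.leaf 0x0) (.leaf 0x0)) (.node (.leaf 0x0) (.leaf 0x0))) (.node (.node (.leaf 0x0) (.leaf 0x0)) (.node (.leaf 0x0) (.leaf 0x0))))) (.node (.node (.node (.node (.leaf 0x0) (.leaf 0x0)) (.node (.leaf 0x0) (.leaf 0x0))) (.node (.node (.leaf 0x0) (.leaf 0x0)) (.node (.leaf 0x0) (.leaf 0x0)))) (.node (.node (.node (.leaf 0x0) (.leaf 0x0)) (.node (.leaf 0x0) (.leaf 0x0))) (.node (.node (.leaf 0x0) (.leaf 0x0)) (.node (.leaf 0x0) (.leaf 0x0)))))) (.node (.node (.node (.node (.node (.leaf 0x0) (.leaf 0x0)) (.node (.leaf 0x0) (.leaf 0x0))) (.node (.node (.leaf 0x0) (.leaf 0x0)) (.node (.leaf 0x0) (.leaf 0x0)))) (.node (.node (.node (.leaf 0x0) (.leaf 0x0)) (.node (.leaf 0x0) (.leaf 0x0))) (.node (.node (.leaf 0x0) (.leaf 0x0)) (.node (.leaf 0x0) (.leaf 0x0))))) (.node (.node (.node (.node (.leaf 0x0) (.leaf 0x0)) (.node (.leaf 0x0) (.leaf 0x0))) (.node (.node (.leaf 0x0) (.leaf 0x0)) (.node (.leaf 0x0) (.leaf 0x0)))) (.node (.node (.node (.leaf 0x0) (.leaf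 0x0)) (.node (.leaf 0x0) (.leaf 0x0))) (.node (.node (.leaf 0x0) (.leaf 0x0)) (.node (.leaf 0x0) (.leaf 0x0)))))))))
/-- prefix -/
def r00001020_pre : List (ℕ × Spec) := [(0, (0, [])), (1, (1, [])), (2, (2, [])), (3, (3, [])), (8, (4, [])), (9, (5, [])), (4, (0, [1, 2, 3, 4, 5, 6, 8, 3, 2, 1, 4, 3, 2, 5, 4, 3, 9, 8])), (5, (7, []))]
/-- node -/
noncomputable def r00001020 : Based.Node := ⟨6, [(1, [2, 3, 4, 5, 6, 7, 8, 3, 2, 4, 3, 5, 4, 6, 5, 8, 3, 2, 1, 4, 3, 2, 8, 3, 4, 5, 6, 7])], [], 1, r00001020_pts, r00001020_par, r00001020_via, r00001020_pos⟩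

/-- pts -/
noncomputable def r000010200_pts : Tr := (.leaf 0x0)
/-- par -/
noncomputable def r000010200_par : Tr := (.leaf 0x0)
/-- via -/
noncomputable def r000010200_via : Tr := (.leaf 0x0)
/-- pos -/
noncomputable def r000010200_pos : Tr := (.node (.node (.node (.node (.node (.node (.node (.node (.leaf 0x0) (.leaf 0x0)) (.node (.leaf 0x0) (.leaf 0x0))) (.node (.node (.leaf 0x0) (.leaf 0x0)) (.node (.leaf 0x0) (.leaf 0x0)))) (.node (.node (.node (.leaf 0x0) (.leaf 0x0)) (.node (.leaf 0x0) (.leaf 0x0))) (.node (.node (.leaf 0x0) (.leaf 0x0)) (.node (.leaf 0x0) (.leaf 0x0))))) (.node (.node (.node (.node (.leaf 0x0) (.leaf 0x0)) (.node (.leaf 0x0) (.leaf 0x0))) (.node (.node (.leaf 0x0) (.leaf 0x0)) (.node (.leaf 0x0) (.leaf 0x0)))) (.node (.node (.node (.leaf 0x0) (.leaf 0x0)) (.node (.leaf 0x0) (.leaf 0x0))) (.node (.node (.leaf 0x0) (.leaf 0x0)) (.node (.leaf 0x0) (.leaf 0x0)))))) (.node (.node (.node (.node (.node (.leaf 0x0) (.leaf 0x0)) (.node (.leaf 0x0) (.leaf 0x0))) (.node (.node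 (.leaf 0x0) (.leaf 0x0)) (.node (.leaf 0x0) (.leaf 0x0)))) (.node (.node (.node (.leaf 0x0) (.leaf 0x0)) (.node (.leaf 0x0) (.leaf 0x0))) (.node (.node (.leaf 0x0) (.leaf 0x0)) (.node (.leaf 0x0) (.leaf 0x0))))) (.node (.node (.node (.node (.leaf 0x0) (.leaf 0x0)) (.node (.leaf 0x0) (.leaf 0x0))) (.node (.node (.leaf 0x0) (.leaf 0x0)) (.node (.leaf 0x0) (.leaf 0x0)))) (.node (.node (.node (.leaf 0x0) (.leaf 0x0)) (.node (.leaf 0x0) (.leaf 0x0))) (.node (.node (.leaf 0x0) (.leaf 0x0)) (.node (.leaf 0x0) (.leaf 0x0))))))) (.node (.node (.node (.node (.node (.node (.leaf 0x0) (.leaf 0x0)) (.node (.leaf 0x0) (.leaf 0x0))) (.node (.node (.leaf 0x0) (.leaf 0x0)) (.node (.leaf 0x0) (.leaf 0x0)))) (.node (.node (.node (.leaf 0x0) (.leaf 0x0)) (.node (.leaf 0x0) (.leaf 0x0))) (.node (.node (.leaf 0x0) (.leaf 0x0)) (.node (.leaf 0x0) (.leaf 0x0))))) (.node (.node (.node (.node (.leaf 0x0) (.leaf 0x0)) (.node (.leaf 0x0) (.leaf 0x0))) (.node (.node (.leaf 0x0) (.leaf 0x0)) (.node (.leaf 0x0) (.leaf 0x0))))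 (.node (.node (.node (.leaf 0x0) (.leaf 0x0)) (.node (.leaf 0x0) (.leaf 0x0))) (.node (.node (.leaf 0x0) (.leaf 0x0)) (.node (.leaf 0x0) (.leaf 0x0)))))) (.node (.node (.node (.node (.node (.leaf 0x0) (.leaf 0x0)) (.node (.leaf 0x0) (.leaf 0x0))) (.node (.node (.leaf 0x0) (.leaf 0x0)) (.node (.leaf 0x0) (.leaf 0x0)))) (.node (.node (.node (.leaf 0x0) (.leaf 0x0)) (.node (.leaf 0x0) (.leaf 0x0))) (.node (.node (.leaf 0x0) (.leaf 0x0)) (.node (.leaf 0x0) (.leaf 0x0))))) (.node (.node (.node (.node (.leaf 0x0) (.leaf 0x0)) (.node (.leaf 0x0) (.leaf 0x0))) (.node (.node (.leaf 0x0) (.leaf 0x0)) (.node (.leaf 0x0) (.leaf 0x0)))) (.node (.node (.node (.leaf 0x0) (.leaf 0x0)) (.node (.leaf 0x0) (.leaf 0x0))) (.node (.node (.leaf 0x0) (.leaf 0x0)) (.node (.leaf 0x0) (.leaf 0x0)))))))) (.node (.node (.node (.node (.node (.node (.node (.leaf 0x0) (.leaf 0x0)) (.node (.leaf 0x0) (.leaf 0x0))) (.node (.node (.leaf 0x0) (.leaf 0x0)) (.node (.leaf 0x0) (.leaf 0x0)))) (.node (.node (.node (.leaf 0x0) (.leaf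 0x0)) (.node (.leaf 0x0) (.leaf 0x0))) (.node (.node (.leaf 0x0) (.leaf 0x0)) (.node (.leaf 0x0) (.leaf 0x0))))) (.node (.node (.node (.node (.leaf 0x0) (.leaf 0x0)) (.node (.leaf 0x0) (.leaf 0x0))) (.node (.node (.leaf 0x0) (.leaf 0x0)) (.node (.leaf 0x0) (.leaf 0x0)))) (.node (.node (.node (.leaf 0x0) (.leaf 0x0)) (.node (.leaf 0x0) (.leaf 0x0))) (.node (.node (.leaf 0x0) (.leaf 0x0)) (.node (.leaf 0x0) (.leaf 0x0)))))) (.node (.node (.node (.node (.node (.leaf 0x0) (.leaf 0x0)) (.node (.leaf 0x0) (.leaf 0x0))) (.node (.node (.leaf 0x0) (.leaf 0x0)) (.node (.leaf 0x0) (.leaf 0x0)))) (.node (.node (.node (.leaf 0x0) (.leaf 0x0)) (.node (.leaf 0x0) (.leaf 0x0))) (.node (.node (.leaf 0x0) (.leaf 0x0)) (.node (.leaf 0x0) (.leaf 0x0))))) (.node (.node (.node (.node (.leaf 0x0) (.leaf 0x0)) (.node (.leaf 0x0) (.leaf 0x0))) (.node (.node (.leaf 0x0) (.leaf 0x0)) (.node (.leaf 0x0) (.leaf 0x0)))) (.node (.node (.node (.leaf 0x0) (.leaf 0x0)) (.node (.leaf 0x0) (.leaf 0x0))) (.node (.node (.leaf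 0x0) (.leaf 0x0)) (.node (.leaf 0x0) (.leaf 0x0))))))) (.node (.node (.node (.node (.node (.node (.leaf 0x0) (.leaf 0x0)) (.node (.leaf 0x0) (.leaf 0x0))) (.node (.node (.leaf 0x0) (.leaf 0x0)) (.node (.leaf 0x0) (.leaf 0x0)))) (.node (.node (.node (.leaf 0x0) (.leaf 0x0)) (.node (.leaf 0x0) (.leaf 0x0))) (.node (.node (.leaf 0x0) (.leaf 0x0)) (.node (.leaf 0x0) (.leaf 0x0))))) (.node (.node (.node (.node (.leaf 0x0) (.leaf 0x0)) (.node (.leaf 0x0) (.leaf 0x0))) (.node (.node (.leaf 0x0) (.leaf 0x0)) (.node (.leaf 0x0) (.leaf 0x0)))) (.node (.node (.node (.leaf 0x0) (.leaf 0x0)) (.node (.leaf 0x0) (.leaf 0x0))) (.node (.node (.leaf 0x0) (.leaf 0x0)) (.node (.leaf 0x0) (.leaf 0x0)))))) (.node (.node (.node (.node (.node (.leaf 0x0) (.leaf 0x0)) (.node (.leaf 0x0) (.leaf 0x0))) (.node (.node (.leaf 0x0) (.leaf 0x0)) (.node (.leaf 0x0) (.leaf 0x0)))) (.node (.node (.node (.leaf 0x0) (.leaf 0x0)) (.node (.leaf 0x0) (.leaf 0x0))) (.node (.node (.leaf 0x0) (.leaf 0x0)) (.node (.leaf 0x0) (.leaf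 0x0))))) (.node (.node (.node (.node (.leaf 0x0) (.leaf 0x0)) (.node (.leaf 0x0) (.leaf 0x0))) (.node (.node (.leaf 0x0) (.leaf 0x0)) (.node (.leaf 0x0) (.leaf 0x0)))) (.node (.node (.node (.leaf 0x0) (.leaf 0x0)) (.node (.leaf 0x0) (.leaf 0x0))) (.node (.node (.leaf 0x0) (.leaf 0x0)) (.node (.leaf 0x0) (.leaf 0x0)))))))))
/-- prefix -/
def r000010200_pre : List (ℕ × Spec) := [(0, (0, [])), (1, (1, [])), (2, (2, [])), (3, (3, [])), (8, (4, [])), (9, (5, [])), (4, (0, [1, 2, 3, 4, 5, 6, 8, 3, 2, 1, 4, 3, 2, 5, 4, 3, 9, 8])), (5, (7, [])), (6, (1, [2, 3, 4, 5, 6, 7, 8, 3, 2, 4, 3, 5, 4, 6, 5, 8, 3, 2, 1, 4, 3, 2, 8, 3, 4, 5, 6, 7]))]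
/-- node -/
noncomputable def r000010200 : Based.Node := ⟨7, [], [], 0, r000010200_pts, r000010200_par, r000010200_via, r000010200_pos⟩

end CfsgLib.KnownA.FischerOut.T23
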