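import Cfsg.Agent.Lib.KnownA.FischerOut.T23Data0
import Cfsg.Agent.Lib.KnownA.FischerOut.T23Data2

/-! Checks of the search tree for Fi23 (part 0). -/

set_option autoImplicit false
set_option maxRecDepth 100000

namespace CfsgLib.KnownA.FischerOut.T23

open CfsgLib.InvChar.Coset CfsgLib.KnownA.FischerOut.Based

theorem r0_fix : Based.chkFix F23.table std r0_pre r0 = true := by decide +kernel
theorem r0_mem0 : allFrom (Based.chkMember F23.table std r0) 0 6000 = true := by decide +kernel
theorem r0_mem1 : allFrom (Based.chkMember F23.table std r0) 6000 6000 = true := by decide +kernel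
theorem r0_mem2 : allFrom (Based.chkMember F23.table std r0) 12000 6000 = true := by decide +kernel
theorem r0_mem3 : allFrom (Based.chkMember F23.table std r0) 18000 6000 = true := by decide +kernel
theorem r0_mem4 : allFrom (Based.chkMember F23.table std r0) 24000 4160 = true := by decide +kernel
theorem r0_cand0 : allFrom (Based.chkPoint F23.table std r0_pre r0) 0 6000 = true := by decide +kernel
theorem r0_cand1 : allFrom (Based.chkPoint F23.table std r0_pre r0) 6000 6000 = true := by decide +kernel
theorem r0_cand2 : allFrom (Based.chkPoint F23.table std r0_pre r0) 12000 6000 = true := by decide +kernel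
theorem r0_cand3 : allFrom (Based.chkPoint F23.table std r0_pre r0) 18000 6000 = true := by decide +kernel
theorem r0_cand4 : allFrom (Based.chkPoint F23.table std r0_pre r0) 24000 6000 = true := by decide +kernel
theorem r0_cand5 : allFrom (Based.chkPoint F23.table std r0_pre r0) 30000 1671 = true := by decide +kernel

end CfsgLib.KnownA.FischerOut.T23
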