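import Cfsg.Agent.Lib.KnownA.FischerOut.T23Data0
import Cfsg.Agent.Lib.KnownA.FischerOut.T23Data1
import Cfsg.Agent.Lib.KnownA.FischerOut.T23Data2

/-! Checks of the search tree for Fi23 (part 1). -/

set_option autoImplicit false
set_option maxRecDepth 100000

namespace CfsgLib.KnownA.FischerOut.T23

open CfsgLib.InvChar.Coset CfsgLib.KnownA.FischerOut.Based

theorem r00_fix : Based.chkFix F23.table std r00_pre r00 = true := by decide +kernel
theorem r00_mem0 : allFrom (Based.chkMember F23.table std r00) 0 3159 = true := by decide +kernel
theorem r00_cand0 : allFrom (Based.chkPoint F23.table std r00_pre r00) 0 6000 = true := by decide +kernel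
theorem r00_cand1 : allFrom (Based.chkPoint F23.table std r00_pre r00) 6000 6000 = true := by decide +kernel
theorem r00_cand2 : allFrom (Based.chkPoint F23.table std r00_pre r00) 12000 6000 = true := by decide +kernel
theorem r00_cand3 : allFrom (Based.chkPoint F23.table std r00_pre r00) 18000 6000 = true := by decide +kernel
theorem r00_cand4 : allFrom (Based.chkPoint F23.table std r00_pre r00) 24000 6000 = true := by decide +kernel
theorem r00_cand5 : allFrom (Based.chkPoint F23.table std r00_pre r00) 30000 1671 = true := by decide +kernel

theorem r000_fix : Based.chkFix F23.table std r000_pre r000 = true := by decide +kernel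
theorem r000_mem0 : allFrom (Based.chkMember F23.table std r000) 0 288 = true := by decide +kernel
theorem r000_cand0 : allFrom (Based.chkPoint F23.table std r000_pre r000) 0 6000 = true := by decide +kernel
theorem r000_cand1 : allFrom (Based.chkPoint F23.table std r000_pre r000) 6000 6000 = true := by decide +kernel
theorem r000_cand2 : allFrom (Based.chkPoint F23.table std r000_pre r000) 12000 6000 = true := by decide +kernel
theorem r000_cand3 : allFrom (Based.chkPoint F23.table std r000_pre r000) 18000 6000 = true := by decide +kernel
theorem r000_cand4 : allFrom (Based.chkPoint F23.table std r000_pre r000) 24000 6000 = true := by decide +kernel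
theorem r000_cand5 : allFrom (Based.chkPoint F23.table std r000_pre r000) 30000 1671 = true := by decide +kernel

end CfsgLib.KnownA.FischerOut.T23
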