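import Cfsg.Agent.Lib.KnownA.FischerOut.T23Data0
import Cfsg.Agent.Lib.KnownA.FischerOut.T23Data1
import Cfsg.Agent.Lib.KnownA.FischerOut.T23Data2

/-! Checks of the search tree for Fi23 (part 2). -/

set_option autoImplicit false
set_option maxRecDepth 100000

namespace CfsgLib.KnownA.FischerOut.T23

open CfsgLib.InvChar.Coset CfsgLib.KnownA.FischerOut.Based

theorem r0000_fix : Based.chkFix F23.table std r0000_pre r0000 = true := by decide +kernel
theorem r0000_mem0 : allFrom (Based.chkMember F23.table std r0000) 0 42 = true := by decide +kernel
theorem r0000_cand0 : allFrom (Based.chkPoint F23.table std r0000_pre r0000) 0 6000 = true := by decide +kernel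
theorem r0000_cand1 : allFrom (Based.chkPoint F23.table std r0000_pre r0000) 6000 6000 = true := by decide +kernel
theorem r0000_cand2 : allFrom (Based.chkPoint F23.table std r0000_pre r0000) 12000 6000 = true := by decide +kernel
theorem r0000_cand3 : allFrom (Based.chkPoint F23.table std r0000_pre r0000) 18000 6000 = true := by decide +kernel
theorem r0000_cand4 : allFrom (Based.chkPoint F23.table std r0000_pre r0000) 24000 6000 = true := by decide +kernel
theorem r0000_cand5 : allFrom (Based.chkPoint F23.table std r0000_pre r0000) 30000 1671 = true := by decide +kernel

theorem r00000_fix : Based.chkFix F23.table std r00000_pre r00000 = true := by decide +kernel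
theorem r00000_mem0 : allFrom (Based.chkMember F23.table std r00000) 0 6 = true := by decide +kernel
theorem r00000_cand0 : allFrom (Based.chkPoint F23.table std r00000_pre r00000) 0 6000 = true := by decide +kernel
theorem r00000_cand1 : allFrom (Based.chkPoint F23.table std r00000_pre r00000) 6000 6000 = true := by decide +kernel
theorem r00000_cand2 : allFrom (Based.chkPoint F23.table std r00000_pre r00000) 12000 6000 = true := by decide +kernel
theorem r00000_cand3 : allFrom (Based.chkPoint F23.table std r00000_pre r00000) 18000 6000 = true := by decide +kernel
theorem r00000_cand4 : allFrom (Based.chkPoint F23.table std r00000_pre r00000) 24000 6000 = true := by decide +kernel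
theorem r00000_cand5 : allFrom (Based.chkPoint F23.table std r00000_pre r00000) 30000 1671 = true := by decide +kernel

theorem r000000_fix : Based.chkFix F23.table std r000000_pre r000000 = true := by decide +kernel
theorem r000000_mem0 : allFrom (Based.chkMember F23.table std r000000) 0 5 = true := by decide +kernel
theorem r000000_cand0 : allFrom (Based.chkPoint F23.table std r000000_pre r000000) 0 6000 = true := by decide +kernel
theorem r000000_cand1 : allFrom (Based.chkPoint F23.table std r000000_pre r000000) 6000 6000 = true := by decide +kernel
theorem r000000_cand2 : allFrom (Based.chkPoint F23.table std r000000_pre r000000) 12000 6000 = true := by decide +kernel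
theorem r000000_cand3 : allFrom (Based.chkPoint F23.table std r000000_pre r000000) 18000 6000 = true := by decide +kernel
theorem r000000_cand4 : allFrom (Based.chkPoint F23.table std r000000_pre r000000) 24000 6000 = true := by decide +kernel
theorem r000000_cand5 : allFrom (Based.chkPoint F23.table std r000000_pre r000000) 30000 1671 = true := by decide +kernel

theorem r0000000_fix : Based.chkFix F23.table std r0000000_pre r0000000 = true := by decide +kernel
theorem r0000000_mem0 : allFrom (Based.chkMember F23.table std r0000000) 0 4 = true := by decide +kernel
theorem r0000000_cand0 : allFrom (Based.chkPoint F23.table std r0000000_pre r0000000) 0 6000 = true := by decide +kernel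
theorem r0000000_cand1 : allFrom (Based.chkPoint F23.table std r0000000_pre r0000000) 6000 6000 = true := by decide +kernel
theorem r0000000_cand2 : allFrom (Based.chkPoint F23.table std r0000000_pre r0000000) 12000 6000 = true := by decide +kernel
theorem r0000000_cand3 : allFrom (Based.chkPoint F23.table std r0000000_pre r0000000) 18000 6000 = true := by decide +kernel
theorem r0000000_cand4 : allFrom (Based.chkPoint F23.table std r0000000_pre r0000000) 24000 6000 = true := by decide +kernel
theorem r0000000_cand5 : allFrom (Based.chkPoint F23.table std r0000000_pre r0000000) 30000 1671 = true := by decide +kernel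

theorem r00000000_fix : Based.chkFix F23.table std r00000000_pre r00000000 = true := by decide +kernel
theorem r00000000_mem0 : allFrom (Based.chkMember F23.table std r00000000) 0 3 = true := by decide +kernel
theorem r00000000_cand0 : allFrom (Based.chkPoint F23.table std r00000000_pre r00000000) 0 6000 = true := by decide +kernel
theorem r00000000_cand1 : allFrom (Based.chkPoint F23.table std r00000000_pre r00000000) 6000 6000 = true := by decide +kernel
theorem r00000000_cand2 : allFrom (Based.chkPoint F23.table std r00000000_pre r00000000) 12000 6000 = true := by decide +kernel
theorem r00000000_cand3 : allFrom (Based.chkPoint F23.table std r00000000_pre r00000000) 18000 6000 = true := by decide +kernel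
theorem r00000000_cand4 : allFrom (Based.chkPoint F23.table std r00000000_pre r00000000) 24000 6000 = true := by decide +kernel
theorem r00000000_cand5 : allFrom (Based.chkPoint F23.table std r00000000_pre r00000000) 30000 1671 = true := by decide +kernel

theorem r000000000_fix : Based.chkFix F23.table std r000000000_pre r000000000 = true := by decide +kernel
theorem r000000000_mem0 : allFrom (Based.chkMember F23.table std r000000000) 0 2 = true := by decide +kernel
theorem r000000000_cand0 : allFrom (Based.chkPoint F23.table std r000000000_pre r000000000) 0 6000 = true := by decide +kernel
theorem r000000000_cand1 : allFrom (Based.chkPoint F23.table std r000000000_pre r000000000) 6000 6000 = true := by decide +kernel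
theorem r000000000_cand2 : allFrom (Based.chkPoint F23.table std r000000000_pre r000000000) 12000 6000 = true := by decide +kernel
theorem r000000000_cand3 : allFrom (Based.chkPoint F23.table std r000000000_pre r000000000) 18000 6000 = true := by decide +kernel
theorem r000000000_cand4 : allFrom (Based.chkPoint F23.table std r000000000_pre r000000000) 24000 6000 = true := by decide +kernel
theorem r000000000_cand5 : allFrom (Based.chkPoint F23.table std r000000000_pre r000000000) 30000 1671 = true := by decide +kernel

end CfsgLib.KnownA.FischerOut.T23
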