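import Cfsg.Agent.Lib.KnownA.FischerOut.T23Data0
import Cfsg.Agent.Lib.KnownA.FischerOut.T23Data1
import Cfsg.Agent.Lib.KnownA.FischerOut.T23Data2

/-! Checks of the search tree for Fi23 (part 3). -/

set_option autoImplicit false
set_option maxRecDepth 100000

namespace CfsgLib.KnownA.FischerOut.T23

open CfsgLib.InvChar.Coset CfsgLib.KnownA.FischerOut.Based

theorem r00001_fix : Based.chkFix F23.table std r00001_pre r00001 = true := by decide +kernel
theorem r00001_mem0 : allFrom (Based.chkMember F23.table std r00001) 0 12 = true := by decide +kernel
theorem r00001_cand0 : allFrom (Based.chkPoint F23.table std r00001_pre r00001) 0 6000 = true := by decide +kernel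
theorem r00001_cand1 : allFrom (Based.chkPoint F23.table std r00001_pre r00001) 6000 6000 = true := by decide +kernel
theorem r00001_cand2 : allFrom (Based.chkPoint F23.table std r00001_pre r00001) 12000 6000 = true := by decide +kernel
theorem r00001_cand3 : allFrom (Based.chkPoint F23.table std r00001_pre r00001) 18000 6000 = true := by decide +kernel
theorem r00001_cand4 : allFrom (Based.chkPoint F23.table std r00001_pre r00001) 24000 6000 = true := by decide +kernel
theorem r00001_cand5 : allFrom (Based.chkPoint F23.table std r00001_pre r00001) 30000 1671 = true := by decide +kernel

theorem r000010_fix : Based.chkFix F23.table std r000010_pre r000010 = true := by decide +kernel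
theorem r000010_mem0 : allFrom (Based.chkMember F23.table std r000010) 0 11 = true := by decide +kernel
theorem r000010_cand0 : allFrom (Based.chkPoint F23.table std r000010_pre r000010) 0 6000 = true := by decide +kernel
theorem r000010_cand1 : allFrom (Based.chkPoint F23.table std r000010_pre r000010) 6000 6000 = true := by decide +kernel
theorem r000010_cand2 : allFrom (Based.chkPoint F23.table std r000010_pre r000010) 12000 6000 = true := by decide +kernel
theorem r000010_cand3 : allFrom (Based.chkPoint F23.table std r000010_pre r000010) 18000 6000 = true := by decide +kernel
theorem r000010_cand4 : allFrom (Based.chkPoint F23.table std r000010_pre r000010) 24000 6000 = true := by decide +kernel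
theorem r000010_cand5 : allFrom (Based.chkPoint F23.table std r000010_pre r000010) 30000 1671 = true := by decide +kernel

theorem r0000100_fix : Based.chkFix F23.table std r0000100_pre r0000100 = true := by decide +kernel
theorem r0000100_mem0 : allFrom (Based.chkMember F23.table std r0000100) 0 1 = true := by decide +kernel
theorem r0000100_cand0 : allFrom (Based.chkPoint F23.table std r0000100_pre r0000100) 0 6000 = true := by decide +kernel
theorem r0000100_cand1 : allFrom (Based.chkPoint F23.table std r0000100_pre r0000100) 6000 6000 = true := by decide +kernel
theorem r0000100_cand2 : allFrom (Based.chkPoint F23.table std r0000100_pre r0000100) 12000 6000 = true := by decide +kernel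
theorem r0000100_cand3 : allFrom (Based.chkPoint F23.table std r0000100_pre r0000100) 18000 6000 = true := by decide +kernel
theorem r0000100_cand4 : allFrom (Based.chkPoint F23.table std r0000100_pre r0000100) 24000 6000 = true := by decide +kernel
theorem r0000100_cand5 : allFrom (Based.chkPoint F23.table std r0000100_pre r0000100) 30000 1671 = true := by decide +kernel

theorem r00001000_fix : Based.chkFix F23.table std r00001000_pre r00001000 = true := by decide +kernel
theorem r00001000_mem0 : allFrom (Based.chkMember F23.table std r00001000) 0 0 = true := by decide +kernel
theorem r00001000_cand0 : allFrom (Based.chkPoint F23.table std r00001000_pre r00001000) 0 6000 = true := by decide +kernel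
theorem r00001000_cand1 : allFrom (Based.chkPoint F23.table std r00001000_pre r00001000) 6000 6000 = true := by decide +kernel
theorem r00001000_cand2 : allFrom (Based.chkPoint F23.table std r00001000_pre r00001000) 12000 6000 = true := by decide +kernel
theorem r00001000_cand3 : allFrom (Based.chkPoint F23.table std r00001000_pre r00001000) 18000 6000 = true := by decide +kernel
theorem r00001000_cand4 : allFrom (Based.chkPoint F23.table std r00001000_pre r00001000) 24000 6000 = true := by decide +kernel
theorem r00001000_cand5 : allFrom (Based.chkPoint F23.table std r00001000_pre r00001000) 30000 1671 = true := by decide +kernel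

theorem r0000101_fix : Based.chkFix F23.table std r0000101_pre r0000101 = true := by decide +kernel
theorem r0000101_mem0 : allFrom (Based.chkMember F23.table std r0000101) 0 3 = true := by decide +kernel
theorem r0000101_cand0 : allFrom (Based.chkPoint F23.table std r0000101_pre r0000101) 0 6000 = true := by decide +kernel
theorem r0000101_cand1 : allFrom (Based.chkPoint F23.table std r0000101_pre r0000101) 6000 6000 = true := by decide +kernel
theorem r0000101_cand2 : allFrom (Based.chkPoint F23.table std r0000101_pre r0000101) 12000 6000 = true := by decide +kernel
theorem r0000101_cand3 : allFrom (Based.chkPoint F23.table std r0000101_pre r0000101) 18000 6000 = true := by decide +kernel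
theorem r0000101_cand4 : allFrom (Based.chkPoint F23.table std r0000101_pre r0000101) 24000 6000 = true := by decide +kernel
theorem r0000101_cand5 : allFrom (Based.chkPoint F23.table std r0000101_pre r0000101) 30000 1671 = true := by decide +kernel

theorem r00001010_fix : Based.chkFix F23.table std r00001010_pre r00001010 = true := by decide +kernel
theorem r00001010_mem0 : allFrom (Based.chkMember F23.table std r00001010) 0 1 = true := by decide +kernel
theorem r00001010_cand0 : allFrom (Based.chkPoint F23.table std r00001010_pre r00001010) 0 6000 = true := by decide +kernel
theorem r00001010_cand1 : allFrom (Based.chkPoint F23.table std r00001010_pre r00001010) 6000 6000 = true := by decide +kernel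
theorem r00001010_cand2 : allFrom (Based.chkPoint F23.table std r00001010_pre r00001010) 12000 6000 = true := by decide +kernel
theorem r00001010_cand3 : allFrom (Based.chkPoint F23.table std r00001010_pre r00001010) 18000 6000 = true := by decide +kernel
theorem r00001010_cand4 : allFrom (Based.chkPoint F23.table std r00001010_pre r00001010) 24000 6000 = true := by decide +kernel
theorem r00001010_cand5 : allFrom (Based.chkPoint F23.table std r00001010_pre r00001010) 30000 1671 = true := by decide +kernel

end CfsgLib.KnownA.FischerOut.T23
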