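import Cfsg.Agent.Lib.KnownA.FischerOut.T23Data0
import Cfsg.Agent.Lib.KnownA.FischerOut.T23Data1
import Cfsg.Agent.Lib.KnownA.FischerOut.T23Data2

/-! Checks of the search tree for Fi23 (part 4). -/

set_option autoImplicit false
set_option maxRecDepth 100000

namespace CfsgLib.KnownA.FischerOut.T23

open CfsgLib.InvChar.Coset CfsgLib.KnownA.FischerOut.Based

theorem r000010100_fix : Based.chkFix F23.table std r000010100_pre r000010100 = true := by decide +kernel
theorem r000010100_mem0 : allFrom (Based.chkMember F23.table std r000010100) 0 0 = true := by decide +kernel
theorem r000010100_cand0 : allFrom (Based.chkPoint F23.table std r000010100_pre r000010100) 0 6000 = true := by decide +kernel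
theorem r000010100_cand1 : allFrom (Based.chkPoint F23.table std r000010100_pre r000010100) 6000 6000 = true := by decide +kernel
theorem r000010100_cand2 : allFrom (Based.chkPoint F23.table std r000010100_pre r000010100) 12000 6000 = true := by decide +kernel
theorem r000010100_cand3 : allFrom (Based.chkPoint F23.table std r000010100_pre r000010100) 18000 6000 = true := by decide +kernel
theorem r000010100_cand4 : allFrom (Based.chkPoint F23.table std r000010100_pre r000010100) 24000 6000 = true := by decide +kernel
theorem r000010100_cand5 : allFrom (Based.chkPoint F23.table std r000010100_pre r000010100) 30000 1671 = true := by decide +kernel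

theorem r00001011_fix : Based.chkFix F23.table std r00001011_pre r00001011 = true := by decide +kernel
theorem r00001011_mem0 : allFrom (Based.chkMember F23.table std r00001011) 0 0 = true := by decide +kernel
theorem r00001011_cand0 : allFrom (Based.chkPoint F23.table std r00001011_pre r00001011) 0 6000 = true := by decide +kernel
theorem r00001011_cand1 : allFrom (Based.chkPoint F23.table std r00001011_pre r00001011) 6000 6000 = true := by decide +kernel
theorem r00001011_cand2 : allFrom (Based.chkPoint F23.table std r00001011_pre r00001011) 12000 6000 = true := by decide +kernel
theorem r00001011_cand3 : allFrom (Based.chkPoint F23.table std r00001011_pre r00001011) 18000 6000 = true := by decide +kernel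
theorem r00001011_cand4 : allFrom (Based.chkPoint F23.table std r00001011_pre r00001011) 24000 6000 = true := by decide +kernel
theorem r00001011_cand5 : allFrom (Based.chkPoint F23.table std r00001011_pre r00001011) 30000 1671 = true := by decide +kernel

theorem r0000102_fix : Based.chkFix F23.table std r0000102_pre r0000102 = true := by decide +kernel
theorem r0000102_mem0 : allFrom (Based.chkMember F23.table std r0000102) 0 2 = true := by decide +kernel
theorem r0000102_cand0 : allFrom (Based.chkPoint F23.table std r0000102_pre r0000102) 0 6000 = true := by decide +kernel
theorem r0000102_cand1 : allFrom (Based.chkPoint F23.table std r0000102_pre r0000102) 6000 6000 = true := by decide +kernel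
theorem r0000102_cand2 : allFrom (Based.chkPoint F23.table std r0000102_pre r0000102) 12000 6000 = true := by decide +kernel
theorem r0000102_cand3 : allFrom (Based.chkPoint F23.table std r0000102_pre r0000102) 18000 6000 = true := by decide +kernel
theorem r0000102_cand4 : allFrom (Based.chkPoint F23.table std r0000102_pre r0000102) 24000 6000 = true := by decide +kernel
theorem r0000102_cand5 : allFrom (Based.chkPoint F23.table std r0000102_pre r0000102) 30000 1671 = true := by decide +kernel

theorem r00001020_fix : Based.chkFix F23.table std r00001020_pre r00001020 = true := by decide +kernel
theorem r00001020_mem0 : allFrom (Based.chkMember F23.table std r00001020) 0 1 = true := by decide +kernel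
theorem r00001020_cand0 : allFrom (Based.chkPoint F23.table std r00001020_pre r00001020) 0 6000 = true := by decide +kernel
theorem r00001020_cand1 : allFrom (Based.chkPoint F23.table std r00001020_pre r00001020) 6000 6000 = true := by decide +kernel
theorem r00001020_cand2 : allFrom (Based.chkPoint F23.table std r00001020_pre r00001020) 12000 6000 = true := by decide +kernel
theorem r00001020_cand3 : allFrom (Based.chkPoint F23.table std r00001020_pre r00001020) 18000 6000 = true := by decide +kernel
theorem r00001020_cand4 : allFrom (Based.chkPoint F23.table std r00001020_pre r00001020) 24000 6000 = true := by decide +kernel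
theorem r00001020_cand5 : allFrom (Based.chkPoint F23.table std r00001020_pre r00001020) 30000 1671 = true := by decide +kernel

theorem r000010200_fix : Based.chkFix F23.table std r000010200_pre r000010200 = true := by decide +kernel
theorem r000010200_mem0 : allFrom (Based.chkMember F23.table std r000010200) 0 0 = true := by decide +kernel
theorem r000010200_cand0 : allFrom (Based.chkPoint F23.table std r000010200_pre r000010200) 0 6000 = true := by decide +kernel
theorem r000010200_cand1 : allFrom (Based.chkPoint F23.table std r000010200_pre r000010200) 6000 6000 = true := by decide +kernel
theorem r000010200_cand2 : allFrom (Based.chkPoint F23.table std r000010200_pre r000010200) 12000 6000 = true := by decide +kernel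
theorem r000010200_cand3 : allFrom (Based.chkPoint F23.table std r000010200_pre r000010200) 18000 6000 = true := by decide +kernel
theorem r000010200_cand4 : allFrom (Based.chkPoint F23.table std r000010200_pre r000010200) 24000 6000 = true := by decide +kernel
theorem r000010200_cand5 : allFrom (Based.chkPoint F23.table std r000010200_pre r000010200) 30000 1671 = true := by decide +kernel

end CfsgLib.KnownA.FischerOut.T23
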