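/-! A word of order 11 in the centraliser of two commuting generators of Fi23, and one inverting it. -/

set_option autoImplicit false

namespace CfsgLib.KnownA.FischerOut.T23

/-- A word of order 11. -/
def xw : List Nat := [8, 9, 8, 3, 4, 2, 3, 8, 6, 5, 4, 3, 2, 1, 2, 3, 4, 5, 6, 8, 3, 2, 4, 3, 8, 9, 8, 9, 8, 7, 6, 5, 4, 3, 2, 1, 2, 3, 4, 5, 6, 7, 8, 9, 3, 4, 2, 3, 8, 5, 4, 3, 2, 1, 0, 1, 2, 3, 4, 5, 8, 3, 2, 4, 2, 4, 3, 5, 4, 3, 2, 1, 2, 3, 4, 5, 3, 4, 2, 3, 8, 5, 4, 3, 2, 1, 0, 1, 2, 3, 4, 5, 8, 3, 2, 4, 3, 9, 8, 7, 6, 5, 4, 3, 2, 1, 2, 3, 4, 5, 6, 7, 8, 9, 8, 9, 8, 3, 4, 2, 3, 8, 6, 5, 4, 3, 2, 1, 2, 3, 4, 5, 6, 8, 3, 2, 4, 3, 8, 9, 8, 3, 2, 4, 3, 5, 4, 3, 2, 1, 2, 3, 4, 5]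

/-- A word swapping the two fixed points and inverting it. -/
def gw : List Nat := [3, 2, 4, 3, 5, 4, 3, 2, 1, 2, 3, 4, 5]

end CfsgLib.KnownA.FischerOut.T23
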