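import Cfsg.Agent.Lib.KnownA.FischerOut.T23Base
import Cfsg.Agent.Lib.KnownA.FischerOut.T23Word
import Cfsg.Agent.Lib.KnownA.FischerOut.T22Eleven

/-!
An automorphism of the presented Fi23 preserves the transpositions: the involutions centralising
a suitable element of order 11.
-/

set_option autoImplicit false
set_option maxRecDepth 100000
set_option linter.unusedSectionVars false

namespace CfsgLib.KnownA.FischerOut.T23

open CfsgLib.InvChar CfsgLib.InvChar.Coset Cfsg.Spor CfsgLib.KnownA.FischerOut.Based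

/-- The point of the third generator. -/
noncomputable def cpt : Fin F23.table.n := ⟨8003, by decide +kernel⟩

/-- The point of the fifth generator. -/
noncomputable def ept : Fin F23.table.n := ⟨8001, by decide +kernel⟩

theorem d_cpt : act.d cpt = SporFi23.gen 2 := by
  obtain ⟨p, hp, hd⟩ := hStd 2 (show 2 < 10 by omega)
  rwa [show p = cpt from Fin.ext hp] at hd

theorem d_ept : act.d ept = SporFi23.gen 4 := by
  obtain ⟨p, hp, hd⟩ := hStd 4 (show 4 < 10 by omega)
  rwa [show p = ept from Fin.ext hp] at hd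

theorem xw_lt : ∀ x ∈ xw, x < 10 := by decide +kernel

theorem gw_lt : ∀ x ∈ gw, x < 10 := by decide +kernel

/-- A row check. -/
noncomputable def rowsChk (o : ℕ) : Bool :=
  allFrom (fun i => beqB (Nat.beq (F23.table.follow xw i) i) (Nat.beq i 8003 || Nat.beq i 8001)) o 4000

theorem rows0 : rowsChk 0 = true := by decide +kernel

theorem rows1 : rowsChk 4000 = true := by decide +kernel

theorem rows2 : rowsChk 8000 = true := by decide +kernel

theorem rows3 : rowsChk 12000 = true := by decide +kernel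

theorem rows4 : rowsChk 16000 = true := by decide +kernel

theorem rows5 : rowsChk 20000 = true := by decide +kernel

theorem rows6 : rowsChk 24000 = true := by decide +kernel

theorem rows7 : rowsChk 27671 = true := by decide +kernel

theorem xw_rows (o : ℕ) (ho : o = 0 ∨ o = 4000 ∨ o = 8000 ∨ o = 12000 ∨ o = 16000 ∨ o = 20000 ∨ o = 24000 ∨ o = 27671) :
    allFrom (fun i => beqB (Nat.beq (F23.table.follow xw i) i) (Nat.beq i 8003 || Nat.beq i 8001)) o 4000 =
      true := by
  rcases ho with rfl | rfl | rfl | rfl | rfl | rfl | rfl | rfl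
  exacts [rows0, rows1, rows2, rows3, rows4, rows5, rows6, rows7]

/-- The element of order 11. -/
noncomputable def xe : Fi23 := (wprod SporFi23.gen xw)⁻¹

theorem rep_xe_fix (i : Fin F23.table.n) : act.rep xe i = i ↔ i = cpt ∨ i = ept := by
  have hi : (i : ℕ) < 31671 := i.2
  obtain ⟨o, ho, h1, h2⟩ : ∃ o, (o = 0 ∨ o = 4000 ∨ o = 8000 ∨ o = 12000 ∨ o = 16000 ∨ o = 20000 ∨ o = 24000 ∨
      o = 27671) ∧ o ≤ (i : ℕ) ∧ (i : ℕ) < o + 4000 := by
    by_cases h : (i : ℕ) < 28000
    · exact ⟨(i : ℕ) / 4000 * 4000, by omega, by omega, by omega⟩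
    · exact ⟨27671, by omega, by omega, by omega⟩
  have h := eq_of_beqB (allFrom_get _ (xw_rows o ho) i h1 h2)
  rw [← follow_apply xw xw_lt i, show ((wprod SporFi23.gen xw)⁻¹ : Fi23) = xe from rfl] at h
  constructor
  · intro e
    rw [e, Nat.beq_refl] at h
    rcases Bool.or_eq_true_iff.1 h.symm with h | h
    · exact Or.inl (Fin.ext (Nat.eq_of_beq_eq_true h))
    · exact Or.inr (Fin.ext (Nat.eq_of_beq_eq_true h))
  · intro e
    refine Fin.ext (Nat.eq_of_beq_eq_true (h.trans ?_))
    rcases e with rfl | rfl <;> rfl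

theorem std_fix {L : List ℕ} (hL : ∀ x ∈ L, x < 10)
    (h : pts.all (fun p => Nat.beq (F23.table.follow L p) p) = true) : (wprod SporFi23.gen L)⁻¹ = 1 := by
  refine eq_one_of_fix fun i hi p hp => Fin.ext ?_
  rw [follow_apply L hL p, hp]
  refine Nat.eq_of_beq_eq_true (List.all_eq_true.1 h _ ?_)
  rw [List.getD_eq_getElem _ _ (show i < pts.length from hi)]
  exact List.getElem_mem _

theorem orderOf_xe : orderOf xe = 11 := by
  haveI : Fact (Nat.Prime 11) := ⟨by norm_num⟩
  refine orderOf_eq_prime ?_ fun h => ?_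
  · have hlt : ∀ x ∈ (List.replicate 11 xw).flatten, x < 10 := by decide +kernel
    have hw := std_fix hlt (by decide +kernel)
    rw [xe, inv_pow, ← hw]
    simp [wprod, List.map_flatten, List.prod_flatten, pow_succ', mul_assoc]
  · have h1 := (rep_xe_fix ⟨0, by decide +kernel⟩).1 (by rw [h, map_one, Equiv.Perm.one_apply])
    rcases h1 with h1 | h1 <;> exact absurd (congrArg Fin.val h1) (by decide +kernel)

/-- An element exchanging the two fixed points and inverting `xe`. -/
noncomputable def ge : Fi23 := (wprod SporFi23.gen gw)⁻¹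

theorem ge_inv : ge * xe * ge⁻¹ = xe⁻¹ := by
  have hlt : ∀ x ∈ gw ++ xw ++ gw.reverse ++ xw, x < 10 := by decide +kernel
  have hw := std_fix hlt (by decide +kernel)
  rw [inv_eq_one, wprod_append, wprod_append, wprod_append, wprod_reverse SporFi23.gen SporFi23.gen_mul_self] at hw
  have h2 : wprod SporFi23.gen gw * wprod SporFi23.gen xw * (wprod SporFi23.gen gw)⁻¹ = (wprod SporFi23.gen xw)⁻¹ :=
    eq_inv_of_mul_eq_one_left hw
  rw [ge, xe, inv_inv, inv_inv]
  generalize wprod SporFi23.gen gw = a, wprod SporFi23.gen xw = b at h2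
  calc a⁻¹ * b⁻¹ * a = a⁻¹ * (a * b * a⁻¹) * a := by rw [h2]
    _ = b := by group

theorem ge_swap : act.rep ge cpt = ept ∧ act.rep ge ept = cpt :=
  ⟨Fin.ext ((follow_apply gw gw_lt cpt).trans (by decide +kernel)),
    Fin.ext ((follow_apply gw gw_lt ept).trans (by decide +kernel))⟩

theorem mem_H {g : Fi23} (h : act.rep g act.o = act.o) : g ∈ SporFi23.H := by
  rw [← SporFi23.centralizer_t, Subgroup.mem_centralizer_singleton_iff]
  exact mul_inv_eq_iff_eq_mul.1 ((act.stab g).1 h)

theorem t_mem_ker : SporFi23.toFi22 ⟨SporFi23.t, SporFi23.t_mem⟩ = 1 :=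
  SporFi23.toFi22_eq _ SporFi23.t_induces

theorem eq_of_image_one {k : ↥SporFi23.H} (h : SporFi23.toFi22 k = 1) :
    (k : Fi23) = 1 ∨ (k : Fi23) = SporFi23.t := by
  by_cases hk : k = 1
  · exact Or.inl (by rw [hk]; rfl)
  · have ht : (⟨SporFi23.t, SporFi23.t_mem⟩ : ↥SporFi23.H) ≠ 1 := fun e =>
      SporFi23.t_ne_one (congrArg Subtype.val e)
    exact Or.inr (congrArg Subtype.val ((SporFi23.eq_of_mem_ker h hk).trans
      (SporFi23.eq_of_mem_ker t_mem_ker ht).symm))

theorem exists_fix22 {y : Fi22} (hy : orderOf y = 11) : ∃ p, SporFi22.rep y p = p := by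
  haveI : Fact (Nat.Prime 11) := ⟨by norm_num⟩
  refine Equiv.Perm.exists_fixed_point_of_prime (p := 11) (n := 1) ?_ ?_
  · rw [Fintype.card_fin]
    decide +kernel
  · rw [pow_one, ← hy, ← map_pow, pow_orderOf_eq_one, map_one]

theorem orderOf_toFi22 {k : ↥SporFi23.H} (hk : orderOf (k : Fi23) = 11) : orderOf (SporFi23.toFi22 k) = 11 := by
  haveI : Fact (Nat.Prime 11) := ⟨by norm_num⟩
  refine orderOf_eq_prime ?_ fun h => ?_
  · rw [← map_pow, show k ^ 11 = 1 from Subtype.ext (by
      rw [Subgroup.coe_pow, Subgroup.coe_one, ← hk, pow_orderOf_eq_one]), map_one]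
  · rcases eq_of_image_one h with h | h <;> rw [h] at hk
    · simp at hk
    · rw [SporFi23.orderOf_t] at hk
      omega

/-- The involutions centralising `xe`. -/
theorem involution_cases {s : Fi23} (hs : orderOf s = 2) (hc : Commute s xe) :
    s = SporFi23.gen 2 ∨ s = SporFi23.gen 4 ∨ s = SporFi23.gen 2 * SporFi23.gen 4 := by
  haveI := SporFi23.finite
  have hx := rep_xe_fix
  have hperm : act.rep s cpt = cpt ∨ act.rep s cpt = ept := by
    refine (hx _).1 ?_
    rw [← Equiv.Perm.mul_apply, ← map_mul, ← hc.eq, map_mul, Equiv.Perm.mul_apply, (hx cpt).2 (Or.inl rfl)]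
  obtain ⟨u, hu⟩ := act.trans cpt
  have hu' : act.rep u act.o = cpt := hu
  have hinv : act.rep u⁻¹ cpt = act.o := by
    rw [map_inv, Equiv.Perm.inv_eq_iff_eq]; exact hu'.symm
  have hmove : ∀ g, act.rep g cpt = cpt → u⁻¹ * g * u ∈ SporFi23.H := fun g hg => mem_H (by
    rw [map_mul, map_mul, Equiv.Perm.mul_apply, Equiv.Perm.mul_apply, hu', hg, hinv])
  have hordc : ∀ g : Fi23, orderOf (u⁻¹ * g * u) = orderOf g := fun g => by
    rw [show u⁻¹ * g * u = MulAut.conj u⁻¹ g by simp, MulEquiv.orderOf_eq]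
  have hxH := hmove xe ((hx cpt).2 (Or.inl rfl))
  obtain ⟨Y, hY⟩ : ∃ Y : ↥SporFi23.H, (Y : Fi23) = u⁻¹ * xe * u := ⟨⟨_, hxH⟩, rfl⟩
  have hyo : orderOf (SporFi23.toFi22 Y) = 11 := orderOf_toFi22 (by rw [hY, hordc, orderOf_xe])
  obtain ⟨p, hp⟩ := exists_fix22 hyo
  rcases hperm with hsc | hsc
  · -- it fixes the first point
    have hsH := hmove s hsc
    have hdc : act.rep (SporFi23.gen 4) cpt = cpt := by
      rw [show (SporFi23.gen 4 : Fi23) = (wprod SporFi23.gen [4])⁻¹ by simp [wprod, SporFi23.inv_gen]]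
      exact Fin.ext ((follow_apply [4] (by decide) cpt).trans (by decide +kernel))
    have hqH := hmove _ hdc
    obtain ⟨S, hS⟩ : ∃ S : ↥SporFi23.H, (S : Fi23) = u⁻¹ * s * u := ⟨⟨_, hsH⟩, rfl⟩
    obtain ⟨Q, hQ⟩ : ∃ Q : ↥SporFi23.H, (Q : Fi23) = u⁻¹ * SporFi23.gen 4 * u := ⟨⟨_, hqH⟩, rfl⟩
    have himg : ∀ (K : ↥SporFi23.H) (g : Fi23), (K : Fi23) = u⁻¹ * g * u → orderOf g = 2 → Commute g xe →
        SporFi23.toFi22 K ≠ 1 → SporFi23.toFi22 K = T22.act.d p := by
      intro K g hK hg hgx hne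
      refine (T22.fix_unique hyo hp hp).2 _ ?_ ?_
      · haveI : Fact (Nat.Prime 2) := ⟨by norm_num⟩
        refine orderOf_eq_prime ?_ hne
        rw [← map_pow, show K ^ 2 = 1 from Subtype.ext (by
          rw [Subgroup.coe_pow, Subgroup.coe_one, hK, ← hg, ← hordc g, pow_orderOf_eq_one]), map_one]
      · have hKY : Commute K Y := Subtype.ext (by
          simp only [Subgroup.coe_mul, hK, hY]
          calc u⁻¹ * g * u * (u⁻¹ * xe * u) = u⁻¹ * (g * xe) * u := by group
            _ = u⁻¹ * (xe * g) * u := by rw [hgx.eq]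
            _ = u⁻¹ * xe * u * (u⁻¹ * g * u) := by group)
        exact hKY.map SporFi23.toFi22
    have hgen4 : orderOf (SporFi23.gen 4 : Fi23) = 2 := by
      rw [← d_ept, Based.Act.d, show ∀ g : Fi23, g * act.z * g⁻¹ = MulAut.conj g act.z from fun _ => rfl,
        MulEquiv.orderOf_eq]
      exact SporFi23.orderOf_t
    have hgx : Commute (SporFi23.gen 4 : Fi23) xe := by
      have := act.conj_d xe ept
      rw [(hx ept).2 (Or.inr rfl), d_ept] at this
      exact (mul_inv_eq_iff_eq_mul.1 this).symm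
    have hc_u : u * SporFi23.t * u⁻¹ = SporFi23.gen 2 := by rw [← d_cpt, ← hu', act.d_eq]; rfl
    have hne : SporFi23.toFi22 Q ≠ 1 := by
      intro h
      rcases eq_of_image_one h with h | h <;> rw [hQ] at h
      · have h1 := hordc (SporFi23.gen 4)
        rw [h, orderOf_one, hgen4] at h1
        omega
      · have h1 : (SporFi23.gen 4 : Fi23) = SporFi23.gen 2 := by rw [← hc_u, ← h]; group
        rw [← d_ept, ← d_cpt] at h1
        exact absurd (congrArg Fin.val (act.d_injective h1)) (by decide +kernel)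
    by_cases h1 : SporFi23.toFi22 S = 1
    · rcases eq_of_image_one h1 with h | h <;> rw [hS] at h
      · have h2 := hordc s
        rw [h, orderOf_one, hs] at h2
        omega
      · refine Or.inl ?_
        rw [← hc_u, ← h]; group
    · have h2 : SporFi23.toFi22 (S * Q⁻¹) = 1 := by
        rw [map_mul, map_inv, himg S s hS hs hc h1, himg Q _ hQ hgen4 hgx hne, mul_inv_cancel]
      have hQinv : ((Q⁻¹ : ↥SporFi23.H) : Fi23) = u⁻¹ * SporFi23.gen 4 * u := by
        rw [Subgroup.coe_inv, hQ, mul_inv_rev, mul_inv_rev, inv_inv, SporFi23.inv_gen, mul_assoc]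
      rcases eq_of_image_one h2 with h | h <;> rw [Subgroup.coe_mul, hQinv, hS] at h
      · refine Or.inr (Or.inl ?_)
        have h' : s * SporFi23.gen 4 = 1 := by
          calc s * SporFi23.gen 4 = u * (u⁻¹ * s * u * (u⁻¹ * SporFi23.gen 4 * u)) * u⁻¹ := by group
            _ = 1 := by rw [h]; group
        rw [eq_inv_of_mul_eq_one_left h', SporFi23.inv_gen]
      · refine Or.inr (Or.inr ?_)
        have h' : s * SporFi23.gen 4 = SporFi23.gen 2 := by
          rw [← hc_u, ← h]; group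
        rw [← h', mul_assoc, SporFi23.gen_mul_self, mul_one]
  · -- it cannot exchange the two points
    exfalso
    have hw : act.rep (ge * s) cpt = cpt := by
      rw [map_mul, Equiv.Perm.mul_apply, hsc, ge_swap.2]
    obtain ⟨W, hW⟩ : ∃ W : ↥SporFi23.H, (W : Fi23) = u⁻¹ * (ge * s) * u := ⟨⟨_, hmove _ hw⟩, rfl⟩
    refine T22.not_inverted (w := SporFi23.toFi22 W) hyo ⟨p, hp⟩ ?_
    rw [← map_mul, ← map_inv, ← map_mul, ← map_inv]
    refine congrArg _ (Subtype.ext ?_)
    simp only [Subgroup.coe_mul, Subgroup.coe_inv, hW, hY]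
    calc u⁻¹ * (ge * s) * u * (u⁻¹ * xe * u) * (u⁻¹ * (ge * s) * u)⁻¹
        = u⁻¹ * (ge * (s * xe) * s⁻¹ * ge⁻¹) * u := by group
      _ = u⁻¹ * (ge * xe * ge⁻¹) * u := by rw [hc.eq]; group
      _ = (u⁻¹ * xe * u)⁻¹ := by rw [ge_inv]; group

/-- An automorphism maps the base transposition to a transposition. -/
theorem apply_zero (φ : MulAut Fi23) : ∃ p, φ act.z = act.d p := by
  haveI := SporFi23.finite
  haveI : Fact (Nat.Prime 11) := ⟨by norm_num⟩
  have hcard : 11 ^ (Nat.card Fi23).factorization 11 = 11 := by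
    rw [SporFi23.card_eq.1, show (4089470473293004800 : ℕ) = 11 ^ 1 * 371770043026636800 by norm_num,
      Nat.factorization_mul (by norm_num) (by norm_num), Finsupp.add_apply,
      Nat.Prime.factorization_pow (by norm_num : Nat.Prime 11), Finsupp.single_eq_same,
      Nat.factorization_eq_zero_of_not_dvd (by norm_num), pow_one]
  have ho : orderOf (φ xe) = 11 := by rw [MulEquiv.orderOf_eq, orderOf_xe]
  let P : Sylow 11 Fi23 := Sylow.ofCard (Subgroup.zpowers (φ xe)) (by rw [Nat.card_zpowers, ho, hcard])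
  let Q : Sylow 11 Fi23 := Sylow.ofCard (Subgroup.zpowers xe) (by rw [Nat.card_zpowers, orderOf_xe, hcard])
  obtain ⟨g, hg⟩ := MulAction.exists_smul_eq Fi23 P Q
  have hmem : xe ∈ (Q : Subgroup Fi23) := by simp [Q]
  rw [← hg, Sylow.coe_subgroup_smul, Subgroup.mem_smul_pointwise_iff_exists] at hmem
  obtain ⟨y, hy, hyx⟩ := hmem
  have hy' : y ∈ Subgroup.zpowers (φ xe) := by simpa [P] using hy
  obtain ⟨k, rfl⟩ := Subgroup.mem_zpowers_iff.1 hy'
  -- the images of the two fixed transpositions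
  have himg : ∀ i, i = cpt ∨ i = ept → orderOf (g * φ (act.d i) * g⁻¹) = 2 ∧
      Commute (g * φ (act.d i) * g⁻¹) xe := by
    intro i hi
    constructor
    · rw [show g * φ (act.d i) * g⁻¹ = MulAut.conj g (φ (act.d i)) from rfl, MulEquiv.orderOf_eq,
        MulEquiv.orderOf_eq, Based.Act.d, show ∀ h : Fi23, h * act.z * h⁻¹ = MulAut.conj h act.z from fun _ => rfl,
        MulEquiv.orderOf_eq]
      exact SporFi23.orderOf_t
    · rw [← hyx]
      refine (Commute.zpow_right ?_ k).map (MulAut.conj g).toMonoidHom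
      have := act.conj_d xe i
      rw [(rep_xe_fix i).2 hi] at this
      exact (show Commute (act.d i) xe from (mul_inv_eq_iff_eq_mul.1 this).symm).map φ
  have hce : g * φ (act.d cpt) * g⁻¹ ≠ g * φ (act.d ept) * g⁻¹ := fun h => by
    have h1 := act.d_injective (φ.injective (mul_left_cancel (mul_right_cancel h)))
    exact absurd (congrArg Fin.val h1) (by decide +kernel)
  obtain ⟨i, q, hq⟩ : ∃ i q, g * φ (act.d i) * g⁻¹ = act.d q := by
    rcases involution_cases (himg _ (Or.inl rfl)).1 (himg _ (Or.inl rfl)).2 with h | h | h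
    · exact ⟨_, _, h.trans d_cpt.symm⟩
    · exact ⟨_, _, h.trans d_ept.symm⟩
    · rcases involution_cases (himg _ (Or.inr rfl)).1 (himg _ (Or.inr rfl)).2 with h' | h' | h'
      · exact ⟨_, _, h'.trans d_cpt.symm⟩
      · exact ⟨_, _, h'.trans d_ept.symm⟩
      · exact absurd (h.trans h'.symm) hce
  obtain ⟨v, hv⟩ := act.trans i
  have hv' : act.d i = v * act.z * v⁻¹ := by rw [← hv]; exact act.d_eq v
  refine ⟨act.rep (g * φ v)⁻¹ q, ?_⟩
  rw [← act.conj_d, inv_inv, ← hq, hv', map_mul, map_mul, map_inv]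
  group

end CfsgLib.KnownA.FischerOut.T23
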