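import Cfsg.Agent.Lib.KnownA.FischerOut.T23Check0
import Cfsg.Agent.Lib.KnownA.FischerOut.T23Check1
import Cfsg.Agent.Lib.KnownA.FischerOut.T23Check2
import Cfsg.Agent.Lib.KnownA.FischerOut.T23Check3
import Cfsg.Agent.Lib.KnownA.FischerOut.T23Check4

/-! Every diagram tuple of Fi23 is conjugate to the standard one. -/

set_option autoImplicit false
set_option maxRecDepth 100000

namespace CfsgLib.KnownA.FischerOut.T23

open CfsgLib.InvChar.Coset CfsgLib.KnownA.FischerOut.Based

variable {G : Type*} [Group G] (A : Based.Act F23.table G) (hS : Based.Std A std)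
include hS

/-- prefix -/
def r0000000000_pre : List (ℕ × Spec) := [(0, (0, [])), (1, (1, [])), (2, (2, [])), (3, (3, [])), (8, (8, [])), (9, (9, [])), (4, (4, [])), (5, (5, [])), (6, (6, [])), (7, (7, []))]

omit hS in
theorem r0000000000_good : Based.Good A std r0000000000_pre :=
  Based.good_leaf A (by decide +kernel)

theorem r000010200_good : Based.Good A std r000010200_pre := by
  refine Based.good_step A hS r000010200 r000010200_fix (fun i hi => ?_) (fun i hi => ?_) ?_
  · replace hi : i < 0 := hi
    omega
  · replace hi : i < 31671 := hi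
    rcases Nat.lt_or_ge i 6000 with h0 | h0
    · exact allFrom_get _ r000010200_cand0 i (by omega) (by omega)
    rcases Nat.lt_or_ge i 12000 with h1 | h1
    · exact allFrom_get _ r000010200_cand1 i (by omega) (by omega)
    rcases Nat.lt_or_ge i 18000 with h2 | h2
    · exact allFrom_get _ r000010200_cand2 i (by omega) (by omega)
    rcases Nat.lt_or_ge i 24000 with h3 | h3
    · exact allFrom_get _ r000010200_cand3 i (by omega) (by omega)
    rcases Nat.lt_or_ge i 30000 with h4 | h4
    · exact allFrom_get _ r000010200_cand4 i (by omega) (by omega)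
    exact allFrom_get _ r000010200_cand5 i (by omega) (by omega)
  · exact List.forall_mem_nil _

theorem r00001020_good : Based.Good A std r00001020_pre := by
  refine Based.good_step A hS r00001020 r00001020_fix (fun i hi => ?_) (fun i hi => ?_) ?_
  · replace hi : i < 1 := hi
    exact allFrom_get _ r00001020_mem0 i (by omega) (by omega)
  · replace hi : i < 31671 := hi
    rcases Nat.lt_or_ge i 6000 with h0 | h0
    · exact allFrom_get _ r00001020_cand0 i (by omega) (by omega)
    rcases Nat.lt_or_ge i 12000 with h1 | h1
    · exact allFrom_get _ r00001020_cand1 i (by omega) (by omega)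
    rcases Nat.lt_or_ge i 18000 with h2 | h2
    · exact allFrom_get _ r00001020_cand2 i (by omega) (by omega)
    rcases Nat.lt_or_ge i 24000 with h3 | h3
    · exact allFrom_get _ r00001020_cand3 i (by omega) (by omega)
    rcases Nat.lt_or_ge i 30000 with h4 | h4
    · exact allFrom_get _ r00001020_cand4 i (by omega) (by omega)
    exact allFrom_get _ r00001020_cand5 i (by omega) (by omega)
  · exact List.forall_mem_cons.2 ⟨r000010200_good A hS, List.forall_mem_nil _⟩

theorem r0000102_good : Based.Good A std r0000102_pre := by
  refine Based.good_step A hS r0000102 r0000102_fix (fun i hi => ?_) (fun i hi => ?_) ?_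
  · replace hi : i < 2 := hi
    exact allFrom_get _ r0000102_mem0 i (by omega) (by omega)
  · replace hi : i < 31671 := hi
    rcases Nat.lt_or_ge i 6000 with h0 | h0
    · exact allFrom_get _ r0000102_cand0 i (by omega) (by omega)
    rcases Nat.lt_or_ge i 12000 with h1 | h1
    · exact allFrom_get _ r0000102_cand1 i (by omega) (by omega)
    rcases Nat.lt_or_ge i 18000 with h2 | h2
    · exact allFrom_get _ r0000102_cand2 i (by omega) (by omega)
    rcases Nat.lt_or_ge i 24000 with h3 | h3
    · exact allFrom_get _ r0000102_cand3 i (by omega) (by omega)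
    rcases Nat.lt_or_ge i 30000 with h4 | h4
    · exact allFrom_get _ r0000102_cand4 i (by omega) (by omega)
    exact allFrom_get _ r0000102_cand5 i (by omega) (by omega)
  · exact List.forall_mem_cons.2 ⟨r00001020_good A hS, List.forall_mem_nil _⟩

theorem r00001011_good : Based.Good A std r00001011_pre := by
  refine Based.good_step A hS r00001011 r00001011_fix (fun i hi => ?_) (fun i hi => ?_) ?_
  · replace hi : i < 0 := hi
    omega
  · replace hi : i < 31671 := hi
    rcases Nat.lt_or_ge i 6000 with h0 | h0
    · exact allFrom_get _ r00001011_cand0 i (by omega) (by omega)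
    rcases Nat.lt_or_ge i 12000 with h1 | h1
    · exact allFrom_get _ r00001011_cand1 i (by omega) (by omega)
    rcases Nat.lt_or_ge i 18000 with h2 | h2
    · exact allFrom_get _ r00001011_cand2 i (by omega) (by omega)
    rcases Nat.lt_or_ge i 24000 with h3 | h3
    · exact allFrom_get _ r00001011_cand3 i (by omega) (by omega)
    rcases Nat.lt_or_ge i 30000 with h4 | h4
    · exact allFrom_get _ r00001011_cand4 i (by omega) (by omega)
    exact allFrom_get _ r00001011_cand5 i (by omega) (by omega)
  · exact List.forall_mem_nil _

theorem r000010100_good : Based.Good A std r000010100_pre := by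
  refine Based.good_step A hS r000010100 r000010100_fix (fun i hi => ?_) (fun i hi => ?_) ?_
  · replace hi : i < 0 := hi
    omega
  · replace hi : i < 31671 := hi
    rcases Nat.lt_or_ge i 6000 with h0 | h0
    · exact allFrom_get _ r000010100_cand0 i (by omega) (by omega)
    rcases Nat.lt_or_ge i 12000 with h1 | h1
    · exact allFrom_get _ r000010100_cand1 i (by omega) (by omega)
    rcases Nat.lt_or_ge i 18000 with h2 | h2
    · exact allFrom_get _ r000010100_cand2 i (by omega) (by omega)
    rcases Nat.lt_or_ge i 24000 with h3 | h3
    · exact allFrom_get _ r000010100_cand3 i (by omega) (by omega)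
    rcases Nat.lt_or_ge i 30000 with h4 | h4
    · exact allFrom_get _ r000010100_cand4 i (by omega) (by omega)
    exact allFrom_get _ r000010100_cand5 i (by omega) (by omega)
  · exact List.forall_mem_nil _

theorem r00001010_good : Based.Good A std r00001010_pre := by
  refine Based.good_step A hS r00001010 r00001010_fix (fun i hi => ?_) (fun i hi => ?_) ?_
  · replace hi : i < 1 := hi
    exact allFrom_get _ r00001010_mem0 i (by omega) (by omega)
  · replace hi : i < 31671 := hi
    rcases Nat.lt_or_ge i 6000 with h0 | h0
    · exact allFrom_get _ r00001010_cand0 i (by omega) (by omega)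
    rcases Nat.lt_or_ge i 12000 with h1 | h1
    · exact allFrom_get _ r00001010_cand1 i (by omega) (by omega)
    rcases Nat.lt_or_ge i 18000 with h2 | h2
    · exact allFrom_get _ r00001010_cand2 i (by omega) (by omega)
    rcases Nat.lt_or_ge i 24000 with h3 | h3
    · exact allFrom_get _ r00001010_cand3 i (by omega) (by omega)
    rcases Nat.lt_or_ge i 30000 with h4 | h4
    · exact allFrom_get _ r00001010_cand4 i (by omega) (by omega)
    exact allFrom_get _ r00001010_cand5 i (by omega) (by omega)
  · exact List.forall_mem_cons.2 ⟨r000010100_good A hS, List.forall_mem_nil _⟩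

theorem r0000101_good : Based.Good A std r0000101_pre := by
  refine Based.good_step A hS r0000101 r0000101_fix (fun i hi => ?_) (fun i hi => ?_) ?_
  · replace hi : i < 3 := hi
    exact allFrom_get _ r0000101_mem0 i (by omega) (by omega)
  · replace hi : i < 31671 := hi
    rcases Nat.lt_or_ge i 6000 with h0 | h0
    · exact allFrom_get _ r0000101_cand0 i (by omega) (by omega)
    rcases Nat.lt_or_ge i 12000 with h1 | h1
    · exact allFrom_get _ r0000101_cand1 i (by omega) (by omega)
    rcases Nat.lt_or_ge i 18000 with h2 | h2
    · exact allFrom_get _ r0000101_cand2 i (by omega) (by omega)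
    rcases Nat.lt_or_ge i 24000 with h3 | h3
    · exact allFrom_get _ r0000101_cand3 i (by omega) (by omega)
    rcases Nat.lt_or_ge i 30000 with h4 | h4
    · exact allFrom_get _ r0000101_cand4 i (by omega) (by omega)
    exact allFrom_get _ r0000101_cand5 i (by omega) (by omega)
  · exact List.forall_mem_cons.2 ⟨r00001010_good A hS, List.forall_mem_cons.2 ⟨r00001011_good A hS, List.forall_mem_nil _⟩⟩

theorem r00001000_good : Based.Good A std r00001000_pre := by
  refine Based.good_step A hS r00001000 r00001000_fix (fun i hi => ?_) (fun i hi => ?_) ?_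
  · replace hi : i < 0 := hi
    omega
  · replace hi : i < 31671 := hi
    rcases Nat.lt_or_ge i 6000 with h0 | h0
    · exact allFrom_get _ r00001000_cand0 i (by omega) (by omega)
    rcases Nat.lt_or_ge i 12000 with h1 | h1
    · exact allFrom_get _ r00001000_cand1 i (by omega) (by omega)
    rcases Nat.lt_or_ge i 18000 with h2 | h2
    · exact allFrom_get _ r00001000_cand2 i (by omega) (by omega)
    rcases Nat.lt_or_ge i 24000 with h3 | h3
    · exact allFrom_get _ r00001000_cand3 i (by omega) (by omega)
    rcases Nat.lt_or_ge i 30000 with h4 | h4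
    · exact allFrom_get _ r00001000_cand4 i (by omega) (by omega)
    exact allFrom_get _ r00001000_cand5 i (by omega) (by omega)
  · exact List.forall_mem_nil _

theorem r0000100_good : Based.Good A std r0000100_pre := by
  refine Based.good_step A hS r0000100 r0000100_fix (fun i hi => ?_) (fun i hi => ?_) ?_
  · replace hi : i < 1 := hi
    exact allFrom_get _ r0000100_mem0 i (by omega) (by omega)
  · replace hi : i < 31671 := hi
    rcases Nat.lt_or_ge i 6000 with h0 | h0
    · exact allFrom_get _ r0000100_cand0 i (by omega) (by omega)
    rcases Nat.lt_or_ge i 12000 with h1 | h1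
    · exact allFrom_get _ r0000100_cand1 i (by omega) (by omega)
    rcases Nat.lt_or_ge i 18000 with h2 | h2
    · exact allFrom_get _ r0000100_cand2 i (by omega) (by omega)
    rcases Nat.lt_or_ge i 24000 with h3 | h3
    · exact allFrom_get _ r0000100_cand3 i (by omega) (by omega)
    rcases Nat.lt_or_ge i 30000 with h4 | h4
    · exact allFrom_get _ r0000100_cand4 i (by omega) (by omega)
    exact allFrom_get _ r0000100_cand5 i (by omega) (by omega)
  · exact List.forall_mem_cons.2 ⟨r00001000_good A hS, List.forall_mem_nil _⟩

theorem r000010_good : Based.Good A std r000010_pre := by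
  refine Based.good_step A hS r000010 r000010_fix (fun i hi => ?_) (fun i hi => ?_) ?_
  · replace hi : i < 11 := hi
    exact allFrom_get _ r000010_mem0 i (by omega) (by omega)
  · replace hi : i < 31671 := hi
    rcases Nat.lt_or_ge i 6000 with h0 | h0
    · exact allFrom_get _ r000010_cand0 i (by omega) (by omega)
    rcases Nat.lt_or_ge i 12000 with h1 | h1
    · exact allFrom_get _ r000010_cand1 i (by omega) (by omega)
    rcases Nat.lt_or_ge i 18000 with h2 | h2
    · exact allFrom_get _ r000010_cand2 i (by omega) (by omega)
    rcases Nat.lt_or_ge i 24000 with h3 | h3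
    · exact allFrom_get _ r000010_cand3 i (by omega) (by omega)
    rcases Nat.lt_or_ge i 30000 with h4 | h4
    · exact allFrom_get _ r000010_cand4 i (by omega) (by omega)
    exact allFrom_get _ r000010_cand5 i (by omega) (by omega)
  · exact List.forall_mem_cons.2 ⟨r0000100_good A hS, List.forall_mem_cons.2 ⟨r0000101_good A hS, List.forall_mem_cons.2 ⟨r0000102_good A hS, List.forall_mem_nil _⟩⟩⟩

theorem r00001_good : Based.Good A std r00001_pre := by
  refine Based.good_step A hS r00001 r00001_fix (fun i hi => ?_) (fun i hi => ?_) ?_
  · replace hi : i < 12 := hi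
    exact allFrom_get _ r00001_mem0 i (by omega) (by omega)
  · replace hi : i < 31671 := hi
    rcases Nat.lt_or_ge i 6000 with h0 | h0
    · exact allFrom_get _ r00001_cand0 i (by omega) (by omega)
    rcases Nat.lt_or_ge i 12000 with h1 | h1
    · exact allFrom_get _ r00001_cand1 i (by omega) (by omega)
    rcases Nat.lt_or_ge i 18000 with h2 | h2
    · exact allFrom_get _ r00001_cand2 i (by omega) (by omega)
    rcases Nat.lt_or_ge i 24000 with h3 | h3
    · exact allFrom_get _ r00001_cand3 i (by omega) (by omega)
    rcases Nat.lt_or_ge i 30000 with h4 | h4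
    · exact allFrom_get _ r00001_cand4 i (by omega) (by omega)
    exact allFrom_get _ r00001_cand5 i (by omega) (by omega)
  · exact List.forall_mem_cons.2 ⟨r000010_good A hS, List.forall_mem_nil _⟩

theorem r000000000_good : Based.Good A std r000000000_pre := by
  refine Based.good_step A hS r000000000 r000000000_fix (fun i hi => ?_) (fun i hi => ?_) ?_
  · replace hi : i < 2 := hi
    exact allFrom_get _ r000000000_mem0 i (by omega) (by omega)
  · replace hi : i < 31671 := hi
    rcases Nat.lt_or_ge i 6000 with h0 | h0
    · exact allFrom_get _ r000000000_cand0 i (by omega) (by omega)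
    rcases Nat.lt_or_ge i 12000 with h1 | h1
    · exact allFrom_get _ r000000000_cand1 i (by omega) (by omega)
    rcases Nat.lt_or_ge i 18000 with h2 | h2
    · exact allFrom_get _ r000000000_cand2 i (by omega) (by omega)
    rcases Nat.lt_or_ge i 24000 with h3 | h3
    · exact allFrom_get _ r000000000_cand3 i (by omega) (by omega)
    rcases Nat.lt_or_ge i 30000 with h4 | h4
    · exact allFrom_get _ r000000000_cand4 i (by omega) (by omega)
    exact allFrom_get _ r000000000_cand5 i (by omega) (by omega)
  · exact List.forall_mem_cons.2 ⟨r0000000000_good A, List.forall_mem_nil _⟩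

theorem r00000000_good : Based.Good A std r00000000_pre := by
  refine Based.good_step A hS r00000000 r00000000_fix (fun i hi => ?_) (fun i hi => ?_) ?_
  · replace hi : i < 3 := hi
    exact allFrom_get _ r00000000_mem0 i (by omega) (by omega)
  · replace hi : i < 31671 := hi
    rcases Nat.lt_or_ge i 6000 with h0 | h0
    · exact allFrom_get _ r00000000_cand0 i (by omega) (by omega)
    rcases Nat.lt_or_ge i 12000 with h1 | h1
    · exact allFrom_get _ r00000000_cand1 i (by omega) (by omega)
    rcases Nat.lt_or_ge i 18000 with h2 | h2
    · exact allFrom_get _ r00000000_cand2 i (by omega) (by omega)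
    rcases Nat.lt_or_ge i 24000 with h3 | h3
    · exact allFrom_get _ r00000000_cand3 i (by omega) (by omega)
    rcases Nat.lt_or_ge i 30000 with h4 | h4
    · exact allFrom_get _ r00000000_cand4 i (by omega) (by omega)
    exact allFrom_get _ r00000000_cand5 i (by omega) (by omega)
  · exact List.forall_mem_cons.2 ⟨r000000000_good A hS, List.forall_mem_nil _⟩

theorem r0000000_good : Based.Good A std r0000000_pre := by
  refine Based.good_step A hS r0000000 r0000000_fix (fun i hi => ?_) (fun i hi => ?_) ?_
  · replace hi : i < 4 := hi
    exact allFrom_get _ r0000000_mem0 i (by omega) (by omega)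
  · replace hi : i < 31671 := hi
    rcases Nat.lt_or_ge i 6000 with h0 | h0
    · exact allFrom_get _ r0000000_cand0 i (by omega) (by omega)
    rcases Nat.lt_or_ge i 12000 with h1 | h1
    · exact allFrom_get _ r0000000_cand1 i (by omega) (by omega)
    rcases Nat.lt_or_ge i 18000 with h2 | h2
    · exact allFrom_get _ r0000000_cand2 i (by omega) (by omega)
    rcases Nat.lt_or_ge i 24000 with h3 | h3
    · exact allFrom_get _ r0000000_cand3 i (by omega) (by omega)
    rcases Nat.lt_or_ge i 30000 with h4 | h4
    · exact allFrom_get _ r0000000_cand4 i (by omega) (by omega)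
    exact allFrom_get _ r0000000_cand5 i (by omega) (by omega)
  · exact List.forall_mem_cons.2 ⟨r00000000_good A hS, List.forall_mem_nil _⟩

theorem r000000_good : Based.Good A std r000000_pre := by
  refine Based.good_step A hS r000000 r000000_fix (fun i hi => ?_) (fun i hi => ?_) ?_
  · replace hi : i < 5 := hi
    exact allFrom_get _ r000000_mem0 i (by omega) (by omega)
  · replace hi : i < 31671 := hi
    rcases Nat.lt_or_ge i 6000 with h0 | h0
    · exact allFrom_get _ r000000_cand0 i (by omega) (by omega)
    rcases Nat.lt_or_ge i 12000 with h1 | h1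
    · exact allFrom_get _ r000000_cand1 i (by omega) (by omega)
    rcases Nat.lt_or_ge i 18000 with h2 | h2
    · exact allFrom_get _ r000000_cand2 i (by omega) (by omega)
    rcases Nat.lt_or_ge i 24000 with h3 | h3
    · exact allFrom_get _ r000000_cand3 i (by omega) (by omega)
    rcases Nat.lt_or_ge i 30000 with h4 | h4
    · exact allFrom_get _ r000000_cand4 i (by omega) (by omega)
    exact allFrom_get _ r000000_cand5 i (by omega) (by omega)
  · exact List.forall_mem_cons.2 ⟨r0000000_good A hS, List.forall_mem_nil _⟩

theorem r00000_good : Based.Good A std r00000_pre := by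
  refine Based.good_step A hS r00000 r00000_fix (fun i hi => ?_) (fun i hi => ?_) ?_
  · replace hi : i < 6 := hi
    exact allFrom_get _ r00000_mem0 i (by omega) (by omega)
  · replace hi : i < 31671 := hi
    rcases Nat.lt_or_ge i 6000 with h0 | h0
    · exact allFrom_get _ r00000_cand0 i (by omega) (by omega)
    rcases Nat.lt_or_ge i 12000 with h1 | h1
    · exact allFrom_get _ r00000_cand1 i (by omega) (by omega)
    rcases Nat.lt_or_ge i 18000 with h2 | h2
    · exact allFrom_get _ r00000_cand2 i (by omega) (by omega)
    rcases Nat.lt_or_ge i 24000 with h3 | h3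
    · exact allFrom_get _ r00000_cand3 i (by omega) (by omega)
    rcases Nat.lt_or_ge i 30000 with h4 | h4
    · exact allFrom_get _ r00000_cand4 i (by omega) (by omega)
    exact allFrom_get _ r00000_cand5 i (by omega) (by omega)
  · exact List.forall_mem_cons.2 ⟨r000000_good A hS, List.forall_mem_nil _⟩

theorem r0000_good : Based.Good A std r0000_pre := by
  refine Based.good_step A hS r0000 r0000_fix (fun i hi => ?_) (fun i hi => ?_) ?_
  · replace hi : i < 42 := hi
    exact allFrom_get _ r0000_mem0 i (by omega) (by omega)
  · replace hi : i < 31671 := hi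
    rcases Nat.lt_or_ge i 6000 with h0 | h0
    · exact allFrom_get _ r0000_cand0 i (by omega) (by omega)
    rcases Nat.lt_or_ge i 12000 with h1 | h1
    · exact allFrom_get _ r0000_cand1 i (by omega) (by omega)
    rcases Nat.lt_or_ge i 18000 with h2 | h2
    · exact allFrom_get _ r0000_cand2 i (by omega) (by omega)
    rcases Nat.lt_or_ge i 24000 with h3 | h3
    · exact allFrom_get _ r0000_cand3 i (by omega) (by omega)
    rcases Nat.lt_or_ge i 30000 with h4 | h4
    · exact allFrom_get _ r0000_cand4 i (by omega) (by omega)
    exact allFrom_get _ r0000_cand5 i (by omega) (by omega)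
  · exact List.forall_mem_cons.2 ⟨r00000_good A hS, List.forall_mem_cons.2 ⟨r00001_good A hS, List.forall_mem_nil _⟩⟩

theorem r000_good : Based.Good A std r000_pre := by
  refine Based.good_step A hS r000 r000_fix (fun i hi => ?_) (fun i hi => ?_) ?_
  · replace hi : i < 288 := hi
    exact allFrom_get _ r000_mem0 i (by omega) (by omega)
  · replace hi : i < 31671 := hi
    rcases Nat.lt_or_ge i 6000 with h0 | h0
    · exact allFrom_get _ r000_cand0 i (by omega) (by omega)
    rcases Nat.lt_or_ge i 12000 with h1 | h1
    · exact allFrom_get _ r000_cand1 i (by omega) (by omega)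
    rcases Nat.lt_or_ge i 18000 with h2 | h2
    · exact allFrom_get _ r000_cand2 i (by omega) (by omega)
    rcases Nat.lt_or_ge i 24000 with h3 | h3
    · exact allFrom_get _ r000_cand3 i (by omega) (by omega)
    rcases Nat.lt_or_ge i 30000 with h4 | h4
    · exact allFrom_get _ r000_cand4 i (by omega) (by omega)
    exact allFrom_get _ r000_cand5 i (by omega) (by omega)
  · exact List.forall_mem_cons.2 ⟨r0000_good A hS, List.forall_mem_nil _⟩

theorem r00_good : Based.Good A std r00_pre := by
  refine Based.good_step A hS r00 r00_fix (fun i hi => ?_) (fun i hi => ?_) ?_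
  · replace hi : i < 3159 := hi
    exact allFrom_get _ r00_mem0 i (by omega) (by omega)
  · replace hi : i < 31671 := hi
    rcases Nat.lt_or_ge i 6000 with h0 | h0
    · exact allFrom_get _ r00_cand0 i (by omega) (by omega)
    rcases Nat.lt_or_ge i 12000 with h1 | h1
    · exact allFrom_get _ r00_cand1 i (by omega) (by omega)
    rcases Nat.lt_or_ge i 18000 with h2 | h2
    · exact allFrom_get _ r00_cand2 i (by omega) (by omega)
    rcases Nat.lt_or_ge i 24000 with h3 | h3
    · exact allFrom_get _ r00_cand3 i (by omega) (by omega)
    rcases Nat.lt_or_ge i 30000 with h4 | h4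
    · exact allFrom_get _ r00_cand4 i (by omega) (by omega)
    exact allFrom_get _ r00_cand5 i (by omega) (by omega)
  · exact List.forall_mem_cons.2 ⟨r000_good A hS, List.forall_mem_nil _⟩

theorem r0_good : Based.Good A std r0_pre := by
  refine Based.good_step A hS r0 r0_fix (fun i hi => ?_) (fun i hi => ?_) ?_
  · replace hi : i < 28160 := hi
    rcases Nat.lt_or_ge i 6000 with h0 | h0
    · exact allFrom_get _ r0_mem0 i (by omega) (by omega)
    rcases Nat.lt_or_ge i 12000 with h1 | h1
    · exact allFrom_get _ r0_mem1 i (by omega) (by omega)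
    rcases Nat.lt_or_ge i 18000 with h2 | h2
    · exact allFrom_get _ r0_mem2 i (by omega) (by omega)
    rcases Nat.lt_or_ge i 24000 with h3 | h3
    · exact allFrom_get _ r0_mem3 i (by omega) (by omega)
    exact allFrom_get _ r0_mem4 i (by omega) (by omega)
  · replace hi : i < 31671 := hi
    rcases Nat.lt_or_ge i 6000 with h0 | h0
    · exact allFrom_get _ r0_cand0 i (by omega) (by omega)
    rcases Nat.lt_or_ge i 12000 with h1 | h1
    · exact allFrom_get _ r0_cand1 i (by omega) (by omega)
    rcases Nat.lt_or_ge i 18000 with h2 | h2
    · exact allFrom_get _ r0_cand2 i (by omega) (by omega)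
    rcases Nat.lt_or_ge i 24000 with h3 | h3
    · exact allFrom_get _ r0_cand3 i (by omega) (by omega)
    rcases Nat.lt_or_ge i 30000 with h4 | h4
    · exact allFrom_get _ r0_cand4 i (by omega) (by omega)
    exact allFrom_get _ r0_cand5 i (by omega) (by omega)
  · exact List.forall_mem_cons.2 ⟨r00_good A hS, List.forall_mem_nil _⟩

/-- Every diagram tuple is conjugate to the standard one. -/
theorem all_good : Based.Good A std [] :=
  Based.good_root A hS 0 (show (0 : ℕ) < 10 by omega) (r0_good A hS)

end CfsgLib.KnownA.FischerOut.T23
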