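import Cfsg.Prelude.Def_KGroupFacts
import Cfsg.Agent.Lib.KnownA.FischerOut.T23Eleven
import Cfsg.Agent.Lib.KnownA.FischerOut.T23Tree

/-!
The outer automorphism group of the presented Fi23 is trivial.
-/

set_option autoImplicit false
set_option maxRecDepth 100000

namespace CfsgLib.KnownA.FischerOut.T23

open CfsgLib.InvChar CfsgLib.InvChar.Coset Cfsg.Spor CfsgLib.KnownA.FischerOut.Based

theorem card_out : Nat.card (Cfsg.Out Fi23) = 1 := by
  haveI := SporFi23.finite
  have hS : Based.Std act std := hStd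
  rw [Nat.card_eq_one_iff_unique]
  refine ⟨⟨fun a b => ?_⟩, ⟨1⟩⟩
  have h1 : ∀ q : Cfsg.Out Fi23, q = 1 := by
    intro q
    induction q using QuotientGroup.induction_on with
    | _ φ =>
      obtain ⟨g, rfl⟩ := Based.exists_conj act hS φ (apply_zero φ)
        ((by decide +kernel : ∀ i < 10, ∀ j < 10, std.getD i 0 = std.getD j 0 → i = j)) (all_good act hS)
      exact (QuotientGroup.eq_one_iff _).2 (MonoidHom.mem_range.2 ⟨g, rfl⟩ : MulAut.conj g ∈ Cfsg.Inn Fi23)
  rw [h1 a, h1 b]

end CfsgLib.KnownA.FischerOut.T23
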